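import Cfsg.Agent.Lib.O8Three.Lifts

/-!
S3372: cores of pairs of coordinates, and the three properties of the centraliser of the involution which the
block theorem and the recognition of `Sym(9)` give.
-/

set_option autoImplicit false
set_option linter.style.haveILetI false
set_option linter.unusedSectionVars false

namespace Cfsg.Agent.O8Three

open Subgroup

namespace Setting

variable {G : Type*} [Group G] [Finite G] (S : Setting G)

/-- A core in the centraliser of two coordinates and the involution. -/
structure PairCore (i j : Fin 3) (P : Subgroup G) : Prop where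
  t_mem : S.F.t ∈ P
  small : Nat.card P ≤ 8
  two : ∀ p ∈ P, p * p = 1
  le : ∀ p ∈ P, Commute p (S.e i) ∧ Commute p (S.e j) ∧ Commute p S.F.t
  nor : ∀ c, Commute c (S.e i) → Commute c (S.e j) → Commute c S.F.t → ∀ p ∈ P, c * p * c⁻¹ ∈ P
  dec : ∀ c, Commute c (S.e i) → Commute c (S.e j) → Commute c S.F.t → ∃ p ∈ P, p⁻¹ * c ∈ S.N

/-- The involution alone is a core, if the centraliser of the pair is in the normaliser. -/
theorem trivial_core {i j : Fin 3}
    (h : ∀ c, Commute c (S.e i) → Commute c (S.e j) → Commute c S.F.t → c ∈ S.N) :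
    S.PairCore i j (zpowers S.F.t) where
  t_mem := mem_zpowers _
  small := by
    haveI : Fact (Nat.Prime 2) := ⟨Nat.prime_two⟩
    rw [Nat.card_zpowers, orderOf_eq_prime (by rw [pow_two]; exact S.t_sq) S.t_not_one]
    norm_num
  two p hp := by
    obtain ⟨k, rfl⟩ := mem_zpowers_iff.1 hp
    rw [← (Commute.refl S.F.t).mul_zpow, S.t_sq, one_zpow]
  le p hp := by
    obtain ⟨k, rfl⟩ := mem_zpowers_iff.1 hp
    exact ⟨(S.commute_t_iff.2 (evv_norm i).2).zpow_left k, (S.commute_t_iff.2 (evv_norm j).2).zpow_left k,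
      (Commute.refl _).zpow_left k⟩
  nor c _ _ hct p hp := by
    obtain ⟨k, rfl⟩ := mem_zpowers_iff.1 hp
    rw [(hct.zpow_right k).eq, mul_inv_cancel_right]
    exact hp
  dec c h1 h2 hct := ⟨1, one_mem _, by rw [inv_one, one_mul]; exact h c h1 h2 hct⟩

/-- A core of the last pair of coordinates commutes with the group of order eight modulo the involution. -/
def CoreComm : Prop := ∀ P : Subgroup G, S.PairCore 1 2 P → ∀ p ∈ P, ∀ r ∈ S.R, p * r * p⁻¹ * r⁻¹ ∈ zpowers S.F.t

/-- The centraliser of a coordinate and the involution normalises the torus. -/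
def OneNorm : Prop := ∀ g, Commute g S.F.t → Commute g (S.e 0) → g ∈ S.N

/-- The centraliser of `u` and the involution is a group of order thirty-two times its part in the normaliser. -/
def TwoCore : Prop := ∃ R : Subgroup G, Nat.card R = 32 ∧ S.F.t ∈ R ∧
  (∀ r ∈ R, Commute r S.F.t ∧ Commute r S.K.p3) ∧
  (∀ c, Commute c S.F.t → Commute c S.K.p3 → ∀ r ∈ R, c * r * c⁻¹ ∈ R) ∧
  ∀ c, Commute c S.F.t → Commute c S.K.p3 → ∃ r ∈ R, r⁻¹ * c ∈ S.N

end Setting

end Cfsg.Agent.O8Three
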