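import Cfsg.Agent.Lib.O8Three.Eight
import Cfsg.Agent.Lib.O8Three.Cores

/-!
S3372, quotient `SL(2,3) × 2`: the centraliser of a coordinate normalises the torus, if the cores of pairs commute
with the group of order eight modulo the involution.
-/

set_option autoImplicit false
set_option linter.style.haveILetI false
set_option linter.unusedSectionVars false
set_option maxRecDepth 20000
set_option synthInstance.maxSize 5000

namespace Cfsg.Agent.O8Three

open Subgroup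
open Cfsg.Agent.HeisSLThree (pw pw_add pw_zero pw_one)
open Cfsg.Agent.ThreeTI.Cube (V)
open Cfsg.Agent.S9Three (act v1 v2 eps)

/-- The word with the given sign changes. -/
def diagW (p q r : Bool) : List (Fin 4) :=
  (if p then flipW 0 else []) ++ (if q then flipW 1 else []) ++ if r then flipW 2 else []

theorem diagW_spec : ∀ p q r : Bool, mulM MT (evW (diagW p q r)) = mulM (evW (diagW p q r)) MT ∧
    ∀ i : Fin 3, app (evW (diagW p q r)) (evv i) = evv i ∨ app (evW (diagW p q r)) (evv i) = -evv i := by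
  decide +kernel

theorem diagW_cover : ∀ v : V4, v.2.1 = 0 → qf v = 0 → v ≠ 0 →
    ∃ p q r : Bool, app (evW (diagW p q r)) b1 = v := by decide +kernel

theorem diagW_sum : ∀ v : V4, v.2.1 = 0 →
    (∀ p q r : Bool, (app (evW (diagW p q r)) v).2.2.2 = 0) → v = 0 := by decide +kernel

theorem shift_zero : ∀ i : Fin 3, i ≠ 0 → ∀ a : ZMod 3, qf (evv i + smulV a (evv 0)) = qf (evv i) → a = 0 := by
  decide +kernel

theorem perm_fix_zero : ∀ σ : Equiv.Perm (Fin 3), σ 0 = 0 → ∀ i, σ (σ i) = i := by decide +kernel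

theorem evv0_ne : ∀ i : Fin 3, (evv 0 = evv i ∨ evv 0 = -evv i) → i = 0 := by decide +kernel

/-- An element commuting with two involutions of a group of exponent dividing six. -/
theorem invol_commute {H : Type*} [Group H] {c d : H} (hc : c * c = 1) (hd : d * d = 1)
    (h3 : (c * d * c * d) ^ 3 = 1) (hk : Commute c (c * d * c * d)) : c * d = d * c := by
  have hci : c⁻¹ = c := inv_eq_of_mul_eq_one_right hc
  have hdi : d⁻¹ = d := inv_eq_of_mul_eq_one_right hd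
  have e : (c * d * c * d)⁻¹ = c * (c * d * c * d) * c := by
    rw [show c * (c * d * c * d) * c = c * c * (d * c * d * c) by group, hc, one_mul, mul_inv_rev, mul_inv_rev,
      mul_inv_rev, hci, hdi]
    group
  rw [hk.eq, mul_assoc (c * d * c * d), hc, mul_one] at e
  have h1 : c * d * c * d = 1 := by
    obtain ⟨k, hk'⟩ : ∃ k, k = c * d * c * d := ⟨_, rfl⟩
    rw [← hk'] at e h3 ⊢
    have h2 : k * k = 1 := by nth_rw 1 [← e]; exact inv_mul_cancel k
    rwa [pow_succ, pow_two, h2, one_mul] at h3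
  have h4 := mul_eq_one_iff_eq_inv.1 h1
  rw [hdi] at h4
  calc c * d = c * d * (c * c) := by rw [hc, mul_one]
    _ = d * c := by rw [← mul_assoc, h4]

namespace Setting

variable {G : Type*} [Group G] [Finite G] (S : Setting G)

theorem e_cube (i : Fin 3) : S.e i ^ 3 = 1 := S.K.exp _ (S.K.φ_mem _)

theorem e_comm_t (i : Fin 3) : Commute S.F.t (S.e i) := S.commute_t_iff.2 (evv_norm i).2

theorem sq_mem_Z0 {c : S.C0} (h : S.π0 c = 1) : (c : G) ^ 3 = 1 := by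
  obtain ⟨a, ha⟩ := S.π0_eq_one.1 h
  rw [ha]
  exact S.K.exp _ (S.K.φ_mem _)

theorem comm_Z0 {c z : S.C0} (h : S.π0 z = 1) : Commute (c : G) z := by
  obtain ⟨a, ha⟩ := S.π0_eq_one.1 h
  rw [ha, S.K.φ_smul]
  exact (S.mem_C0.1 c.2).pow_right _

/-- Involutions commuting modulo the coordinate commute. -/
theorem lift_commute {c d : S.C0} (hc : (c : G) * c = 1) (hd : (d : G) * d = 1)
    (h : S.π0 c * S.π0 d = S.π0 d * S.π0 c) : Commute (c : G) d := by
  have h1 : S.π0 (c * d * c * d) = 1 := by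
    have ec : S.π0 c * S.π0 c = 1 := by rw [← map_mul, show c * c = 1 from Subtype.ext hc, map_one]
    have ed : S.π0 d * S.π0 d = 1 := by rw [← map_mul, show d * d = 1 from Subtype.ext hd, map_one]
    rw [map_mul, map_mul, map_mul, h, mul_assoc (S.π0 d), ec, mul_one, ed]
  exact invol_commute hc hd (S.sq_mem_Z0 h1) (S.comm_Z0 h1)

/-- The involution in the centraliser of the coordinate. -/
abbrev t0 : S.C0 := ⟨S.F.t, S.mem_C0.2 (S.e_comm_t 0)⟩

/-- The involutions over a core. -/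
def liftP (P : Subgroup S.Y0) (h2 : ∀ p ∈ P, p * p = 1) : Subgroup G where
  carrier := {g | ∃ hg : g ∈ S.C0, S.π0 ⟨g, hg⟩ ∈ P ∧ g * g = 1}
  one_mem' := ⟨one_mem _, by rw [show (⟨1, one_mem _⟩ : S.C0) = 1 from rfl, map_one]; exact one_mem _, one_mul _⟩
  mul_mem' := by
    rintro a b ⟨ha, ha', haa⟩ ⟨hb, hb', hbb⟩
    have hc : Commute a b := S.lift_commute (c := ⟨a, ha⟩) (d := ⟨b, hb⟩) haa hbb (by
      have h := h2 _ (mul_mem ha' hb')
      have ea := inv_eq_of_mul_eq_one_right (h2 _ ha')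
      have eb := inv_eq_of_mul_eq_one_right (h2 _ hb')
      rw [← mul_left_inj (S.π0 ⟨a, ha⟩ * S.π0 ⟨b, hb⟩), h, show S.π0 ⟨b, hb⟩ * S.π0 ⟨a, ha⟩ *
        (S.π0 ⟨a, ha⟩ * S.π0 ⟨b, hb⟩) = S.π0 ⟨b, hb⟩ * (S.π0 ⟨a, ha⟩ * S.π0 ⟨a, ha⟩) * S.π0 ⟨b, hb⟩ by group,
        h2 _ ha', mul_one, h2 _ hb'])
    refine ⟨mul_mem ha hb, mul_mem ha' hb', ?_⟩
    rw [show a * b * (a * b) = a * (b * a) * b by group, ← hc.eq, show a * (a * b) * b = (a * a) * (b * b) by group,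
      haa, hbb, one_mul]
  inv_mem' := by
    rintro a ⟨ha, ha', haa⟩
    rw [inv_eq_of_mul_eq_one_right haa]
    exact ⟨ha, ha', haa⟩

theorem exists_liftP {P : Subgroup S.Y0} (h2 : ∀ p ∈ P, p * p = 1) {p : S.Y0} (hp : p ∈ P) :
    ∃ g : S.C0, S.π0 g = p ∧ (g : G) ∈ S.liftP P h2 := by
  obtain ⟨c, rfl⟩ := QuotientGroup.mk'_surjective S.Z0 p
  have he : S.π0 (c * c * c) = S.π0 c := by rw [map_mul, map_mul, h2 _ hp, one_mul]
  refine ⟨c * c * c, he, (c * c * c).2, he ▸ hp, ?_⟩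
  have h := S.sq_mem_Z0 (c := c * c) (by rw [map_mul]; exact h2 _ hp)
  rw [pow_succ, pow_two, Subgroup.coe_mul] at h
  rw [Subgroup.coe_mul, Subgroup.coe_mul, ← h]
  group

/-- The involutions over a core form a core of a pair of coordinates. -/
theorem liftP_core {a b : V} {i : Fin 3} (hi : i ≠ 0) (ha : coV a = evv i) {P : Subgroup S.Y0}
    (hP : Nine.Core S.θ0 (S.π0 S.t0) a b P) : S.PairCore 0 i (S.liftP P hP.two) where
  t_mem := ⟨_, hP.n_mem, S.t_sq⟩
  small := by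
    rw [← hP.card]
    refine Nat.card_le_card_of_injective
      (fun g : S.liftP P hP.two => (⟨S.π0 ⟨g, g.2.1⟩, g.2.2.1⟩ : P)) fun x y h => Subtype.ext ?_
    obtain ⟨x, hx0, hx, hxx⟩ := x
    obtain ⟨y, hy0, hy, hyy⟩ := y
    have e : S.π0 ⟨x, hx0⟩ = S.π0 ⟨y, hy0⟩ := congrArg Subtype.val h
    have hxy : S.π0 (⟨x, hx0⟩ * ⟨y, hy0⟩) = 1 := by rw [map_mul, e, hP.two _ hy]
    have h3 : (x * y) ^ 3 = 1 := S.sq_mem_Z0 hxy
    have hc : Commute x y := S.lift_commute (c := ⟨x, hx0⟩) (d := ⟨y, hy0⟩) hxx hyy (by rw [e])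
    have h2 : x * y * (x * y) = 1 := by
      rw [show x * y * (x * y) = x * (y * x) * y by group, ← hc.eq,
        show x * (x * y) * y = (x * x) * (y * y) by group, hxx, hyy, one_mul]
    rw [pow_succ, pow_two, h2, one_mul] at h3
    show x = y
    rw [← mul_inv_eq_one, inv_eq_of_mul_eq_one_right hyy, h3]
  two p hp := hp.2.2
  le := by
    rintro p ⟨h0, hp, hpp⟩
    obtain ⟨h1, h2⟩ := mem_inf.1 (hP.le hp)
    refine ⟨S.mem_C0.1 h0, ?_, S.lift_commute (c := ⟨p, h0⟩) (d := S.t0) hpp S.t_sq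
      (mem_centralizer_singleton_iff.1 h2)⟩
    have e : S.π0 (⟨p, h0⟩ * ⟨S.K.φ (coV a), S.A_le_C0 (S.K.φ_mem _)⟩ * (⟨p, h0⟩ : S.C0)⁻¹) = S.θ0 a := by
      rw [map_mul, map_mul, map_inv, ← S.θ0_apply]
      exact mul_inv_eq_iff_eq_mul.2 (mem_centralizer_singleton_iff.1 h1)
    obtain ⟨x, hx⟩ := S.π0_eq_θ.1 e
    have hx' : p * S.K.φ (coV a) * p⁻¹ = S.K.φ (coV a + smulV x (evv 0)) := hx
    rw [ha] at hx'
    obtain rfl := shift_zero i hi x (S.qf_fusion hx')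
    rw [show evv i + smulV 0 (evv 0) = evv i by simp [smulV, ← Prod.zero_eq_mk]] at hx'
    exact mul_inv_eq_iff_eq_mul.1 hx'
  nor := by
    rintro c h0 hi' ht p ⟨hp0, hp, hpp⟩
    refine ⟨mul_mem (mul_mem (S.mem_C0.2 h0) hp0) (inv_mem (S.mem_C0.2 h0)), ?_, ?_⟩
    · have h := hP.norm (S.π0 ⟨c, S.mem_C0.2 h0⟩) (mem_inf.2 ⟨mem_centralizer_singleton_iff.2 ?_,
        mem_centralizer_singleton_iff.2 ?_⟩) _ hp
      · rwa [← map_inv, ← map_mul, ← map_mul] at h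
      · rw [S.θ0_apply, ← map_mul, ← map_mul]
        exact congrArg _ (Subtype.ext (by show c * S.K.φ (coV a) = S.K.φ (coV a) * c; rw [ha]; exact hi'.eq))
      · rw [← map_mul, ← map_mul]
        exact congrArg _ (Subtype.ext ht.eq)
    · rw [show c * p * c⁻¹ * (c * p * c⁻¹) = c * (p * p) * c⁻¹ by group, hpp]
      group
  dec := by
    intro c h0 hi' ht
    obtain ⟨p, hp, hpc⟩ := hP.dec (S.π0 ⟨c, S.mem_C0.2 h0⟩) (mem_inf.2 ⟨mem_centralizer_singleton_iff.2 (by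
        rw [S.θ0_apply, ← map_mul, ← map_mul]
        exact congrArg _ (Subtype.ext (by show c * S.K.φ (coV a) = S.K.φ (coV a) * c; rw [ha]; exact hi'.eq))),
      mem_centralizer_singleton_iff.2 (by
        rw [← map_mul, ← map_mul]
        exact congrArg _ (Subtype.ext ht.eq))⟩)
    obtain ⟨g, rfl, hg⟩ := S.exists_liftP hP.two hp
    rw [← map_inv, ← map_mul] at hpc
    exact ⟨g, hg, S.mem_NJ0.1 hpc⟩

/-- A core is carried to a core. -/
theorem PairCore.map {i j i' j' : Fin 3} {P : Subgroup G} (hP : S.PairCore i j P) {m : G} (hm : m ∈ S.N)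
    (hmt : Commute m S.F.t) (hi : m * S.e i * m⁻¹ = S.e i' ∨ m * S.e i * m⁻¹ = (S.e i')⁻¹)
    (hj : m * S.e j * m⁻¹ = S.e j' ∨ m * S.e j * m⁻¹ = (S.e j')⁻¹) :
    S.PairCore i' j' (P.map (MulAut.conj m).toMonoidHom) := by
  have fwd : ∀ {k k' : Fin 3}, (m * S.e k * m⁻¹ = S.e k' ∨ m * S.e k * m⁻¹ = (S.e k')⁻¹) →
      ∀ p, Commute p (S.e k) → Commute (m * p * m⁻¹) (S.e k') := by
    intro k k' h p hp
    have h1 : Commute (m * p * m⁻¹) (m * S.e k * m⁻¹) := hp.map (MulAut.conj m)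
    rcases h with h | h <;> rw [h] at h1
    · exact h1
    · simpa using h1.inv_right
  have back : ∀ {k k' : Fin 3}, (m * S.e k * m⁻¹ = S.e k' ∨ m * S.e k * m⁻¹ = (S.e k')⁻¹) →
      ∀ p, Commute p (S.e k') → Commute (m⁻¹ * p * m) (S.e k) := by
    intro k k' h p hp
    have h0 : Commute p (m * S.e k * m⁻¹) := by
      rcases h with h | h <;> rw [h]
      exacts [hp, hp.inv_right]
    have h1 := h0.map (MulAut.conj m⁻¹)
    simpa [MulAut.conj_apply, mul_assoc] using h1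
  have hct : ∀ {p : G}, Commute p S.F.t → Commute (m⁻¹ * p * m) S.F.t := fun h =>
    (hmt.inv_left.mul_left h).mul_left hmt
  refine ⟨⟨S.F.t, hP.t_mem, by simp [hmt.eq]⟩, ?_, ?_, ?_, ?_, ?_⟩
  · rw [card_map_of_injective (MulAut.conj m).injective]
    exact hP.small
  · rintro _ ⟨p, hp, rfl⟩
    show m * p * m⁻¹ * (m * p * m⁻¹) = 1
    rw [show m * p * m⁻¹ * (m * p * m⁻¹) = m * (p * p) * m⁻¹ by group, hP.two p hp]
    group
  · rintro _ ⟨p, hp, rfl⟩
    obtain ⟨h1, h2, h3⟩ := hP.le p hp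
    exact ⟨fwd hi p h1, fwd hj p h2, (hmt.mul_left h3).mul_left hmt.inv_left⟩
  · rintro c h1 h2 h3 _ ⟨p, hp, rfl⟩
    refine ⟨_, hP.nor _ (back hi c h1) (back hj c h2) (hct h3) p hp, ?_⟩
    show m * (m⁻¹ * c * m * p * (m⁻¹ * c * m)⁻¹) * m⁻¹ = c * (m * p * m⁻¹) * c⁻¹
    group
  · intro c h1 h2 h3
    obtain ⟨p, hp, hN⟩ := hP.dec _ (back hi c h1) (back hj c h2) (hct h3)
    refine ⟨_, ⟨p, hp, rfl⟩, ?_⟩
    show (m * p * m⁻¹)⁻¹ * c ∈ S.N
    rw [show (m * p * m⁻¹)⁻¹ * c = m * (p⁻¹ * (m⁻¹ * c * m)) * m⁻¹ by group]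
    exact mul_mem (mul_mem hm hN) (inv_mem hm)

theorem PairCore.symm {i j : Fin 3} {P : Subgroup G} (hP : S.PairCore i j P) : S.PairCore j i P :=
  ⟨hP.t_mem, hP.small, hP.two, fun p hp => ⟨(hP.le p hp).2.1, (hP.le p hp).1, (hP.le p hp).2.2⟩,
    fun c h1 h2 => hP.nor c h2 h1, fun c h1 h2 => hP.dec c h2 h1⟩

theorem rel_mul {g h y : G} (hgt : Commute g S.F.t) (hg : g * y * g⁻¹ * y⁻¹ ∈ zpowers S.F.t)
    (hh : h * y * h⁻¹ * y⁻¹ ∈ zpowers S.F.t) : g * h * y * (g * h)⁻¹ * y⁻¹ ∈ zpowers S.F.t := by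
  obtain ⟨k, hk⟩ := mem_zpowers_iff.1 hh
  rw [show g * h * y * (g * h)⁻¹ * y⁻¹ = g * (h * y * h⁻¹ * y⁻¹) * g⁻¹ * (g * y * g⁻¹ * y⁻¹) by group, ← hk,
    (hgt.zpow_right k).eq, mul_inv_cancel_right]
  exact mul_mem (zpow_mem (mem_zpowers _) k) hg

/-- The elements commuting modulo the involution with the conjugates of the group of order eight. -/
def commR : Subgroup G where
  carrier := {g | Commute g S.F.t ∧ ∀ n ∈ S.N, Commute n S.F.t → ∀ r ∈ S.R,
    g * (n * r * n⁻¹) * g⁻¹ * (n * r * n⁻¹)⁻¹ ∈ zpowers S.F.t}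
  one_mem' := ⟨Commute.one_left _, fun n _ _ r _ => by simp⟩
  mul_mem' := by
    rintro g h ⟨hg, hg'⟩ ⟨hh, hh'⟩
    exact ⟨hg.mul_left hh, fun n hn hnt r hr => S.rel_mul hg (hg' n hn hnt r hr) (hh' n hn hnt r hr)⟩
  inv_mem' := by
    rintro g ⟨hg, hg'⟩
    refine ⟨hg.inv_left, fun n hn hnt r hr => ?_⟩
    obtain ⟨k, hk⟩ := mem_zpowers_iff.1 (hg' n hn hnt r hr)
    refine mem_zpowers_iff.2 ⟨-k, ?_⟩
    have e : (S.F.t ^ k)⁻¹ = g⁻¹ * (S.F.t ^ k)⁻¹ * g := by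
      rw [((hg.zpow_right k).inv_left.inv_right).eq, inv_mul_cancel_right]
    rw [zpow_neg, e, hk]
    group

theorem conj_commR {g m : G} (hg : g ∈ S.commR) (hm : m ∈ S.N) (hmt : Commute m S.F.t) :
    m * g * m⁻¹ ∈ S.commR := by
  refine ⟨(hmt.mul_left hg.1).mul_left hmt.inv_left, fun n hn hnt r hr => ?_⟩
  obtain ⟨k, hk⟩ := mem_zpowers_iff.1 (hg.2 (m⁻¹ * n) (mul_mem (inv_mem hm) hn) (hmt.inv_left.mul_left hnt) r hr)
  refine mem_zpowers_iff.2 ⟨k, ?_⟩
  rw [show S.F.t ^ k = m * S.F.t ^ k * m⁻¹ by rw [(hmt.zpow_right k).eq, mul_inv_cancel_right], hk]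
  group

theorem core_le_commR (hcc : S.CoreComm) {P : Subgroup G} (hP : S.PairCore 1 2 P) : P ≤ S.commR := by
  intro p hp
  refine ⟨(hP.le p hp).2.2, fun n hn hnt r hr => ?_⟩
  obtain ⟨M, hM⟩ := S.acts_N hn
  have hv0 : (app M b1).2.1 = 0 := S.commute_t_iff.1 (by
    rw [← hM]
    exact ((hnt.symm.mul_right (S.commute_t_iff.2 rfl)).mul_right hnt.symm.inv_right))
  have hne : app M b1 ≠ 0 := fun h => by
    have h1 := hM b1
    rw [h, S.K.φ_zero, mul_inv_eq_one, mul_eq_left, S.K.φ_eq_one] at h1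
    exact absurd h1 (by decide)
  obtain ⟨a, b, c, hW⟩ := diagW_cover _ hv0 (by rw [S.qf_pres hM]; decide) hne
  obtain ⟨f, hf, hft⟩ := S.lift_word_t (diagW_spec a b c).1
  have hh : f⁻¹ * n ∈ S.F.toPair.toConf.Cz := S.mem_Cz.2 (mul_inv_eq_iff_eq_mul.1 (by
    rw [← S.K.φ_b1, show f⁻¹ * n * S.K.φ b1 * (f⁻¹ * n)⁻¹ = f⁻¹ * (n * S.K.φ b1 * n⁻¹) * f by group, hM, ← hW, ← hf]
    group))
  have hr' := S.R_norm hh (hft.inv_left.mul_left hnt) hr
  have hfN := S.mem_N_of_acts hf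
  have hfi : f⁻¹ ∈ S.N := inv_mem hfN
  have hd : ∀ i, f⁻¹ * S.e i * f⁻¹⁻¹ = S.e i ∨ f⁻¹ * S.e i * f⁻¹⁻¹ = (S.e i)⁻¹ := fun i => by
    have h1 := hf (evv i)
    rcases (diagW_spec a b c).2 i with e | e <;> rw [e] at h1
    · left
      rw [Setting.e]
      nth_rw 1 [← h1]
      group
    · right
      rw [S.φ_neg] at h1
      rw [Setting.e]
      calc f⁻¹ * S.K.φ (evv i) * f⁻¹⁻¹ = (f⁻¹ * (S.K.φ (evv i))⁻¹ * f)⁻¹ := by group
        _ = (S.K.φ (evv i))⁻¹ := by conv_lhs => rw [← h1]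
                                    group
  obtain ⟨k, hk⟩ := mem_zpowers_iff.1 (hcc _ (hP.map S hfi hft.inv_left (hd 1) (hd 2)) _ ⟨p, hp, rfl⟩ _ hr')
  refine mem_zpowers_iff.2 ⟨k, ?_⟩
  rw [show S.F.t ^ k = f * S.F.t ^ k * f⁻¹ by rw [(hft.zpow_right k).eq, mul_inv_cancel_right], hk]
  show f * (f⁻¹ * p * f⁻¹⁻¹ * _ * (f⁻¹ * p * f⁻¹⁻¹)⁻¹ * _) * f⁻¹ = _
  group

/-- Every core of two different coordinates lies in that group. -/
theorem pair_le_commR (hcc : S.CoreComm) {i : Fin 3} (hi : i ≠ 0) {P : Subgroup G} (hP : S.PairCore 0 i P) :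
    P ≤ S.commR := by
  obtain ⟨c, hc, hct⟩ := S.lift_word_t cycle_spec.1
  have hcN := S.mem_N_of_acts hc
  have hce : ∀ k, c * S.e k * c⁻¹ = S.e (k + 1) := fun k => by rw [Setting.e, Setting.e, hc, cycle_spec.2]
  intro p hp
  fin_cases i
  · exact absurd rfl hi
  · have h := S.core_le_commR hcc (hP.map S hcN hct (i' := 1) (j' := 2) (Or.inl (hce 0)) (Or.inl (hce 1)))
      ⟨p, hp, rfl⟩
    have h2 := S.conj_commR h (inv_mem hcN) hct.inv_left
    simpa [mul_assoc] using h2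
  · have hcc2 : ∀ k, c * c * S.e k * (c * c)⁻¹ = S.e (k + 1 + 1) := fun k => by
      rw [← hce (k + 1), ← hce k]; group
    have h := S.core_le_commR hcc (PairCore.symm S (hP.map S (mul_mem hcN hcN) (hct.mul_left hct) (i' := 2)
      (j' := 1) (Or.inl (hcc2 0)) (Or.inl (hcc2 2)))) ⟨p, hp, rfl⟩
    have h2 := S.conj_commR h (inv_mem (mul_mem hcN hcN)) (hct.mul_left hct).inv_left
    simpa [mul_assoc] using h2

/-- A 3-element commuting with the first coordinate and the involution and normalising the span lies in it. -/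
theorem three_norm_E {g : G} {n : ℕ} (hg : g ^ 3 ^ n = 1) (ht : Commute g S.F.t) (h0 : Commute g (S.e 0))
    (hN : ∀ i, g * S.e i * g⁻¹ ∈ S.E) : g ∈ S.E := by
  obtain ⟨σ, hσ⟩ := S.mono ht hN
  have hs0 : σ 0 = 0 := by
    have h1 : g * S.e 0 * g⁻¹ = S.e 0 := by rw [h0.eq, mul_inv_cancel_right]
    have h2 := hσ 0
    rw [h1, Setting.e, Setting.e, ← S.φ_neg] at h2
    rcases h2.imp (fun e => S.K.φ_inj e) (fun e => S.K.φ_inj e) with e | e
    · exact evv0_ne _ (Or.inl e)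
    · exact evv0_ne _ (Or.inr e)
  have hstep : ∀ i, g * g * S.e i * (g * g)⁻¹ = S.e i ∨ g * g * S.e i * (g * g)⁻¹ = (S.e i)⁻¹ := fun i => by
    have e : g * g * S.e i * (g * g)⁻¹ = g * (g * S.e i * g⁻¹) * g⁻¹ := by group
    rw [e]
    rcases hσ i with h1 | h1
    · rw [h1]
      have h2 := hσ (σ i)
      rwa [perm_fix_zero σ hs0 i] at h2
    · rw [h1, ← conj_inv]
      have h2 := hσ (σ i)
      rw [perm_fix_zero σ hs0 i] at h2
      rcases h2 with h2 | h2 <;> rw [h2]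
      · exact Or.inr rfl
      · exact Or.inl (inv_inv _)
  have h4 : ∀ i, Commute (g ^ 4) (S.e i) := fun i => by
    refine mul_inv_eq_iff_eq_mul.1 ?_
    have e : g ^ 4 * S.e i * (g ^ 4)⁻¹ = g * g * (g * g * S.e i * (g * g)⁻¹) * (g * g)⁻¹ := by
      simp only [pow_succ, pow_zero, one_mul, mul_inv_rev, mul_assoc]
    rw [e]
    rcases hstep i with h | h <;> rw [h]
    · exact h
    · rw [← conj_inv, h, inv_inv]
  have hgi : ∀ i, Commute g (S.e i) := fun i => by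
    have hd : orderOf g ∣ 3 ^ n := orderOf_dvd_of_pow_eq_one hg
    have hco : Nat.Coprime 4 (orderOf g) :=
      (Nat.Coprime.pow_right n (by norm_num : Nat.Coprime 4 3)).coprime_dvd_right hd
    obtain ⟨m, hm⟩ := exists_pow_eq_self_of_coprime hco
    rw [← hm]
    exact (h4 i).pow_left m
  rcases S.cent_E hgi ht with h | h
  · exact h
  · exfalso
    obtain ⟨e', he'⟩ : ∃ e', e' = S.F.t * g := ⟨_, rfl⟩
    have hte : g = S.F.t * e' := by rw [he', ← mul_assoc, S.t_sq, one_mul]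
    have hE3 : e' ^ 3 ^ n = e' ^ (3 ^ n % 3) := pow_eq_pow_mod _ (S.K.exp _ (S.E_le (he' ▸ h)))
    rw [hte, (S.E_comm_t (he' ▸ h)).mul_pow] at hg
    have ht2 : S.F.t ^ 3 ^ n = S.F.t := by
      have hodd : 3 ^ n % 2 = 1 := by rw [Nat.pow_mod]; norm_num
      rw [pow_eq_pow_mod _ (show S.F.t ^ 2 = 1 by rw [pow_two]; exact S.t_sq), hodd, pow_one]
    rw [ht2] at hg
    have h3 : S.F.t ^ 3 = 1 := by
      rw [mul_eq_one_iff_eq_inv] at hg
      rw [hg, inv_pow, ← pow_mul, mul_comm, pow_mul, S.K.exp _ (S.E_le (he' ▸ h)), one_pow, inv_one]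
    rw [pow_succ, pow_two, S.t_sq, one_mul] at h3
    exact S.t_not_one h3

theorem E_le_N : S.E ≤ S.N := S.E_le.trans S.A_le_N

/-- An element of order three of that group commuting with the coordinate has a conjugate in the span. -/
theorem exists_E_commR {x : G} (hx : x ∈ S.commR) (h0 : Commute x (S.e 0)) (h3 : x ^ 3 = 1) (h1 : x ≠ 1) :
    ∃ y ∈ S.E, y ∈ S.commR ∧ y ≠ 1 := by
  classical
  haveI : Fact (Nat.Prime 3) := ⟨Nat.prime_three⟩
  set K1 := S.commR ⊓ centralizer ({S.e 0} : Set G) with hK1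
  set H := S.E ⊔ K1 with hH
  have hEH : S.E ≤ H := le_sup_left
  have hxH : x ∈ H := mem_sup_right ⟨hx, mem_centralizer_singleton_iff.2 h0.eq⟩
  have hEc : ∀ e ∈ S.E, ∀ k, Commute e (S.e k) := fun e he k => S.K.comm e (S.E_le he) _ (S.K.φ_mem _)
  have hHC : ∀ g ∈ H, Commute g S.F.t ∧ Commute g (S.e 0) := by
    have hle : H ≤ centralizer ({S.F.t} : Set G) ⊓ centralizer ({S.e 0} : Set G) := sup_le
      (fun e he => ⟨mem_centralizer_singleton_iff.2 (S.E_comm_t he).symm.eq,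
        mem_centralizer_singleton_iff.2 (hEc e he 0).eq⟩)
      fun g hg => ⟨mem_centralizer_singleton_iff.2 hg.1.1.eq, hg.2⟩
    exact fun g hg => ⟨mem_centralizer_singleton_iff.1 (hle hg).1, mem_centralizer_singleton_iff.1 (hle hg).2⟩
  have hEK : ∀ e ∈ S.E, ∀ k ∈ K1, e * k * e⁻¹ ∈ K1 := fun e he k hk =>
    ⟨S.conj_commR hk.1 (S.E_le_N he) (S.E_comm_t he).symm,
      mem_centralizer_singleton_iff.2 ((((hEc e he 0).mul_left (mem_centralizer_singleton_iff.1 hk.2)).mul_left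
        (hEc e he 0).inv_left)).eq⟩
  have hnorm : H ≤ normalizer (K1 : Set G) := sup_le (fun e he => mem_normalizer_iff.2 fun k =>
    ⟨hEK e he k, fun hk => by
      have := hEK _ (inv_mem he) _ hk
      rwa [show e⁻¹ * (e * k * e⁻¹) * e⁻¹⁻¹ = k by group] at this⟩) le_normalizer
  have hE3 : IsPGroup 3 S.E := fun e => ⟨1, Subtype.ext (by simpa using S.K.exp _ (S.E_le e.2))⟩
  obtain ⟨P, hP⟩ := (hE3.comap_of_injective H.subtype H.subtype_injective).exists_le_sylow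
  set PG := (P : Subgroup H).map H.subtype with hPG
  have hEP : S.E ≤ PG := fun e he => ⟨⟨e, hEH he⟩, hP he, rfl⟩
  have hPGp : IsPGroup 3 PG := P.isPGroup'.map _
  have hPE : PG ≤ S.E := by
    by_contra hne
    haveI : Group.IsNilpotent ↥PG := hPGp.isNilpotent
    have hlt : S.E.subgroupOf PG < ⊤ := lt_top_iff_ne_top.2 fun e => hne (subgroupOf_eq_top.1 e)
    obtain ⟨⟨g, hgP⟩, hg, hgE⟩ := SetLike.exists_of_lt (Group.normalizerCondition_of_isNilpotent _ hlt)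
    obtain ⟨n, hn⟩ := hPGp ⟨g, hgP⟩
    obtain ⟨hgt, hg0⟩ := hHC g (map_subtype_le _ hgP)
    refine hgE (S.three_norm_E (n := n) (congrArg Subtype.val hn) hgt hg0 fun i => ?_)
    exact (mem_normalizer_iff.1 hg ⟨S.e i, hEP (subset_closure (Set.mem_range_self i))⟩).1
      (subset_closure (Set.mem_range_self i) : S.e i ∈ S.E)
  have hx3 : IsPGroup 3 (zpowers (⟨x, hxH⟩ : H)) := IsPGroup.of_card (n := 1) (by
    rw [Nat.card_zpowers, pow_one]
    exact orderOf_eq_prime (Subtype.ext h3) fun e => h1 (congrArg Subtype.val e))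
  obtain ⟨P2, hP2⟩ := hx3.exists_le_sylow
  obtain ⟨d, hd⟩ := MulAction.exists_smul_eq H P2 P
  have hy : d * ⟨x, hxH⟩ * d⁻¹ ∈ (P : Subgroup H) := by
    rw [← hd, Sylow.coe_subgroup_smul]
    exact Subgroup.smul_mem_pointwise_smul _ (MulAut.conj d) _ (hP2 (mem_zpowers _))
  refine ⟨(d : G) * x * (d : G)⁻¹, hPE ⟨_, hy, rfl⟩,
    ((mem_normalizer_iff.1 (hnorm d.2) x).1 ⟨hx, mem_centralizer_singleton_iff.2 h0.eq⟩).1, fun e => h1 ?_⟩
  rwa [mul_inv_eq_one, mul_eq_left] at e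

/-- The span meets that group trivially. -/
theorem E_inf_commR {y : G} (hy : y ∈ S.E) (hK : y ∈ S.commR) : y = 1 := by
  have hy3 := S.K.exp _ (S.E_le hy)
  have hexact : ∀ n ∈ S.N, Commute n S.F.t → ∀ r ∈ S.R, Commute (n⁻¹ * y * n) r := by
    intro n hn hnt r hr
    obtain ⟨k, hk⟩ := mem_zpowers_iff.1 (hK.2 n hn hnt r hr)
    obtain ⟨s, hs⟩ : ∃ s, s = n * r * n⁻¹ := ⟨_, rfl⟩
    rw [← hs] at hk
    obtain ⟨z, hz⟩ : ∃ z, z = S.F.t ^ k := ⟨_, rfl⟩
    rw [← hz] at hk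
    have hyz : Commute y z := hz ▸ (S.E_comm_t hy).symm.zpow_right k
    have h1 : y * s * y⁻¹ = z * s := mul_inv_eq_iff_eq_mul.1 hk.symm
    have h2 : z * z = 1 := by rw [hz, ← (Commute.refl S.F.t).mul_zpow, S.t_sq, one_zpow]
    have h3 : z * z * z * s = s := by
      calc z * z * z * s = y * (y * (y * s * y⁻¹) * y⁻¹) * y⁻¹ := by
            rw [h1, show y * (z * s) * y⁻¹ = (y * z * y⁻¹) * (y * s * y⁻¹) by group, h1, hyz.eq,
              mul_inv_cancel_right, show y * (z * (z * s)) * y⁻¹ = (y * z * y⁻¹) * ((y * z * y⁻¹) * (y * s * y⁻¹))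
                by group, h1, hyz.eq, mul_inv_cancel_right]
            group
        _ = y ^ 3 * s * (y ^ 3)⁻¹ := by simp only [pow_succ, pow_zero, one_mul, mul_inv_rev, mul_assoc]
        _ = s := by rw [hy3]; group
    rw [h2, one_mul, mul_eq_right] at h3
    rw [h3, one_mul, hs] at h1
    refine mul_inv_eq_iff_eq_mul.1 ?_
    calc n⁻¹ * y * n * r * (n⁻¹ * y * n)⁻¹ = n⁻¹ * (y * (n * r * n⁻¹) * y⁻¹) * n := by group
      _ = r := by rw [h1]; group
  have hlast : ∀ w : V4, w.2.1 = 0 → (∀ r ∈ S.R, Commute (S.K.φ w) r) → w.2.2.2 = 0 := by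
    intro w hw hc
    by_contra hd
    have hp4 : ∀ r ∈ S.R, Commute r S.K.p4 := fun r hr => by
      have c1 : Commute r (pw S.K.p1 w.1) := (S.mem_Cz.1 (S.R_le hr)).pow_right _
      have c3 : Commute r (pw S.K.p3 w.2.2.1) := (S.R_comm_U hr S.p3_mem).pow_right _
      have c := (hc r hr).symm
      rw [Coord.φ, hw, pw_zero, mul_one] at c
      have c4 : Commute r (pw S.K.p4 w.2.2.2) := by
        have := (c1.mul_right c3).inv_right.mul_right c
        rwa [inv_mul_cancel_left] at this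
      rcases zm3_cases _ hd with e | e <;> rw [e] at c4
      · rwa [pw_one] at c4
      · have h := c4.pow_right 2
        rw [pw, show (2 : ZMod 3).val = 2 from rfl, ← pow_mul, show 2 * 2 = 3 + 1 from rfl, pow_succ,
          S.K.exp _ S.K.m4, one_mul] at h
        exact h
    have hle : Nat.card S.R ≤ Nat.card ({1, S.F.t} : Set G) :=
      Nat.card_mono (Set.toFinite _) fun r hr => S.R_fix hr (hp4 r hr)
    rw [S.card_R, Nat.card_coe_set_eq, Set.ncard_pair (Ne.symm S.t_not_one)] at hle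
    omega
  obtain ⟨v, hv⟩ := S.K.φ_surj (S.E_le hy)
  have hv0 : v.2.1 = 0 := S.commute_t_iff.1 (hv ▸ S.E_comm_t hy)
  rw [← hv, S.K.φ_eq_one]
  refine diagW_sum v hv0 fun a b c => ?_
  obtain ⟨f, hf, hft⟩ := S.lift_word_t (diagW_spec a b c).1
  refine hlast _ (S.commute_t_iff.1 ?_) fun r hr => ?_
  · rw [← hf v]
    exact (hft.symm.mul_right (S.commute_t_iff.2 hv0)).mul_right hft.symm.inv_right
  · have h := hexact f⁻¹ (inv_mem (S.mem_N_of_acts hf)) hft.inv_left r hr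
    rwa [inv_inv, ← hv, hf v] at h

/-- **With the larger quotient, the centraliser of a coordinate normalises the torus.** -/
theorem one_norm_two (hd : S.δ = 2) (hcc : S.CoreComm) : ∀ g, Commute g (S.e 0) → g ∈ S.N := by
  classical
  by_cases hsmall : ∀ u, u ≠ 1 → S9Three.cg S.θ0 ![u] ≤ S9Three.NJ S.θ0
  · exact fun g hg => S.cent_small hd hsmall hg
  exfalso
  push Not at hsmall
  have hn : S9Three.Acts S.θ0 (S.π0 S.t0) eps := fun v => by
    rw [S.θ0_apply, S.θ0_apply, ← map_inv, ← map_mul, ← map_mul]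
    congr 1
    refine Subtype.ext ?_
    show S.F.t * S.K.φ (coV v) * S.F.t⁻¹ = S.K.φ (coV (act eps v))
    rw [S.acts_t, eps_map.2]
  have hn2 : S.π0 S.t0 * S.π0 S.t0 = 1 := by
    rw [← map_mul, show S.t0 * S.t0 = 1 from Subtype.ext S.t_sq, map_one]
  obtain ⟨P, Q, hP, hQ, p, hp, q, hq, h3⟩ := Nine.exists_cores (S.θ0_loc hd) hsmall hn hn2
  have hP' := S.liftP_core (i := 1) (by decide) coV_facts.1 hP
  have hQ' := S.liftP_core (i := 2) (by decide) coV_facts.2.1 hQ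
  obtain ⟨a, rfl, ha⟩ := S.exists_liftP hP.two hp
  obtain ⟨b, rfl, hb⟩ := S.exists_liftP hQ.two hq
  rw [← map_mul] at h3
  have h3' : 3 ∣ orderOf (a * b) := h3.trans (orderOf_map_dvd S.π0 (a * b))
  obtain ⟨k, hk⟩ := h3'
  have hpos : 0 < orderOf (a * b) := orderOf_pos _
  have hk0 : k ≠ 0 := by rintro rfl; omega
  have hord : orderOf ((a * b) ^ k) = 3 := by
    rw [orderOf_pow' _ hk0, hk, Nat.gcd_mul_left_left, Nat.mul_div_cancel _ (Nat.pos_of_ne_zero hk0)]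
  have hmem : (((a * b) ^ k : S.C0) : G) ∈ S.commR := by
    rw [SubgroupClass.coe_pow, Subgroup.coe_mul]
    exact pow_mem (mul_mem (S.pair_le_commR hcc (by decide) hP' ha) (S.pair_le_commR hcc (by decide) hQ' hb)) k
  obtain ⟨y, hy, hyK, hy1⟩ := S.exists_E_commR hmem (S.mem_C0.1 ((a * b) ^ k).2)
    (by rw [← SubgroupClass.coe_pow, ← hord, pow_orderOf_eq_one]; rfl)
    (fun e => by
      rw [show (a * b) ^ k = 1 from Subtype.ext e, orderOf_one] at hord
      omega)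
  exact hy1 (S.E_inf_commR hy hyK)

end Setting

end Cfsg.Agent.O8Three
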