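import Cfsg.Agent.Lib.HeisSLThree.Abstract
import Mathlib.GroupTheory.Sylow

/-!
S3372: coordinates on an elementary abelian group of order 81 and linear maps given by their columns.
-/

set_option autoImplicit false
set_option linter.style.haveILetI false
set_option linter.unusedSectionVars false

namespace Cfsg.Agent.O8Three

open Subgroup
open Cfsg.Agent.HeisSLThree (pw pw_add pw_zero pw_one)

/-- The vectors. -/
abbrev V4 := ZMod 3 × ZMod 3 × ZMod 3 × ZMod 3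

/-- A linear map given by the images of the four basis vectors. -/
abbrev M4 := V4 × V4 × V4 × V4

/-- The scalar multiple of a vector. -/
def smulV (k : ZMod 3) (v : V4) : V4 := (k * v.1, k * v.2.1, k * v.2.2.1, k * v.2.2.2)

/-- The value of a linear map. -/
def app (M : M4) (v : V4) : V4 :=
  smulV v.1 M.1 + smulV v.2.1 M.2.1 + smulV v.2.2.1 M.2.2.1 + smulV v.2.2.2 M.2.2.2

/-- The product of two linear maps. -/
def mulM (M N : M4) : M4 := (app M N.1, app M N.2.1, app M N.2.2.1, app M N.2.2.2)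

/-- The identity. -/
def oneM : M4 := ((1, 0, 0, 0), (0, 1, 0, 0), (0, 0, 1, 0), (0, 0, 0, 1))

/-- The basis vectors. -/
def b1 : V4 := (1, 0, 0, 0)
/-- The basis vectors. -/
def b2 : V4 := (0, 1, 0, 0)
/-- The basis vectors. -/
def b3 : V4 := (0, 0, 1, 0)
/-- The basis vectors. -/
def b4 : V4 := (0, 0, 0, 1)

theorem app_oneM : ∀ v, app oneM v = v := by decide +kernel

theorem app_smul (M : M4) (k : ZMod 3) (v : V4) : app M (smulV k v) = smulV k (app M v) := by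
  simp only [app, smulV]
  ext <;> simp <;> ring

theorem app_add (M : M4) (u v : V4) : app M (u + v) = app M u + app M v := by
  simp only [app, smulV]
  ext <;> simp <;> ring

theorem app_mulM (M N : M4) (v : V4) : app (mulM M N) v = app M (app N v) := by
  simp only [app, mulM, smulV]
  ext <;> simp <;> ring

/-- Four commuting elements of exponent three spanning a subgroup of order 81. -/
structure Coord (G : Type*) [Group G] where
  /-- the subgroup -/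
  A : Subgroup G
  /-- the first element -/
  p1 : G
  /-- the second element -/
  p2 : G
  /-- the third element -/
  p3 : G
  /-- the fourth element -/
  p4 : G
  comm : ∀ a ∈ A, ∀ b ∈ A, Commute a b
  exp : ∀ a ∈ A, a ^ 3 = 1
  card : Nat.card A = 81
  gen : A = closure ({p1, p2, p3, p4} : Set G)

namespace Coord

variable {G : Type*} [Group G] (K : Coord G)

theorem m1 : K.p1 ∈ K.A := K.gen.symm ▸ subset_closure (by simp)
theorem m2 : K.p2 ∈ K.A := K.gen.symm ▸ subset_closure (by simp)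
theorem m3 : K.p3 ∈ K.A := K.gen.symm ▸ subset_closure (by simp)
theorem m4 : K.p4 ∈ K.A := K.gen.symm ▸ subset_closure (by simp)

/-- The element of a vector. -/
def φ (v : V4) : G := pw K.p1 v.1 * pw K.p2 v.2.1 * pw K.p3 v.2.2.1 * pw K.p4 v.2.2.2

theorem φ_mem (v : V4) : K.φ v ∈ K.A :=
  mul_mem (mul_mem (mul_mem (pow_mem K.m1 _) (pow_mem K.m2 _)) (pow_mem K.m3 _)) (pow_mem K.m4 _)

theorem φ_add (u v : V4) : K.φ (u + v) = K.φ u * K.φ v := by
  have e : ∀ {a b : G}, a ∈ K.A → b ∈ K.A → ∀ i j : ZMod 3, Commute (pw a i) (pw b j) := fun ha hb i j =>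
    K.comm _ (pow_mem ha _) _ (pow_mem hb _)
  simp only [φ, Prod.fst_add, Prod.snd_add, pw_add (K.exp _ K.m1), pw_add (K.exp _ K.m2),
    pw_add (K.exp _ K.m3), pw_add (K.exp _ K.m4)]
  obtain ⟨a, ha⟩ : ∃ a, a = pw K.p1 u.1 := ⟨_, rfl⟩
  obtain ⟨b, hb⟩ : ∃ b, b = pw K.p2 u.2.1 := ⟨_, rfl⟩
  obtain ⟨c, hc⟩ : ∃ c, c = pw K.p3 u.2.2.1 := ⟨_, rfl⟩
  obtain ⟨d, hd⟩ : ∃ d, d = pw K.p4 u.2.2.2 := ⟨_, rfl⟩
  obtain ⟨a', ha'⟩ : ∃ a, a = pw K.p1 v.1 := ⟨_, rfl⟩
  obtain ⟨b', hb'⟩ : ∃ b, b = pw K.p2 v.2.1 := ⟨_, rfl⟩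
  obtain ⟨c', hc'⟩ : ∃ c, c = pw K.p3 v.2.2.1 := ⟨_, rfl⟩
  have h1 : Commute (b * c * d) a' := by
    subst hb hc hd ha'
    exact ((e K.m2 K.m1 _ _).mul_left (e K.m3 K.m1 _ _)).mul_left (e K.m4 K.m1 _ _)
  have h2 : Commute (c * d) b' := by
    subst hc hd hb'
    exact (e K.m3 K.m2 _ _).mul_left (e K.m4 K.m2 _ _)
  have h3 : Commute d c' := by
    subst hd hc'
    exact e K.m4 K.m3 _ _
  rw [← ha, ← hb, ← hc, ← hd, ← ha', ← hb', ← hc']
  obtain ⟨d', hd'⟩ : ∃ d, d = pw K.p4 v.2.2.2 := ⟨_, rfl⟩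
  rw [← hd']
  symm
  calc a * b * c * d * (a' * b' * c' * d') = a * ((b * c * d) * a') * (b' * c' * d') := by group
    _ = a * a' * b * ((c * d) * b') * (c' * d') := by rw [h1.eq]; group
    _ = a * a' * b * b' * c * (d * c') * d' := by rw [h2.eq]; group
    _ = a * a' * (b * b') * (c * c') * (d * d') := by rw [h3.eq]; group

theorem φ_zero : K.φ 0 = 1 := by simp [φ, pw_zero]

theorem φ_b1 : K.φ b1 = K.p1 := by simp [φ, b1, pw_zero, pw_one]
theorem φ_b2 : K.φ b2 = K.p2 := by simp [φ, b2, pw_zero, pw_one]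
theorem φ_b3 : K.φ b3 = K.p3 := by simp [φ, b3, pw_zero, pw_one]
theorem φ_b4 : K.φ b4 = K.p4 := by simp [φ, b4, pw_zero, pw_one]

/-- The coordinates as a homomorphism. -/
def φhom : Multiplicative V4 →* G where
  toFun v := K.φ v.toAdd
  map_one' := K.φ_zero
  map_mul' u v := K.φ_add u.toAdd v.toAdd

theorem φ_surj {a : G} (ha : a ∈ K.A) : ∃ v, K.φ v = a := by
  have hle : K.A ≤ K.φhom.range := by
    rw [K.gen, closure_le]
    rintro x (rfl | rfl | rfl | rfl)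
    exacts [⟨.ofAdd b1, K.φ_b1⟩, ⟨.ofAdd b2, K.φ_b2⟩, ⟨.ofAdd b3, K.φ_b3⟩, ⟨.ofAdd b4, K.φ_b4⟩]
  obtain ⟨v, e⟩ := hle ha
  exact ⟨v.toAdd, e⟩

theorem φ_inj : Function.Injective K.φ := by
  have hs : Function.Surjective (fun v => (⟨K.φ v, K.φ_mem v⟩ : K.A)) := fun ⟨a, ha⟩ => by
    obtain ⟨v, e⟩ := K.φ_surj ha
    exact ⟨v, Subtype.ext e⟩
  have hb : Function.Bijective (fun v => (⟨K.φ v, K.φ_mem v⟩ : K.A)) := by
    haveI : Finite K.A := Nat.finite_of_card_ne_zero (by rw [K.card]; norm_num)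
    exact (Nat.bijective_iff_surjective_and_card _).2 ⟨hs, by rw [K.card]; simp [Nat.card_eq_fintype_card]⟩
  exact fun u v e => hb.1 (Subtype.ext e)

theorem φ_eq_one {v : V4} : K.φ v = 1 ↔ v = 0 := ⟨fun h => K.φ_inj (h.trans K.φ_zero.symm), fun h => h ▸ K.φ_zero⟩

theorem φ_smul (k : ZMod 3) (v : V4) : K.φ (smulV k v) = pw (K.φ v) k := by
  have h : ∀ n : ℕ, K.φ (n • v) = K.φ v ^ n := fun n => by
    induction n with
    | zero => rw [zero_smul, pow_zero, K.φ_zero]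
    | succ n ih => rw [add_smul, one_smul, K.φ_add, ih, pow_succ]
  rw [pw, ← h]
  congr 1
  obtain ⟨a, b, c, d⟩ := v
  simp [smulV, Prod.smul_mk, nsmul_eq_mul]

/-- The element `g` induces the linear map `M`. -/
def Acts (g : G) (M : M4) : Prop := ∀ v, g * K.φ v * g⁻¹ = K.φ (app M v)

theorem acts_of {g : G} {M : M4} (h1 : g * K.p1 * g⁻¹ = K.φ M.1) (h2 : g * K.p2 * g⁻¹ = K.φ M.2.1)
    (h3 : g * K.p3 * g⁻¹ = K.φ M.2.2.1) (h4 : g * K.p4 * g⁻¹ = K.φ M.2.2.2) : K.Acts g M := by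
  intro v
  have e : ∀ a (k : ZMod 3), g * pw a k * g⁻¹ = pw (g * a * g⁻¹) k := fun a k => (conj_pow).symm
  rw [app, K.φ_add, K.φ_add, K.φ_add, K.φ_smul, K.φ_smul, K.φ_smul, K.φ_smul, φ,
    show ∀ a b c d : G, g * (a * b * c * d) * g⁻¹ = g * a * g⁻¹ * (g * b * g⁻¹) * (g * c * g⁻¹) * (g * d * g⁻¹)
      from fun a b c d => by group, e, e, e, e, h1, h2, h3, h4]

theorem Acts.mul {K : Coord G} {g h : G} {M N : M4} (hg : K.Acts g M) (hh : K.Acts h N) : K.Acts (g * h) (mulM M N) := by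
  intro v
  rw [app_mulM, ← hg, ← hh]
  group

theorem acts_one : K.Acts 1 oneM := fun v => by rw [app_oneM]; group

theorem acts_of_mem {g : G} (hg : g ∈ K.A) : K.Acts g oneM := fun v => by
  rw [app_oneM, (K.comm g hg _ (K.φ_mem v)).eq, mul_inv_cancel_right]

theorem Acts.map_A {K : Coord G} {g : G} {M : M4} (hg : K.Acts g M) {a : G} (ha : a ∈ K.A) : g * a * g⁻¹ ∈ K.A := by
  obtain ⟨v, rfl⟩ := K.φ_surj ha
  rw [hg]
  exact K.φ_mem _

theorem acts_unique {g : G} {M N : M4} (hM : K.Acts g M) (hN : K.Acts g N) : M = N := by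
  have h : ∀ v, app M v = app N v := fun v => K.φ_inj ((hM v).symm.trans (hN v))
  have e1 := h b1
  have e2 := h b2
  have e3 := h b3
  have e4 := h b4
  have a1 : ∀ M : M4, app M b1 = M.1 ∧ app M b2 = M.2.1 ∧ app M b3 = M.2.2.1 ∧ app M b4 = M.2.2.2 := fun M => by
    obtain ⟨⟨a, b, c, d⟩, ⟨e, f, g', i⟩, ⟨j, k, l, m⟩, n, o, q, r⟩ := M
    simp [app, smulV, b1, b2, b3, b4]
  obtain ⟨f1, f2, f3, f4⟩ := a1 M
  obtain ⟨g1, g2, g3, g4⟩ := a1 N
  rw [f1, g1] at e1; rw [f2, g2] at e2; rw [f3, g3] at e3; rw [f4, g4] at e4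
  exact Prod.ext e1 (Prod.ext e2 (Prod.ext e3 e4))

theorem commute_of_acts_one {g : G} (h : K.Acts g oneM) {a : G} (ha : a ∈ K.A) : Commute g a := by
  obtain ⟨v, rfl⟩ := K.φ_surj ha
  have := h v
  rw [app_oneM, mul_inv_eq_iff_eq_mul] at this
  exact this

end Coord

end Cfsg.Agent.O8Three
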