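import Cfsg.Agent.Lib.O8Three.Torus
import Cfsg.Agent.Lib.O8Three.Coord

/-!
S3372: the torus in coordinates, with the maps induced on it by elements of the core, the involution and an
element of the second core.
-/

set_option autoImplicit false
set_option linter.style.haveILetI false
set_option linter.unusedSectionVars false
set_option maxRecDepth 20000
set_option synthInstance.maxSize 5000

namespace Cfsg.Agent.O8Three

open Subgroup
open Cfsg.Agent.HeisSLThree (pw pw_add pw_zero pw_one)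
open scoped commutatorElement

/-- The map of the element of `W`. -/
def MW : M4 := ((1, 0, 0, 0), (1, 1, 0, 0), (0, 0, 1, 0), (1, 2, 0, 1))
/-- The map of the element of `U`. -/
def MU : M4 := ((1, 0, 0, 0), (0, 1, 0, 0), (2, 0, 1, 0), (2, 0, 2, 1))
/-- The map of the involution. -/
def MT : M4 := ((1, 0, 0, 0), (0, 2, 0, 0), (0, 0, 1, 0), (0, 0, 0, 1))
/-- The map of the element of the second core. -/
def MV : M4 := ((1, 1, 1, 0), (0, 1, 0, 2), (0, 0, 1, 1), (0, 0, 0, 1))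

/-- The unnormalised map of the element of the second core. -/
def MV' (a b c g : ZMod 3) : M4 :=
  ((1, 1, 1, 0), (a, 1 + c, c, b), (-a, -c, 1 - c, -b), (0, g, g, 1))

theorem rel_b : ∀ a b c g : ZMod 3, mulM (MV' a b c g) (mulM MW MU) = mulM (mulM MW MU) (MV' a b c g) → b = 2 := by
  decide +kernel

/-- The powers of a map. -/
def powM (M : M4) : ℕ → M4
  | 0 => oneM
  | n + 1 => mulM (powM M n) M

theorem rel_word : ∀ c g : ZMod 3,
    (∃ i j : Fin 3,
      mulM (MV' 0 2 c g) (mulM (MV' 0 2 c g) (mulM MW (mulM (MV' 0 2 c g) (mulM MU (MV' 0 2 c g))))) =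
        mulM (powM MW i.val) (powM MU j.val)) → g = c := by
  decide +kernel

theorem word_fix : ∀ c g : ZMod 3, (c ≠ g) →
    app (mulM (MV' 0 2 c g) (mulM (MV' 0 2 c g) (mulM MW (mulM (MV' 0 2 c g) (mulM MU (MV' 0 2 c g)))))) b1 = b1 ∧
    (fun M => mulM M (mulM M M))
      (mulM (MV' 0 2 c g) (mulM (MV' 0 2 c g) (mulM MW (mulM (MV' 0 2 c g) (mulM MU (MV' 0 2 c g)))))) = oneM := by
  decide +kernel

theorem zm3_two : (2 : ZMod 3) = -1 := by decide

theorem zm3_cases : ∀ x : ZMod 3, x ≠ 0 → x = 1 ∨ x = 2 := by decide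

theorem shift_maps : ∀ c : ZMod 3, ∀ n : V4,
      (app MW (n.1 + n.2.2.2 * c, n.2.1, n.2.2.1, n.2.2.2) =
        ((app MW n).1 + (app MW n).2.2.2 * c, (app MW n).2.1, (app MW n).2.2.1, (app MW n).2.2.2)) ∧
      (app MU (n.1 + n.2.2.2 * c, n.2.1, n.2.2.1, n.2.2.2) =
        ((app MU n).1 + (app MU n).2.2.2 * c, (app MU n).2.1, (app MU n).2.2.1, (app MU n).2.2.2)) ∧
      (app MT (n.1 + n.2.2.2 * c, n.2.1, n.2.2.1, n.2.2.2) =
        ((app MT n).1 + (app MT n).2.2.2 * c, (app MT n).2.1, (app MT n).2.2.1, (app MT n).2.2.2)) ∧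
      (app (MV' (-c) 2 0 (-c)) (n.1 + n.2.2.2 * c, n.2.1, n.2.2.1, n.2.2.2) =
        ((app MV n).1 + (app MV n).2.2.2 * c, (app MV n).2.1, (app MV n).2.2.1, (app MV n).2.2.2)) := by
  decide +kernel

theorem mulM_oneM (N : M4) : mulM N oneM = N := by
  obtain ⟨⟨a, b, c, d⟩, ⟨e, f, g, i⟩, ⟨j, k, l, m⟩, n, o, q, r⟩ := N
  simp [mulM, app, oneM, smulV]

namespace Frame

variable {G : Type*} [Group G] [Finite G] (F : Frame G)
include F

theorem conj_s_mem_S {g : G} (hg : g ∈ F.Q) : g * F.s * g⁻¹ ∈ F.S := by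
  rw [show g * F.s * g⁻¹ = g * (F.s * g⁻¹ * F.s⁻¹) * F.s by group]
  exact mul_mem (mem_sup_left (mul_mem hg (F.normal _ F.s_Cz _ (inv_mem hg)))) (mem_sup_right (mem_zpowers _))

/-- An element of the centraliser which maps `s` into the Sylow subgroup normalises the torus. -/
theorem map_A {g : G} (hg : g ∈ F.toPair.toConf.Cz) (hs : g * F.s * g⁻¹ ∈ F.S) {a : G} (ha : a ∈ F.A) :
    g * a * g⁻¹ ∈ F.A := by
  have hS : F.S.map (MulAut.conj g).toMonoidHom ≤ F.S := by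
    rw [S, Subgroup.map_sup, MonoidHom.map_zpowers]
    refine sup_le ?_ (zpowers_le.2 hs)
    rintro _ ⟨q, hq, rfl⟩
    exact mem_sup_left (F.normal g hg q hq)
  have h := F.unique (P := F.S) F.S_le F.isPGroup_S (mem_sup_right (mem_zpowers _))
    (H := F.A.map (MulAut.conj g).toMonoidHom) ((Subgroup.map_mono F.A_le_S).trans hS)
    (by
      rintro _ ⟨a, ha, rfl⟩ _ ⟨b, hb, rfl⟩
      exact (F.A_comm ha hb).map (MulAut.conj g))
    (by rw [card_map_of_injective (MulAut.conj g).injective, F.card_A])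
  exact h ▸ ⟨a, ha, rfl⟩

theorem mapQ {q : G} (hq : q ∈ F.Q) {a : G} (ha : a ∈ F.A) : q * a * q⁻¹ ∈ F.A :=
  F.map_A (F.Q_le hq) (F.conj_s_mem_S hq) ha

theorem mapt {a : G} (ha : a ∈ F.A) : F.t * a * F.t⁻¹ ∈ F.A := by
  refine F.map_A F.t_mem ?_ ha
  rw [show F.t * F.s * F.t⁻¹ = ⁅F.t, F.s⁆ * F.s by simp only [commutatorElement_def]; group]
  refine mul_mem (mem_sup_left ?_) (mem_sup_right (mem_zpowers _))
  rw [← commutatorElement_inv]
  exact inv_mem (F.central _ F.s_Cz _ F.t_mem (by rw [F.t_sq]; exact one_mem _))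

/-- The members of `B`. -/
theorem mem_B {a : G} (ha : a ∈ F.B) : ∃ i j k : ℤ, a = F.z ^ i * F.w ^ j * F.u ^ k := by
  have hc : ∀ {x y : G}, x ∈ F.A → y ∈ F.A → Commute x y := fun hx hy => F.A_comm hx hy
  let M : Subgroup G :=
    { carrier := {a | ∃ i j k : ℤ, a = F.z ^ i * F.w ^ j * F.u ^ k}
      mul_mem' := by
        rintro a b ⟨i, j, k, rfl⟩ ⟨i', j', k', rfl⟩
        refine ⟨i + i', j + j', k + k', ?_⟩
        have mz : F.z ∈ F.A := subset_closure (by simp)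
        have mw : F.w ∈ F.A := subset_closure (by simp)
        have mu : F.u ∈ F.A := subset_closure (by simp)
        have h1 : Commute (F.w ^ j * F.u ^ k) (F.z ^ i') := hc (mul_mem (zpow_mem mw j) (zpow_mem mu k)) (zpow_mem mz i')
        have h2 : Commute (F.u ^ k) (F.w ^ j') := hc (zpow_mem mu k) (zpow_mem mw j')
        calc F.z ^ i * F.w ^ j * F.u ^ k * (F.z ^ i' * F.w ^ j' * F.u ^ k')
            = F.z ^ i * ((F.w ^ j * F.u ^ k) * F.z ^ i') * F.w ^ j' * F.u ^ k' := by group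
          _ = F.z ^ (i + i') * F.w ^ j * (F.u ^ k * F.w ^ j') * F.u ^ k' := by rw [h1.eq, zpow_add]; group
          _ = _ := by rw [h2.eq, zpow_add F.w, zpow_add F.u]; group
      one_mem' := ⟨0, 0, 0, by simp⟩
      inv_mem' := by
        rintro a ⟨i, j, k, rfl⟩
        refine ⟨-i, -j, -k, ?_⟩
        have mz : F.z ∈ F.A := subset_closure (by simp)
        have mw : F.w ∈ F.A := subset_closure (by simp)
        have mu : F.u ∈ F.A := subset_closure (by simp)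
        have h1 : Commute (F.u ^ (-k) * F.w ^ (-j)) (F.z ^ (-i)) :=
          hc (mul_mem (zpow_mem mu _) (zpow_mem mw _)) (zpow_mem mz _)
        have h2 : Commute (F.u ^ (-k)) (F.w ^ (-j)) := hc (zpow_mem mu _) (zpow_mem mw _)
        calc (F.z ^ i * F.w ^ j * F.u ^ k)⁻¹ = (F.u ^ (-k) * F.w ^ (-j)) * F.z ^ (-i) := by group
          _ = F.z ^ (-i) * (F.u ^ (-k) * F.w ^ (-j)) := h1.eq
          _ = _ := by rw [h2.eq]; group }
  have : F.B ≤ M := sup_le (sup_le (zpowers_le.2 ⟨1, 0, 0, by simp⟩) (zpowers_le.2 ⟨0, 1, 0, by simp⟩))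
    (zpowers_le.2 ⟨0, 0, 1, by simp⟩)
  exact this ha

end Frame

/-- The torus with normalised coordinates and the four maps. -/
structure Chart (G : Type*) [Group G] [Finite G] where
  /-- the frame -/
  F : Frame G
  /-- the coordinates -/
  K : Coord G
  /-- the element of `W` -/
  qw : G
  /-- the element of `U` -/
  qu : G
  /-- the element of the second core -/
  v : G
  hA : K.A = F.A
  p1_mem : K.p1 ∈ zpowers F.z
  p2_mem : K.p2 ∈ F.toPair.toConf.W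
  p3_mem : K.p3 ∈ F.toPair.toConf.U
  y_eq : F.toPair.y = K.p2 * K.p3
  p4_t : F.t * K.p4 * F.t⁻¹ = K.p4
  p4_y : K.p4 ∈ F.toPair.D.Q
  p4_not : K.p4 ∉ F.Q
  qw_mem : qw ∈ F.toPair.toConf.W
  qu_mem : qu ∈ F.toPair.toConf.U
  v_mem : v ∈ F.toPair.D.Q
  acts_w : K.Acts qw MW
  acts_u : K.Acts qu MU
  acts_t : K.Acts F.t MT
  acts_v : K.Acts v MV

namespace Pair

variable {G : Type*} [Group G] [Finite G]

/-- The frame seen from the second conjugate has the same torus. -/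
theorem frame_other (P : Pair G) (F : Frame G) (hF : F.toPair = P) :
    ∃ F' : Frame G, F'.toPair.toConf = P.D ∧ F'.A = F.A := by
  subst hF
  obtain ⟨F', hF'⟩ := (Pair.mk F.toPair.D F.g⁻¹ (by
    show F.g⁻¹ * F.toPair.y * F.g⁻¹⁻¹ ∈ F.toPair.D.Q
    rw [show F.g⁻¹ * F.toPair.y * F.g⁻¹⁻¹ = F.z by group]
    exact F.toPair.z_mem_Qy) (by
    show F.g⁻¹ * F.toPair.y * F.g⁻¹⁻¹ ∉ zpowers F.toPair.D.z
    rw [show F.g⁻¹ * F.toPair.y * F.g⁻¹⁻¹ = F.z by group]
    exact F.toPair.z_not)).exists_frame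
  refine ⟨F', congrArg Pair.toConf hF', ?_⟩
  have hsT : F'.s ∈ F.toPair.T := by
    have h := F'.s_mem
    rw [hF'] at h
    obtain ⟨h1, h2⟩ := h
    refine ⟨?_, h2⟩
    obtain ⟨x, hx, e⟩ := h1
    obtain ⟨q, hq, rfl⟩ := hx
    rw [← e]
    show F.g⁻¹ * (F.g * q * F.g⁻¹) * F.g⁻¹⁻¹ ∈ F.Q
    rwa [show F.g⁻¹ * (F.g * q * F.g⁻¹) * F.g⁻¹⁻¹ = q by group]
  have hz : F'.toPair.toConf.Cz = F.toPair.D.Cz := by rw [hF']
  have hTn : F.toPair.T ≤ normalizer (F.A : Set G) := fun q hq => mem_normalizer_iff.2 fun a => ⟨fun ha => F.mapQ hq.1 ha, fun ha => by simpa [mul_assoc] using F.mapQ (inv_mem hq.1) ha⟩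
  refine (F'.unique (P := F.toPair.T ⊔ F.A) ?_ ?_ (mem_sup_left hsT) le_sup_right
    (fun a ha b hb => F.A_comm ha hb) (by rw [F.card_A])).symm
  · rw [hz]; exact sup_le F.toPair.T_le_D F.A_le_D
  · exact F.toPair.isPGroup_T.to_sup_of_normal_right' F.isPGroup_A hTn

theorem norm_v : ∀ a c g : ZMod 3, ∃ c' g' : ZMod 3,
    mulM (MV' a 2 c g) (powM (mulM MW MU) (-a).val) = MV' 0 2 c' g' := by decide +kernel

theorem norm_e : ∀ c : ZMod 3,
    mulM (MV' 0 2 c c) (powM (mulM MW MU) (-c).val) = MV' (-c) 2 0 (-c) := by decide +kernel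

theorem mulM_one (M : M4) : mulM oneM M = M := by simp only [mulM, app_oneM]

set_option maxHeartbeats 1600000 in
/-- The normalised coordinates exist. -/
theorem exists_chart (P : Pair G) : ∃ C : Chart G, C.F.toPair = P := by
  classical
  haveI : Fact (Nat.Prime 3) := ⟨Nat.prime_three⟩
  obtain ⟨F, hF⟩ := P.exists_frame
  subst hF
  obtain ⟨F', hF'D, hF'A⟩ := Pair.frame_other F.toPair F rfl
  have hzC : ∀ {x : G}, x ∈ F.A → x ∈ F.toPair.toConf.Cz := fun hx => F.A_le_Cz hx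
  have mz : F.z ∈ F.A := subset_closure (by simp)
  have mw : F.w ∈ F.A := subset_closure (by simp)
  have mu : F.u ∈ F.A := subset_closure (by simp)
  -- the inverted generator of `W`
  obtain ⟨i, hi⟩ := mem_zpowers_iff.1 F.w_mem.2
  obtain ⟨w1, hw1⟩ : ∃ w1, w1 = F.w * F.z ^ i := ⟨_, rfl⟩
  have mw1 : w1 ∈ F.A := hw1 ▸ mul_mem mw (zpow_mem mz i)
  have hw1W : w1 ∈ F.toPair.toConf.W :=
    hw1 ▸ mul_mem F.w_mem (zpow_mem (F.toPair.toConf.Z_le_W (mem_zpowers _)) i)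
  have hz3 : ∀ n : ℤ, F.z ^ (3 * n) = 1 := fun n => by
    rw [zpow_mul, show (3 : ℤ) = ((3 : ℕ) : ℤ) from rfl, zpow_natCast, F.toPair.toConf.z3, one_zpow]
  have htw1 : F.t * w1 * F.t⁻¹ = w1⁻¹ := by
    rw [hw1, show F.t * (F.w * F.z ^ i) * F.t⁻¹ = F.t * F.w * F.t⁻¹ * F.w * F.w⁻¹ * (F.t * F.z ^ i * F.t⁻¹) by group,
      F.toPair.toConf.fix_Z F.t_mem (zpow_mem_zpowers _ i), ← hi, _root_.mul_inv_rev,
      (F.A_comm (zpow_mem mz i) (inv_mem mw)).eq, mul_assoc, ← zpow_add,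
      (F.A_comm (inv_mem mw) (zpow_mem mz (i + i))).eq,
      show i + i = 3 * i + -i by ring, zpow_add, hz3, one_mul, zpow_neg]
  obtain ⟨u1, hu1⟩ : ∃ u1, u1 = w1⁻¹ * F.toPair.y := ⟨_, rfl⟩
  have hy1 : F.toPair.y = w1 * u1 := by rw [hu1, mul_inv_cancel_left]
  have hu1' : u1 = (F.z ^ i)⁻¹ * F.u := by
    rw [hu1, show F.toPair.y = F.w * F.u from F.y_eq, hw1]; group
  have mu1 : u1 ∈ F.A := hu1' ▸ mul_mem (inv_mem (zpow_mem mz i)) mu
  have hu1U : u1 ∈ F.toPair.toConf.U :=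
    hu1' ▸ mul_mem (inv_mem (zpow_mem (F.toPair.toConf.Z_le_U (mem_zpowers _)) i)) F.u_mem
  have hw1n : w1 ∉ zpowers F.z := fun h => F.w_not (by
    have := mul_mem h (inv_mem (zpow_mem_zpowers F.z i))
    rwa [hw1, mul_inv_cancel_right] at this)
  -- the fixed element outside the core
  obtain ⟨d, hd⟩ : ∃ d, d = F.t * F.s * F.t⁻¹ * F.s⁻¹ := ⟨_, rfl⟩
  have hdA : d ∈ F.A := hd ▸ mul_mem (F.mapt F.s_mem_A) (inv_mem F.s_mem_A)
  have hdQ : d ∈ F.Q := by
    rw [hd, ← commutatorElement_def, ← commutatorElement_inv]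
    exact inv_mem (F.central _ F.s_Cz _ F.t_mem (by rw [F.t_sq]; exact one_mem _))
  have hdinv : F.t * d * F.t⁻¹ = d⁻¹ := by
    rw [hd, show F.t * (F.t * F.s * F.t⁻¹ * F.s⁻¹) * F.t⁻¹ =
      F.t * F.t * F.s * (F.t * F.t)⁻¹ * (F.t * F.s⁻¹ * F.t⁻¹) by group, F.t_sq, inv_one, one_mul, mul_one]
    group
  obtain ⟨j, hj⟩ : ∃ j : ℤ, d = w1 ^ j := by
    obtain ⟨a, b, c, e⟩ := F.mem_B (F.A_inf_Q ▸ (mem_inf.2 ⟨hdA, hdQ⟩ : d ∈ F.A ⊓ F.Q) : d ∈ F.B)
    have hdW : d ∈ F.toPair.toConf.W := ⟨hdQ, by rw [hdinv, inv_mul_cancel]; exact one_mem _⟩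
    have huc : F.u ^ c ∈ zpowers F.z := by
      refine F.toPair.toConf.inf_WU ?_ (zpow_mem F.u_mem c)
      have h1 : F.z ^ a * F.w ^ b ∈ F.toPair.toConf.W :=
        mul_mem (zpow_mem (F.toPair.toConf.Z_le_W (mem_zpowers _)) a) (zpow_mem F.w_mem b)
      have := mul_mem (inv_mem h1) hdW
      rwa [e, inv_mul_cancel_left] at this
    obtain ⟨c', hc'⟩ := mem_zpowers_iff.1 huc
    have hw1b : F.w ^ b = w1 ^ b * (F.z ^ (i * b))⁻¹ := by
      rw [hw1, (F.A_comm mw (zpow_mem mz i)).mul_zpow, ← zpow_mul, mul_inv_cancel_right]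
    obtain ⟨n, hn⟩ : ∃ n : ℤ, d = F.z ^ n * w1 ^ b := by
      refine ⟨a - i * b + c', ?_⟩
      rw [e, hw1b, ← hc', ← zpow_neg, mul_assoc (F.z ^ a), mul_assoc (w1 ^ b), ← zpow_add,
        (F.A_comm (zpow_mem mw1 b) (zpow_mem mz _)).eq, ← mul_assoc, ← zpow_add]
      congr 2; ring
    refine ⟨b, ?_⟩
    have h := hdinv
    rw [hn, show F.t * (F.z ^ n * w1 ^ b) * F.t⁻¹ = F.t * F.z ^ n * F.t⁻¹ * (F.t * w1 ^ b * F.t⁻¹) by group,
      F.toPair.toConf.fix_Z F.t_mem (zpow_mem_zpowers _ n), ← conj_zpow, htw1, _root_.mul_inv_rev, inv_zpow,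
      (F.A_comm (inv_mem (zpow_mem mw1 b)) (inv_mem (zpow_mem mz n))).eq] at h
    have h2 : F.z ^ n * F.z ^ n = 1 := by
      have := mul_right_cancel h
      nth_rw 2 [this]
      exact mul_inv_cancel _
    have h1 : F.z ^ n = 1 := F.toPair.toConf.sq_eq_one (zpow_mem F.z_mem n) h2
    rw [hn, h1, one_mul]
  obtain ⟨e, he⟩ : ∃ e, e = F.s * F.toPair.y ^ (2 * j) := ⟨_, rfl⟩
  have me : e ∈ F.A := he ▸ mul_mem F.s_mem_A (zpow_mem F.y_mem_A _)
  have heD : e ∈ F.toPair.D.Q := he ▸ mul_mem F.s_mem.1 (zpow_mem F.toPair.D.z_mem _)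
  have heQ : e ∉ F.Q := fun h => F.s_not (by
    have := mul_mem h (inv_mem (zpow_mem F.toPair.yQ (2 * j)))
    rwa [he, mul_inv_cancel_right] at this)
  have hte : F.t * e * F.t⁻¹ = e := by
    have h3 : ∀ n : ℤ, w1 ^ (3 * n) = 1 := fun n => by
      rw [zpow_mul, show (3 : ℤ) = ((3 : ℕ) : ℤ) from rfl, zpow_natCast, F.A_exp mw1, one_zpow]
    rw [he, show F.t * (F.s * F.toPair.y ^ (2 * j)) * F.t⁻¹ =
      F.t * F.s * F.t⁻¹ * F.s⁻¹ * F.s * (F.t * F.toPair.y ^ (2 * j) * F.t⁻¹) by group, ← hd, hj, ← conj_zpow, hy1,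
      show F.t * (w1 * u1) * F.t⁻¹ = F.t * w1 * F.t⁻¹ * (F.t * u1 * F.t⁻¹) by group, htw1, hu1U.2,
      (F.A_comm (inv_mem mw1) mu1).mul_zpow, (F.A_comm mw1 mu1).mul_zpow, inv_zpow,
      (F.A_comm (zpow_mem mw1 j) F.s_mem_A).eq, mul_assoc, ← mul_assoc (w1 ^ j), ← zpow_neg, ← zpow_add,
      show j + -(2 * j) = 3 * -j + 2 * j by ring, zpow_add, h3, one_mul]
  -- the moved element of `R`
  have heT : e ∈ F.toPair.T' := ⟨heD, hzC me⟩
  obtain ⟨r0, hr0, hr0z⟩ := F.toPair.exists_moved heT heQ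
  obtain ⟨r, hr, hre⟩ : ∃ r ∈ F.toPair.R, ⁅e, r⁆ = F.toPair.y := by
    have hsr := F.toPair.D.comm_mem e heD r0 hr0.2
    have hne : ⁅e, r0⁆ ≠ 1 := fun h => hr0z (h ▸ one_mem _)
    have hz : zpowers ⁅e, r0⁆ = zpowers F.toPair.y := eq_of_le_of_card_ge (zpowers_le.2 hsr) (by
      rw [show zpowers F.toPair.y = zpowers F.toPair.D.z from rfl, F.toPair.D.card_Z, Nat.card_zpowers,
        orderOf_eq_prime (F.toPair.D.exp_Q _ (F.toPair.D.Z_le_Q hsr)) hne])
    obtain ⟨k, hk⟩ := mem_zpowers_iff.1 (hz ▸ mem_zpowers F.toPair.y : F.toPair.y ∈ zpowers ⁅e, r0⁆)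
    refine ⟨r0 ^ k, zpow_mem hr0 k, ?_⟩
    have e' : ⁅r0 ^ k, e⁆ = ⁅r0, e⁆ ^ k := by
      simpa [Conf.bracketHom] using congrArg Subtype.val (map_zpow (F.toPair.D.bracketHom heD) ⟨r0, hr0.2⟩ k)
    rw [← commutatorElement_inv, e', ← commutatorElement_inv e r0, inv_zpow, inv_inv, hk]
  have hrQ : r ∈ F.Q := hr.1
  obtain ⟨a, ha, b, hb, hab⟩ := F.toPair.toConf.split hrQ
  have heC := hzC me
  have haW : ⁅e, a⁆ ∈ F.toPair.toConf.W := by
    rw [commutatorElement_def]; exact mul_mem (F.toPair.toConf.conjW heC ha) (inv_mem ha)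
  have hbU : ⁅e, b⁆ ∈ F.toPair.toConf.U := by
    rw [commutatorElement_def]; exact mul_mem (F.toPair.toConf.conjU heC hb) (inv_mem hb)
  have hsplit : ⁅e, a⁆ * ⁅e, b⁆ = w1 * u1 := by
    rw [← hy1, ← hre, hab, show ⁅e, a * b⁆ = ⁅e, a⁆ * (a * ⁅e, b⁆ * a⁻¹) by
      simp only [commutatorElement_def]; group, (F.toPair.toConf.commute_WU ha hbU).eq, mul_inv_cancel_right]
  obtain ⟨hwa, -⟩ := F.toPair.toConf.split_unique hw1W haW hu1U hbU (by rw [hsplit, inv_mul_cancel]; exact one_mem _)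
  obtain ⟨la, hla⟩ := mem_zpowers_iff.1 hwa
  have hea : ⁅e, a⁆ = w1 * F.z ^ la := by rw [hla, mul_inv_cancel_left]
  have heb : ⁅e, b⁆ = u1 * (F.z ^ la)⁻¹ := by
    have h := hsplit
    rw [hea, mul_assoc, mul_left_cancel_iff] at h
    rw [← eq_inv_mul_iff_mul_eq] at h
    rw [h]
    exact (F.A_comm (inv_mem (zpow_mem mz la)) mu1).eq
  -- the generator of the centre
  obtain ⟨z1, hz1⟩ : ∃ z1, z1 = ⁅a, w1⁆ := ⟨_, rfl⟩
  have hz1Z : z1 ∈ zpowers F.z := hz1 ▸ F.comm_mem _ ha.1 _ hw1W.1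
  have hry : ⁅r, F.toPair.y⁆ = 1 :=
    commutatorElement_eq_one_iff_commute.2 (F.toPair.R_comm hr F.toPair.y_mem_R)
  have hbu : ⁅b, u1⁆ = z1⁻¹ := by
    have h := hry
    rw [hab, hy1, F.toPair.toConf.bracket_mul_left ha.1 hb.1 (mul_mem hw1W.1 hu1U.1),
      F.toPair.toConf.bracket_mul_right ha.1 hw1W.1 hu1U.1, F.toPair.toConf.bracket_mul_right hb.1 hw1W.1 hu1U.1,
      commutatorElement_eq_one_iff_commute.2 (F.toPair.toConf.commute_WU ha hu1U),
      commutatorElement_eq_one_iff_commute.2 (F.toPair.toConf.commute_WU hw1W hb).symm, mul_one, one_mul,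
      ← hz1] at h
    exact eq_inv_of_mul_eq_one_right h
  have haz : z1 ≠ 1 := by
    intro h
    rw [hz1] at h
    have hcw : Commute a w1 := commutatorElement_eq_one_iff_commute.1 h
    have hcw0 : Commute a F.w := by
      have := hcw.mul_right (F.toPair.toConf.commute_zpow (F.Q_le ha.1) (inv_mem (zpow_mem_zpowers F.z i)))
      rwa [hw1, mul_inv_cancel_right] at this
    have hcB : F.B ≤ centralizer ({a} : Set G) := sup_le (sup_le
      (zpowers_le.2 (mem_centralizer_singleton_iff.2 (F.toPair.toConf.commute_z (F.Q_le ha.1)).symm.eq))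
      (zpowers_le.2 (mem_centralizer_singleton_iff.2 hcw0.symm.eq)))
      (zpowers_le.2 (mem_centralizer_singleton_iff.2 (F.toPair.toConf.commute_WU ha F.u_mem).symm.eq))
    have hanB : a ∉ F.B := fun hB => hw1n (by
      have h1 : ⁅e, a⁆ = 1 := commutatorElement_eq_one_iff_commute.2 (F.A_comm me (F.B_le_A hB))
      rw [hea] at h1
      rw [eq_inv_of_mul_eq_one_left h1]
      exact inv_mem (zpow_mem_zpowers _ _))
    have h81 := F.toPair.toConf.card_sup_zpowers ha.1 F.B_le_Q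
      (fun c hc => (mem_centralizer_singleton_iff.1 (hcB hc)).symm) hanB
    have hle := F.toPair.toConf.abel_le (H := F.B ⊔ zpowers a) (sup_le F.B_le_Q (zpowers_le.2 ha.1)) (by
      have hcc : ∀ x ∈ (F.B : Set G) ∪ {a}, ∀ y ∈ (F.B : Set G) ∪ {a}, x * y = y * x := by
        rintro x (hx | rfl) y (hy | rfl)
        exacts [(F.A_comm (F.B_le_A hx) (F.B_le_A hy)).eq, mem_centralizer_singleton_iff.1 (hcB hx),
          (mem_centralizer_singleton_iff.1 (hcB hy)).symm, rfl]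
      intro x hx y hy
      haveI := Subgroup.isMulCommutative_closure hcc
      have hle : F.B ⊔ zpowers a ≤ closure ((F.B : Set G) ∪ {a}) :=
        sup_le (fun c hc => subset_closure (Or.inl hc)) (zpowers_le.2 (subset_closure (Or.inr rfl)))
      exact congrArg Subtype.val (mul_comm' (⟨x, hle hx⟩ : closure ((F.B : Set G) ∪ {a})) ⟨y, hle hy⟩))
    rw [h81, F.card_B] at hle
    omega
  have hz1gen : zpowers z1 = zpowers F.z := eq_of_le_of_card_ge (zpowers_le.2 hz1Z) (by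
    rw [F.toPair.toConf.card_Z, Nat.card_zpowers, orderOf_eq_prime (F.exp_Q _ (F.toPair.toConf.Z_le_Q hz1Z)) haz])
  have mz1 : z1 ∈ F.A := zpowers_le.2 mz hz1Z
  -- the coordinates
  have hgen : F.A = closure ({z1, w1, u1, e} : Set G) := by
    have hzmem : F.z ∈ closure ({z1, w1, u1, e} : Set G) := by
      have h1 : F.z ∈ zpowers z1 := hz1gen.symm ▸ mem_zpowers F.z
      exact zpowers_le.2 (subset_closure (by simp)) h1
    have hyc : F.toPair.y ∈ closure ({z1, w1, u1, e} : Set G) :=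
      hy1 ▸ mul_mem (subset_closure (by simp)) (subset_closure (by simp))
    refine le_antisymm ((closure_le _).2 ?_) ((closure_le _).2 ?_)
    · rintro x (rfl | rfl | rfl | rfl)
      · exact hzmem
      · have := mul_mem (show w1 ∈ closure ({z1, w1, u1, e} : Set G) from subset_closure (by simp))
          (inv_mem (zpow_mem hzmem i))
        rwa [hw1, mul_inv_cancel_right, ← hw1] at this
      · have := mul_mem (zpow_mem hzmem i) (show u1 ∈ closure ({z1, w1, u1, e} : Set G) from subset_closure (by simp))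
        rwa [hu1', mul_inv_cancel_left, ← hu1'] at this
      · have := mul_mem (show e ∈ closure ({z1, w1, u1, e} : Set G) from subset_closure (by simp))
          (inv_mem (zpow_mem hyc (2 * j)))
        rwa [he, mul_inv_cancel_right, ← he] at this
    · rintro x (rfl | rfl | rfl | rfl)
      exacts [mz1, mw1, mu1, me]
  obtain ⟨K, hKA, hK1, hK2, hK3, hK4⟩ : ∃ K : Coord G, K.A = F.A ∧ K.p1 = z1 ∧ K.p2 = w1 ∧ K.p3 = u1 ∧ K.p4 = e :=
    ⟨⟨F.A, z1, w1, u1, e, fun a ha b hb => F.A_comm ha hb, fun a ha => F.A_exp ha, F.card_A, hgen⟩,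
      rfl, rfl, rfl, rfl, rfl⟩
  have hphi : ∀ x : V4, K.φ x = pw z1 x.1 * pw w1 x.2.1 * pw u1 x.2.2.1 * pw e x.2.2.2 := fun x => by
    rw [Coord.φ, hK1, hK2, hK3, hK4]
  have hp : ∀ {x : G} (n : ZMod 3), x ∈ F.A → pw x (-n) = (pw x n)⁻¹ := fun n hx =>
    HeisSLThree.pw_neg (F.A_exp hx) n
  have pw2 : ∀ {x : G}, x ∈ F.A → pw x (2 : ZMod 3) = x⁻¹ := fun {x} hx => by
    rw [zm3_two, hp 1 hx, pw_one]
  have aw : K.Acts a MW := by
    have hat : F.t * a * F.t⁻¹ * a ∈ zpowers F.z := ha.2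
    -- conjugate the action on `e` by the involution
    have h1 : a * e * a⁻¹ = (w1 * F.z ^ la)⁻¹ * e := by
      rw [← hea]; simp only [commutatorElement_def]; group
    obtain ⟨c, hc⟩ : ∃ c, c = F.t * a * F.t⁻¹ * a := ⟨_, rfl⟩
    rw [← hc] at hat
    have hta : F.t * a * F.t⁻¹ = c * a⁻¹ := by rw [hc, mul_inv_cancel_right]
    have h2 : a⁻¹ * e * a = w1 * (F.z ^ la)⁻¹ * e := by
      have h := congrArg (fun x => F.t * x * F.t⁻¹) h1
      beta_reduce at h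
      rw [show F.t * (a * e * a⁻¹) * F.t⁻¹ = F.t * a * F.t⁻¹ * (F.t * e * F.t⁻¹) * (F.t * a * F.t⁻¹)⁻¹ by group,
        hta, hte, show F.t * ((w1 * F.z ^ la)⁻¹ * e) * F.t⁻¹ =
          (F.t * w1 * F.t⁻¹ * (F.t * F.z ^ la * F.t⁻¹))⁻¹ * (F.t * e * F.t⁻¹) by group, htw1, hte,
        F.toPair.toConf.fix_Z F.t_mem (zpow_mem_zpowers _ la)] at h
      have hcc : c * (a⁻¹ * e * a) * c⁻¹ = a⁻¹ * e * a :=
        mul_inv_eq_iff_eq_mul.2 (F.toPair.toConf.commute_zpow (mul_mem (mul_mem (inv_mem (F.Q_le ha.1)) heC) (F.Q_le ha.1)) hat).eq.symm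
      rw [show c * a⁻¹ * e * (c * a⁻¹)⁻¹ = c * (a⁻¹ * e * a) * c⁻¹ by group, hcc] at h
      rw [h, _root_.mul_inv_rev, inv_inv, (F.A_comm (inv_mem (zpow_mem mz la)) mw1).eq]
    have h3 : z1 = F.z ^ la * F.z ^ la := by
      have h : e = a * (a⁻¹ * e * a) * a⁻¹ := by group
      rw [h2, show a * (w1 * (F.z ^ la)⁻¹ * e) * a⁻¹ = a * w1 * a⁻¹ * (a * (F.z ^ la)⁻¹ * a⁻¹) * (a * e * a⁻¹) by group,
        h1, F.toPair.toConf.fix_Z (F.Q_le ha.1) (inv_mem (zpow_mem_zpowers _ la)),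
        show a * w1 * a⁻¹ = z1 * w1 by rw [hz1, commutatorElement_def]; group, _root_.mul_inv_rev] at h
      have h' : z1 * w1 * (F.z ^ la)⁻¹ * ((F.z ^ la)⁻¹ * w1⁻¹) = 1 := by
        refine mul_right_cancel (b := e) ?_
        rw [one_mul]; conv_rhs => rw [h]
        simp only [mul_assoc]
      have hcm : Commute w1 ((F.z ^ la)⁻¹ * (F.z ^ la)⁻¹) :=
        F.A_comm mw1 (mul_mem (inv_mem (zpow_mem mz la)) (inv_mem (zpow_mem mz la)))
      rw [show z1 * w1 * (F.z ^ la)⁻¹ * ((F.z ^ la)⁻¹ * w1⁻¹) =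
        z1 * (w1 * ((F.z ^ la)⁻¹ * (F.z ^ la)⁻¹)) * w1⁻¹ by group, hcm.eq, mul_assoc, mul_assoc, mul_inv_cancel,
        mul_one] at h'
      rw [eq_inv_of_mul_eq_one_left h']; group
    have hla' : (F.z ^ la)⁻¹ = z1 := by
      rw [h3]
      refine inv_eq_of_mul_eq_one_right ?_
      rw [← mul_assoc, ← zpow_add, ← zpow_add, show la + la + la = 3 * la by ring, hz3]
    refine K.acts_of ?_ ?_ ?_ ?_ <;> rw [hphi] <;>
      simp only [MW, pw_zero, pw_one, mul_one, one_mul, hK1, hK2, hK3, hK4]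
    · exact F.toPair.toConf.fix_Z (F.Q_le ha.1) hz1Z
    · rw [hz1, commutatorElement_def]; group
    · exact mul_inv_eq_iff_eq_mul.2 (F.toPair.toConf.commute_WU ha hu1U).eq
    · rw [pw2 mw1, h1, _root_.mul_inv_rev, hla']
  have hla2 : (F.z ^ la)⁻¹ = z1 := by
    have h := aw b4
    rw [app, K.φ_b4, hK4] at h
    have h1 : a * e * a⁻¹ = (w1 * F.z ^ la)⁻¹ * e := by
      rw [← hea]; simp only [commutatorElement_def]; group
    rw [h1, hphi] at h
    simp [MW, b4, smulV, pw_zero, pw_one, pw2 mw1] at h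
    exact h
  have au : K.Acts b MU := by
    refine K.acts_of ?_ ?_ ?_ ?_ <;> rw [hphi] <;>
      simp only [MU, pw_zero, pw_one, mul_one, one_mul, hK1, hK2, hK3, hK4]
    · exact F.toPair.toConf.fix_Z (F.Q_le hb.1) hz1Z
    · exact mul_inv_eq_iff_eq_mul.2 (F.toPair.toConf.commute_WU hw1W hb).symm.eq
    · rw [pw2 mz1, ← hbu, commutatorElement_def]; group
    · rw [pw2 mz1, pw2 mu1, show b * e * b⁻¹ = ⁅e, b⁆⁻¹ * e by simp only [commutatorElement_def]; group, heb,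
        hla2, _root_.mul_inv_rev]
  have at' : K.Acts F.t MT := by
    refine K.acts_of ?_ ?_ ?_ ?_ <;> rw [hphi] <;>
      simp only [MT, pw_zero, pw_one, mul_one, one_mul, hK1, hK2, hK3, hK4]
    · exact F.toPair.toConf.fix_Z F.t_mem hz1Z
    · rw [htw1, pw2 mw1]
    · exact hu1U.2
    · exact hte
  have ar : K.Acts r (mulM MW MU) := hab ▸ aw.mul au
  have hpow : ∀ {g : G} {M : M4}, K.Acts g M → ∀ n : ℕ, K.Acts (g ^ n) (powM M n) := by
    intro g M h n
    induction n with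
    | zero => rw [pow_zero]; exact K.acts_one
    | succ n ih => rw [pow_succ]; exact ih.mul h
  -- an element of the second core moving the centre
  have hz1Dy : z1 ∉ zpowers F.toPair.y := fun h => F.toPair.z_not (by
    have h1 : F.z ∈ zpowers z1 := hz1gen.symm ▸ mem_zpowers F.z
    exact zpowers_le.2 h h1)
  have hz1D : z1 ∈ F.toPair.D.Q := zpowers_le.2 F.toPair.z_mem_Qy hz1Z
  obtain ⟨x, hx, hxz⟩ : ∃ x ∈ F.toPair.D.Q, ⁅x, z1⁆ ≠ 1 := by
    by_contra h
    push Not at h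
    exact hz1Dy (F.toPair.D.center_Q _ hz1D fun q hq => (commutatorElement_eq_one_iff_mul_comm.1 (h q hq)).symm)
  obtain ⟨v0, hv0, hv0z⟩ : ∃ v0 ∈ F.toPair.D.Q, ⁅v0, z1⁆ = F.toPair.y := by
    have hsr := F.toPair.D.comm_mem x hx z1 hz1D
    have hz : zpowers ⁅x, z1⁆ = zpowers F.toPair.y := eq_of_le_of_card_ge (zpowers_le.2 hsr) (by
      rw [show zpowers F.toPair.y = zpowers F.toPair.D.z from rfl, F.toPair.D.card_Z, Nat.card_zpowers,
        orderOf_eq_prime (F.toPair.D.exp_Q _ (F.toPair.D.Z_le_Q hsr)) hxz])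
    obtain ⟨k, hk⟩ := mem_zpowers_iff.1 (hz ▸ mem_zpowers F.toPair.y : F.toPair.y ∈ zpowers ⁅x, z1⁆)
    refine ⟨x ^ k, zpow_mem hx k, ?_⟩
    have e' : ⁅x ^ k, z1⁆ = ⁅x, z1⁆ ^ k := by
      simpa [Conf.bracketHom] using congrArg Subtype.val (map_zpow (F.toPair.D.bracketHom hz1D) ⟨x, hx⟩ k)
    rw [e', hk]
  have hDQ : F'.Q = F.toPair.D.Q := by rw [show F'.Q = F'.toPair.toConf.Q from rfl, hF'D]
  have hvA : ∀ {q : G}, q ∈ F.toPair.D.Q → ∀ {c : G}, c ∈ F.A → q * c * q⁻¹ ∈ F.A := fun {q} hq {c} hc => by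
    rw [← hF'A] at hc ⊢
    exact F'.mapQ (hDQ ▸ hq) hc
  -- the part of the torus in the second core
  have hcore : ∀ n : V4, K.φ n ∈ F.toPair.D.Q → n.2.1 = n.2.2.1 := by
    intro n hn
    by_contra hne
    have h1 : pw w1 (n.2.1 - n.2.2.1) ∈ F.toPair.D.Q := by
      have hrest : pw z1 n.1 * pw F.toPair.y n.2.2.1 * pw e n.2.2.2 ∈ F.toPair.D.Q :=
        mul_mem (mul_mem (pow_mem hz1D _) (pow_mem F.toPair.D.z_mem _)) (pow_mem heD _)
      have hy' : F.toPair.y = K.φ (0, 1, 1, 0) := by rw [hphi]; simp [pw_zero, pw_one, hy1]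
      have e1 : pw z1 n.1 * pw F.toPair.y n.2.2.1 * pw e n.2.2.2 = K.φ (n.1, n.2.2.1, n.2.2.1, n.2.2.2) := by
        rw [hy', ← K.φ_smul, ← hK1, ← hK4, ← K.φ_b1, ← K.φ_b4, ← K.φ_smul, ← K.φ_smul, ← K.φ_add, ← K.φ_add]
        congr 1
        simp [smulV, b1, b4]
      have e2 : K.φ n = pw w1 (n.2.1 - n.2.2.1) * K.φ (n.1, n.2.2.1, n.2.2.1, n.2.2.2) := by
        rw [← hK2, ← K.φ_b2, ← K.φ_smul, ← K.φ_add]
        congr 1
        simp [smulV, b2, ← Prod.zero_eq_mk]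
      have := mul_mem hn (inv_mem hrest)
      rwa [e1, e2, mul_inv_cancel_right] at this
    have hw1D : w1 ∈ F.toPair.D.Q := by
      rcases (show n.2.1 - n.2.2.1 = 1 ∨ n.2.1 - n.2.2.1 = 2 from
        zm3_cases _ (sub_ne_zero.2 hne)) with h | h <;>
        rw [h] at h1
      · rwa [pw_one] at h1
      · rw [pw2 mw1] at h1; simpa using inv_mem h1
    have hle : F.A ≤ F.toPair.D.Q := by
      rw [hgen, closure_le]
      rintro x (rfl | rfl | rfl | rfl)
      exacts [hz1D, hw1D, by rw [hu1]; exact mul_mem (inv_mem hw1D) F.toPair.D.z_mem, heD]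
    have := F.toPair.D.abel_le hle fun c hc d hd => F.A_comm hc hd
    rw [F.card_A] at this
    omega
  obtain ⟨ta, tb, tc, tg, av0⟩ : ∃ ta tb tc tg, K.Acts v0 (MV' ta tb tc tg) := by
    obtain ⟨m, hm⟩ := K.φ_surj (hKA.symm ▸ (mul_mem (hvA hv0 mw1) (inv_mem mw1)) : v0 * w1 * v0⁻¹ * w1⁻¹ ∈ K.A)
    have hmD : K.φ m ∈ F.toPair.D.Q := by
      rw [hm, ← commutatorElement_def]
      refine F'.toPair.toConf.bracket_mem_Q (P := zpowers v0 ⊔ F.A) ?_ ?_ (mem_sup_left (mem_zpowers _))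
        (mem_sup_right mw1) |> fun h => hDQ ▸ h
      · rw [hF'D]; exact sup_le (zpowers_le.2 (F.toPair.D.Q_le hv0)) F.A_le_D
      · refine ((F.toPair.D.isPGroup_Q).to_le (zpowers_le.2 hv0)).to_sup_of_normal_right' F.isPGroup_A ?_
        exact zpowers_le.2 (mem_normalizer_iff.2 fun c => ⟨fun hc => hvA hv0 hc, fun hc => by
          simpa [mul_assoc] using hvA (inv_mem hv0) hc⟩)
    have hm23 := hcore m hmD
    obtain ⟨g', hg'⟩ : ∃ g' : ZMod 3, v0 * e * v0⁻¹ = K.φ (0, g', g', 1) := by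
      obtain ⟨n, hn⟩ := mem_zpowers_iff.1 (F.toPair.D.comm_mem v0 hv0 e heD)
      refine ⟨(n : ZMod 3), ?_⟩
      have hyn : F.toPair.D.z ^ n = K.φ (0, (n : ZMod 3), (n : ZMod 3), 0) := by
        have e1 : ((0 : ZMod 3), (n : ZMod 3), (n : ZMod 3), (0 : ZMod 3)) = smulV (n : ZMod 3) (0, 1, 1, 0) := by
          simp [smulV]
        rw [e1, K.φ_smul, hphi]
        simp only [pw_zero, pw_one, one_mul, mul_one]
        rw [← hy1, pw]
        show F.toPair.y ^ n = _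
        rw [← zpow_natCast, zpow_eq_zpow_iff_modEq,
          show orderOf F.toPair.y = 3 from F.toPair.D.order_z, ZMod.val_intCast]
        exact (Int.mod_modEq _ _).symm
      rw [show v0 * e * v0⁻¹ = ⁅v0, e⁆ * e by simp only [commutatorElement_def]; group, ← hn, hyn, ← hK4,
        ← K.φ_b4, ← K.φ_add]
      congr 1
      simp [b4]
    refine ⟨m.1, m.2.2.2, m.2.1, g', K.acts_of ?_ ?_ ?_ ?_⟩
    · rw [hK1, hphi]
      simp only [MV', pw_zero, pw_one, mul_one]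
      rw [show v0 * z1 * v0⁻¹ = ⁅v0, z1⁆ * z1 by simp only [commutatorElement_def]; group, hv0z, hy1,
        (F.A_comm (mul_mem mw1 mu1) mz1).eq, mul_assoc]
    · rw [hK2, show v0 * w1 * v0⁻¹ = v0 * w1 * v0⁻¹ * w1⁻¹ * w1 by group, ← hm, ← hK2, ← K.φ_b2, ← K.φ_add]
      congr 1
      obtain ⟨m1, m2, m3, m4⟩ := m
      simp only at hm23 ⊢
      subst hm23
      simp [MV', b2, add_comm]
    · rw [hK3, hu1, show v0 * (w1⁻¹ * F.toPair.y) * v0⁻¹ = (v0 * w1 * v0⁻¹ * w1⁻¹ * w1)⁻¹ * (v0 * F.toPair.y * v0⁻¹)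
        by group, ← hm]
      have hv0y : v0 * F.toPair.y * v0⁻¹ = K.φ (0, 1, 1, 0) := by
        rw [mul_inv_eq_iff_eq_mul.2 (show v0 * F.toPair.y = F.toPair.y * v0 from (F.toPair.D.commute_z (F.toPair.D.Q_le hv0)).eq), hphi]
        simp [pw_zero, pw_one, hy1]
      rw [hv0y, ← hK2, ← K.φ_b2, ← K.φ_add]
      rw [show ∀ p : V4, (K.φ p)⁻¹ = K.φ (-p) from fun p => inv_eq_of_mul_eq_one_right (by
        rw [← K.φ_add, add_neg_cancel, K.φ_zero]), ← K.φ_add]
      congr 1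
      obtain ⟨m1, m2, m3, m4⟩ := m
      simp only at hm23 ⊢
      subst hm23
      simp [MV', b2]
      ring_nf
    · rw [hK4, hg']
      congr 1
  have hvr : K.Acts (v0 * r) (mulM (mulM MW MU) (MV' ta tb tc tg)) := by
    have hc : ⁅v0, r⁆ ∈ K.A := by
      rw [hKA]
      exact zpowers_le.2 F.y_mem_A (F.toPair.D.comm_mem _ hv0 _ hr.2)
    have h := (K.acts_of_mem hc).mul (ar.mul av0)
    rwa [mulM_one, show ⁅v0, r⁆ * (r * v0) = v0 * r by simp only [commutatorElement_def]; group] at h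
  have htb : tb = 2 := rel_b ta tb tc tg (K.acts_unique (av0.mul ar) hvr)
  subst htb
  obtain ⟨c, g', hcg⟩ := norm_v ta tc tg
  obtain ⟨v1, hv1⟩ : ∃ v1, v1 = v0 * r ^ (-ta).val := ⟨_, rfl⟩
  have hv1D : v1 ∈ F.toPair.D.Q := hv1 ▸ mul_mem hv0 (pow_mem hr.2 _)
  have av1 : K.Acts v1 (MV' 0 2 c g') := hv1 ▸ hcg ▸ av0.mul (hpow ar _)
  -- the word forcing the last relation
  have hgc : g' = c := by
    by_contra hne
    obtain ⟨hfix, hcube⟩ := word_fix c g' (Ne.symm hne)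
    beta_reduce at hcube
    obtain ⟨M, hM⟩ : ∃ M, M = mulM (MV' 0 2 c g') (mulM (MV' 0 2 c g') (mulM MW (mulM (MV' 0 2 c g')
      (mulM MU (MV' 0 2 c g'))))) := ⟨_, rfl⟩
    rw [← hM] at hfix hcube
    obtain ⟨om, hom⟩ : ∃ om, om = v1 * (v1 * (a * (v1 * (b * v1)))) := ⟨_, rfl⟩
    have aom : K.Acts om M := hM ▸ hom ▸ av1.mul (av1.mul (aw.mul (av1.mul (au.mul av1))))
    -- replace the word by its 3-part
    obtain ⟨n, hn⟩ := Nat.exists_eq_pow_mul_and_not_dvd (orderOf_pos om).ne' 3 (by norm_num)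
    obtain ⟨m, hmn, hn1⟩ := hn
    obtain ⟨k, hk1, hk3⟩ : ∃ k, m ∣ k ∧ k % 3 = 1 := by
      have h3 : m % 3 = 1 ∨ m % 3 = 2 := by
        have := fun h => hmn (Nat.dvd_of_mod_eq_zero h)
        omega
      rcases h3 with h | h
      · exact ⟨m, dvd_rfl, h⟩
      · exact ⟨2 * m, dvd_mul_left _ _, by omega⟩
    obtain ⟨o, ho⟩ : ∃ o, o = om ^ k := ⟨_, rfl⟩
    have ao : K.Acts o M := by
      have h3 : K.Acts (om ^ 3) oneM := by
        have := (aom.mul (aom.mul aom))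
        rw [hcube] at this
        rwa [show om * (om * om) = om ^ 3 by rw [pow_succ, pow_two, mul_assoc]] at this
      have h := (hpow h3 (k / 3)).mul aom
      have hone : ∀ q, powM oneM q = oneM := fun q => by
        induction q with
        | zero => rfl
        | succ q ih => rw [powM, ih, mulM_one]
      rw [hone, mulM_one, ← pow_mul, ← pow_succ] at h
      rwa [ho, show k = 3 * (k / 3) + 1 by omega]
    have hop : ∃ q, o ^ 3 ^ q = 1 := by
      refine ⟨n, ?_⟩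
      rw [ho, ← pow_mul]
      obtain ⟨l, hl⟩ := hk1
      rw [hl, show m * l * 3 ^ n = orderOf om * l by rw [hn1]; ring, pow_mul, pow_orderOf_eq_one, one_pow]
    have hoC : o ∈ F.toPair.toConf.Cz := by
      have h := ao b1
      rw [hfix, K.φ_b1, hK1] at h
      have h1 : Commute o z1 := mul_inv_eq_iff_eq_mul.1 h
      obtain ⟨q, hq⟩ := mem_zpowers_iff.1 (hz1gen.symm ▸ mem_zpowers F.z : F.z ∈ zpowers z1)
      exact F.toPair.toConf.mem_Cz.2 (hq ▸ (h1.zpow_right q).eq)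
    have hoP : IsPGroup 3 (zpowers o) := by
      rintro ⟨x, hx⟩
      obtain ⟨q, hq⟩ := hop
      obtain ⟨l, rfl⟩ := mem_zpowers_iff.1 hx
      refine ⟨q, Subtype.ext ?_⟩
      show (o ^ l) ^ 3 ^ q = 1
      rw [← zpow_natCast, ← zpow_mul, mul_comm, zpow_mul, zpow_natCast, hq, one_zpow]
    have hon : zpowers o ≤ normalizer (F.A : Set G) := zpowers_le.2 (mem_normalizer_iff.2 fun c' => ⟨
      fun hc' => hKA ▸ ao.map_A (hKA.symm ▸ hc'), fun hc' => by
        rw [← hKA] at hc' ⊢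
        obtain ⟨p, hp⟩ := K.φ_surj hc'
        have hbij : Function.Surjective (app M) := fun p => ⟨app M (app M p), by
          have hc3 := hcube
          have h4 := congrArg (fun N => app N p) hc3
          simpa only [app_mulM, app_oneM] using h4⟩
        obtain ⟨p', rfl⟩ := hbij p
        rw [← ao] at hp
        exact mul_left_cancel (mul_right_cancel hp) ▸ K.φ_mem p'⟩)
    obtain ⟨k', q, hq, hoq⟩ := F.toPair.toConf.exists_zpow (P := zpowers o ⊔ F.A)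
      (sup_le (zpowers_le.2 hoC) F.A_le_Cz) (hoP.to_sup_of_normal_right' F.isPGroup_A hon)
      (mem_sup_right F.s_mem_A) (mem_sup_left (mem_zpowers o)) F.s_not
    have aq : K.Acts q M := by
      have h := ao.mul (K.acts_of_mem (hKA.symm ▸ inv_mem (zpow_mem F.s_mem_A k') : (F.s ^ k')⁻¹ ∈ K.A))
      rw [hoq, mul_inv_cancel_right] at h
      have e1 : mulM M oneM = M := by
        refine K.acts_unique (g := o) ?_ ao
        have := ao.mul K.acts_one
        rwa [mul_one] at this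
      rwa [e1] at h
    -- the maps of the core
    obtain ⟨ni, hni⟩ : ∃ ni : ℤ, ⁅q, w1⁆ = z1 ^ ni := by
      obtain ⟨p, hp⟩ := mem_zpowers_iff.1 (hz1gen.symm ▸ F.comm_mem _ hq _ hw1W.1 : ⁅q, w1⁆ ∈ zpowers z1)
      exact ⟨p, hp.symm⟩
    obtain ⟨nj, hnj⟩ : ∃ nj : ℤ, ⁅q, u1⁆ = z1 ^ nj := by
      obtain ⟨p, hp⟩ := mem_zpowers_iff.1 (hz1gen.symm ▸ F.comm_mem _ hq _ hu1U.1 : ⁅q, u1⁆ ∈ zpowers z1)
      exact ⟨p, hp.symm⟩
    have hz13 : orderOf z1 = 3 := orderOf_eq_prime (F.A_exp mz1) haz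
    have hred : ∀ p : ℤ, z1 ^ p = z1 ^ (p % 3).toNat := fun p => by
      rw [← zpow_natCast, Int.toNat_of_nonneg (Int.emod_nonneg _ (by norm_num)), zpow_eq_zpow_iff_modEq, hz13]
      exact (Int.mod_modEq _ _).symm
    rw [hred] at hni hnj
    obtain ⟨si, hsi⟩ : ∃ si, si = (ni % 3).toNat := ⟨_, rfl⟩
    obtain ⟨sj, hsj⟩ : ∃ sj, sj = ((-nj) % 3).toNat := ⟨_, rfl⟩
    have hnj' : ⁅q, u1⁆ = (z1 ^ sj)⁻¹ := by
      rw [hnj, hsj, ← hred, ← hred, zpow_neg, inv_inv]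
    rw [← hsi] at hni
    obtain ⟨q', hq'⟩ : ∃ q', q' = a ^ si * b ^ sj := ⟨_, rfl⟩
    have hq'Q : q' ∈ F.Q := hq' ▸ mul_mem (pow_mem ha.1 _) (pow_mem hb.1 _)
    have hbpow : ∀ (d : G) (hd : d ∈ F.Q) (l : ℕ) (y' : G) (hy' : y' ∈ F.Q), ⁅d ^ l, y'⁆ = ⁅d, y'⁆ ^ l :=
      fun d hd l y' hy' => by
        simpa [Conf.bracketHom] using congrArg Subtype.val (map_pow (F.toPair.toConf.bracketHom hy') ⟨d, hd⟩ l)
    have hq1 : ⁅q', w1⁆ = ⁅q, w1⁆ := by
      rw [hq', F.toPair.toConf.bracket_mul_left (pow_mem ha.1 _) (pow_mem hb.1 _) hw1W.1, hbpow a ha.1 _ _ hw1W.1,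
        hbpow b hb.1 _ _ hw1W.1, commutatorElement_eq_one_iff_commute.2 (F.toPair.toConf.commute_WU hw1W hb).symm,
        one_pow, mul_one, ← hz1, hni]
    have hq2 : ⁅q', u1⁆ = ⁅q, u1⁆ := by
      rw [hq', F.toPair.toConf.bracket_mul_left (pow_mem ha.1 _) (pow_mem hb.1 _) hu1U.1, hbpow a ha.1 _ _ hu1U.1,
        hbpow b hb.1 _ _ hu1U.1, commutatorElement_eq_one_iff_commute.2 (F.toPair.toConf.commute_WU ha hu1U),
        one_pow, one_mul, hbu, inv_pow, hnj']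
    obtain ⟨d', hd'⟩ : ∃ d', d' = q'⁻¹ * q := ⟨_, rfl⟩
    have hd'Q : d' ∈ F.Q := hd' ▸ mul_mem (inv_mem hq'Q) hq
    have hd'B : d' ∈ F.B := by
      have hcd : ∀ x ∈ F.Q, ⁅q', x⁆ = ⁅q, x⁆ → Commute d' x := fun x hx hh => by
        refine commutatorElement_eq_one_iff_commute.1 ?_
        have h1 : ⁅q'⁻¹, x⁆ = ⁅q', x⁆⁻¹ := by
          simpa [Conf.bracketHom] using congrArg Subtype.val (map_inv (F.toPair.toConf.bracketHom hx) ⟨q', hq'Q⟩)
        rw [hd', F.toPair.toConf.bracket_mul_left (inv_mem hq'Q) hq hx, h1, hh, inv_mul_cancel]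
      have cw : Commute d' w1 := hcd _ hw1W.1 hq1
      have cu : Commute d' u1 := hcd _ hu1U.1 hq2
      have cz : Commute d' F.z := F.toPair.toConf.commute_z (F.Q_le hd'Q)
      have cFw : Commute d' F.w := by
        have := cw.mul_right (cz.zpow_right i).inv_right
        rwa [hw1, mul_inv_cancel_right] at this
      have cFu : Commute d' F.u := by
        have := (cz.zpow_right i).mul_right cu
        rwa [hu1', mul_inv_cancel_left] at this
      have hcB : F.B ≤ centralizer ({d'} : Set G) := sup_le (sup_le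
        (zpowers_le.2 (mem_centralizer_singleton_iff.2 cz.symm.eq))
        (zpowers_le.2 (mem_centralizer_singleton_iff.2 cFw.symm.eq)))
        (zpowers_le.2 (mem_centralizer_singleton_iff.2 cFu.symm.eq))
      by_contra hn'
      have h81 := F.toPair.toConf.card_sup_zpowers hd'Q F.B_le_Q
        (fun x hx => (mem_centralizer_singleton_iff.1 (hcB hx)).symm) hn'
      have hle := F.toPair.toConf.abel_le (H := F.B ⊔ zpowers d') (sup_le F.B_le_Q (zpowers_le.2 hd'Q)) (by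
        have hcc : ∀ x ∈ (F.B : Set G) ∪ {d'}, ∀ y ∈ (F.B : Set G) ∪ {d'}, x * y = y * x := by
          rintro x (hx | rfl) y (hy | rfl)
          exacts [(F.A_comm (F.B_le_A hx) (F.B_le_A hy)).eq, mem_centralizer_singleton_iff.1 (hcB hx),
            (mem_centralizer_singleton_iff.1 (hcB hy)).symm, rfl]
        intro x hx y hy
        haveI := Subgroup.isMulCommutative_closure hcc
        have hle : F.B ⊔ zpowers d' ≤ closure ((F.B : Set G) ∪ {d'}) :=
          sup_le (fun x hx => subset_closure (Or.inl hx)) (zpowers_le.2 (subset_closure (Or.inr rfl)))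
        exact congrArg Subtype.val (mul_comm' (⟨x, hle hx⟩ : closure ((F.B : Set G) ∪ {d'})) ⟨y, hle hy⟩))
      rw [h81, F.card_B] at hle
      omega
    have aq' : K.Acts q (mulM (powM MW si) (powM MU sj)) := by
      have h := ((hpow aw si).mul (hpow au sj)).mul (K.acts_of_mem (hKA.symm ▸ F.B_le_A hd'B : d' ∈ K.A))
      rw [← hq', hd', mul_inv_cancel_left] at h
      rwa [mulM_oneM] at h
    have hsi3 : si < 3 := by rw [hsi]; omega
    have hsj3 : sj < 3 := by rw [hsj]; omega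
    exact hne (rel_word c g' ⟨⟨si, hsi3⟩, ⟨sj, hsj3⟩, hM ▸ K.acts_unique aq aq'⟩)
  subst g'
  -- shift the fourth coordinate
  obtain ⟨e2, he2⟩ : ∃ e2, e2 = pw z1 c * e := ⟨_, rfl⟩
  obtain ⟨v2, hv2⟩ : ∃ v2, v2 = v1 * r ^ (-c).val := ⟨_, rfl⟩
  have av2 : K.Acts v2 (MV' (-c) 2 0 (-c)) := hv2 ▸ norm_e c ▸ av1.mul (hpow ar _)
  have mz1K : z1 ∈ K.A := hKA.symm ▸ mz1
  have hgen2 : F.A = closure ({z1, w1, u1, e2} : Set G) := by
    rw [hgen]
    refine le_antisymm ((closure_le _).2 ?_) ((closure_le _).2 ?_)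
    · rintro x (rfl | rfl | rfl | rfl)
      · exact subset_closure (by simp)
      · exact subset_closure (by simp)
      · exact subset_closure (by simp)
      · have hzc : z1 ∈ closure ({z1, w1, u1, e2} : Set G) := subset_closure (by simp)
        have := mul_mem (inv_mem (pow_mem hzc c.val)) (show e2 ∈ closure ({z1, w1, u1, e2} : Set G) from subset_closure (by simp))
        rwa [he2, pw, inv_mul_cancel_left, ← pw, ← he2] at this
    · rintro x (rfl | rfl | rfl | rfl)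
      · exact subset_closure (by simp)
      · exact subset_closure (by simp)
      · exact subset_closure (by simp)
      · have hzc : z1 ∈ closure ({z1, w1, u1, e} : Set G) := subset_closure (by simp)
        exact he2 ▸ mul_mem (pow_mem hzc c.val) (subset_closure (by simp))
  obtain ⟨K2, h2A, h21, h22, h23, h24⟩ : ∃ K2 : Coord G, K2.A = F.A ∧ K2.p1 = z1 ∧ K2.p2 = w1 ∧ K2.p3 = u1 ∧ K2.p4 = e2 :=
    ⟨⟨F.A, z1, w1, u1, e2, fun a ha b hb => F.A_comm ha hb, fun a ha => F.A_exp ha, F.card_A, hgen2⟩,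
      rfl, rfl, rfl, rfl, rfl⟩
  have hφ2 : ∀ n : V4, K2.φ n = K.φ (n.1 + n.2.2.2 * c, n.2.1, n.2.2.1, n.2.2.2) := by
    intro n
    have h4 : e2 = K.φ (c, 0, 0, 1) := by
      rw [he2, ← hK1, ← hK4, ← K.φ_b1, ← K.φ_b4, ← K.φ_smul, ← K.φ_add]
      congr 1
      simp [smulV, b1, b4]
    rw [Coord.φ, h21, h22, h23, h24, h4, ← hK1, ← hK2, ← hK3, ← K.φ_b1, ← K.φ_b2, ← K.φ_b3, ← K.φ_smul,
      ← K.φ_smul, ← K.φ_smul, ← K.φ_smul, ← K.φ_add, ← K.φ_add, ← K.φ_add]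
    congr 1
    simp [smulV, b1, b2, b3]
  have key : ∀ (g : G) (M N : M4), K.Acts g M →
      (∀ n : V4, app M (n.1 + n.2.2.2 * c, n.2.1, n.2.2.1, n.2.2.2) =
        ((app N n).1 + (app N n).2.2.2 * c, (app N n).2.1, (app N n).2.2.1, (app N n).2.2.2)) → K2.Acts g N := by
    intro g M N h hh n
    rw [hφ2, h, hh, ← hφ2]
  refine ⟨⟨F, K2, a, b, v2, h2A, h21 ▸ hz1Z, h22 ▸ hw1W, h23 ▸ hu1U, ?_, ?_, ?_, ?_, ha, hb,
    hv2 ▸ mul_mem hv1D (pow_mem hr.2 _), key _ _ _ aw fun n => (shift_maps c n).1, key _ _ _ au fun n => (shift_maps c n).2.1,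
    key _ _ _ at' fun n => (shift_maps c n).2.2.1, key _ _ _ av2 fun n => (shift_maps c n).2.2.2⟩, rfl⟩
  · rw [h22, h23]; exact hy1
  · rw [h24, he2, show F.t * (pw z1 c * e) * F.t⁻¹ = F.t * pw z1 c * F.t⁻¹ * (F.t * e * F.t⁻¹) by group, hte,
      F.toPair.toConf.fix_Z F.t_mem (show pw z1 c ∈ zpowers F.z from pow_mem hz1Z _)]
  · rw [h24, he2]; exact mul_mem (pow_mem hz1D _) heD
  · rw [h24]
    intro h
    refine heQ ?_
    have := mul_mem (inv_mem (pow_mem (F.toPair.toConf.Z_le_Q hz1Z) c.val)) h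
    rwa [he2, pw, inv_mul_cancel_left] at this

end Pair

end Cfsg.Agent.O8Three
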