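import Mathlib.GroupTheory.Sylow
import Mathlib.GroupTheory.Commutator.Basic

/-!
S3372: the centraliser of an element of order three with core `3^{1+4}` and an involution splitting the core
into two extraspecial groups of order 27.
-/

set_option autoImplicit false
set_option linter.style.haveILetI false
set_option linter.unusedSectionVars false

namespace Cfsg.Agent.O8Three

open Subgroup
open scoped commutatorElement

/-- An element of order three, the core of its centraliser and an involution central modulo the core. -/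
structure Conf (G : Type*) [Group G] [Finite G] where
  /-- the element of order three -/
  z : G
  /-- the core of its centraliser -/
  Q : Subgroup G
  /-- the involution -/
  t : G
  Q_le : Q ≤ centralizer ({z} : Set G)
  normal : ∀ c ∈ centralizer ({z} : Set G), ∀ q ∈ Q, c * q * c⁻¹ ∈ Q
  card_Q : Nat.card Q = 243
  exp_Q : ∀ a ∈ Q, a ^ 3 = 1
  comm_mem : ∀ a ∈ Q, ∀ b ∈ Q, ⁅a, b⁆ ∈ zpowers z
  z_mem : z ∈ Q
  z_ne : z ≠ 1
  cent_Q : ∀ x, (∀ q ∈ Q, x * q = q * x) → x ∈ Q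
  center_Q : ∀ x ∈ Q, (∀ q ∈ Q, x * q = q * x) → x ∈ zpowers z
  t_mem : t ∈ centralizer ({z} : Set G)
  t_sq : t * t = 1
  central : ∀ c ∈ centralizer ({z} : Set G), ∀ x ∈ centralizer ({z} : Set G), x * x ∈ Q → ⁅c, x⁆ ∈ Q
  sylow : ∀ P : Subgroup G, P ≤ centralizer ({z} : Set G) → IsPGroup 3 P → Nat.card P ≤ 729
  card_fix : {q : G | q ∈ Q ∧ t * q * t⁻¹ = q}.ncard = 27
  moves : ∀ s ∈ centralizer ({z} : Set G), s ^ 3 ∈ Q → s ∉ Q →
    ∃ q ∈ Q, t * q * t⁻¹ * q ∈ zpowers z ∧ ⁅s, q⁆ ∉ zpowers z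

namespace Conf

variable {G : Type*} [Group G] [Finite G] (C : Conf G)
include C

/-- The centraliser. -/
abbrev Cz : Subgroup G := centralizer ({C.z} : Set G)

theorem z3 : C.z ^ 3 = 1 := C.exp_Q _ C.z_mem

theorem order_z : orderOf C.z = 3 :=
  haveI : Fact (Nat.Prime 3) := ⟨Nat.prime_three⟩
  orderOf_eq_prime C.z3 C.z_ne

theorem card_Z : Nat.card (zpowers C.z) = 3 := by rw [Nat.card_zpowers, C.order_z]

theorem mem_Cz {x : G} : x ∈ C.Cz ↔ x * C.z = C.z * x := mem_centralizer_singleton_iff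

theorem commute_z {x : G} (hx : x ∈ C.Cz) : Commute x C.z := C.mem_Cz.1 hx

theorem commute_zpow {x : G} (hx : x ∈ C.Cz) {c : G} (hc : c ∈ zpowers C.z) : Commute x c := by
  obtain ⟨n, rfl⟩ := mem_zpowers_iff.1 hc
  exact (C.commute_z hx).zpow_right n

theorem Z_le_Q : zpowers C.z ≤ C.Q := zpowers_le.2 C.z_mem

theorem fix_Z {x : G} (hx : x ∈ C.Cz) {c : G} (hc : c ∈ zpowers C.z) : x * c * x⁻¹ = c :=
  mul_inv_eq_iff_eq_mul.2 (C.commute_zpow hx hc).eq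

theorem sq_eq_one {x : G} (hx : x ∈ C.Q) (h : x * x = 1) : x = 1 := by
  have h3 := C.exp_Q x hx
  rwa [pow_succ, pow_two, h, one_mul] at h3

theorem inv_t : C.t⁻¹ = C.t := inv_eq_of_mul_eq_one_right C.t_sq

theorem conjQ_t {q : G} (hq : q ∈ C.Q) : C.t * q * C.t⁻¹ ∈ C.Q := C.normal _ C.t_mem _ hq

theorem t_conj_t (q : G) : C.t * (C.t * q * C.t⁻¹) * C.t⁻¹ = q := by
  rw [show C.t * (C.t * q * C.t⁻¹) * C.t⁻¹ = C.t * C.t * q * (C.t * C.t)⁻¹ by group, C.t_sq,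
    inv_one, one_mul, mul_one]

theorem bracket_mul_left {a b c : G} (ha : a ∈ C.Q) (hb : b ∈ C.Q) (hc : c ∈ C.Q) :
    ⁅a * b, c⁆ = ⁅a, c⁆ * ⁅b, c⁆ := by
  have h1 : ⁅a * b, c⁆ = a * ⁅b, c⁆ * a⁻¹ * ⁅a, c⁆ := by
    simp only [commutatorElement_def]; group
  have h2 : Commute a ⁅b, c⁆ := C.commute_zpow (C.Q_le ha) (C.comm_mem _ hb _ hc)
  have h3 : Commute ⁅b, c⁆ ⁅a, c⁆ :=
    C.commute_zpow (C.Q_le (C.Z_le_Q (C.comm_mem _ hb _ hc))) (C.comm_mem _ ha _ hc)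
  rw [h1, h2.eq, mul_inv_cancel_right, h3.eq]

theorem bracket_mul_right {a b c : G} (ha : a ∈ C.Q) (hb : b ∈ C.Q) (hc : c ∈ C.Q) :
    ⁅a, b * c⁆ = ⁅a, b⁆ * ⁅a, c⁆ := by
  have h2 : Commute b ⁅a, c⁆ := C.commute_zpow (C.Q_le hb) (C.comm_mem _ ha _ hc)
  rw [show ⁅a, b * c⁆ = ⁅a, b⁆ * (b * ⁅a, c⁆ * b⁻¹) by simp only [commutatorElement_def]; group,
    h2.eq, mul_inv_cancel_right]

theorem bracket_Z_left {c q : G} (hc : c ∈ zpowers C.z) (hq : q ∈ C.Q) : ⁅c, q⁆ = 1 :=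
  commutatorElement_eq_one_iff_commute.2 (C.commute_zpow (C.Q_le hq) hc).symm

theorem bracket_Z_right {c q : G} (hc : c ∈ zpowers C.z) (hq : q ∈ C.Q) : ⁅q, c⁆ = 1 :=
  commutatorElement_eq_one_iff_commute.2 (C.commute_zpow (C.Q_le hq) hc)

/-- Conjugation by an element of the centraliser, on a commutator of `Q`. -/
theorem conj_bracket {x a b : G} (hx : x ∈ C.Cz) (ha : a ∈ C.Q) (hb : b ∈ C.Q) :
    ⁅x * a * x⁻¹, x * b * x⁻¹⁆ = ⁅a, b⁆ := by
  rw [show ⁅x * a * x⁻¹, x * b * x⁻¹⁆ = x * ⁅a, b⁆ * x⁻¹ by simp only [commutatorElement_def]; group]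
  exact C.fix_Z hx (C.comm_mem _ ha _ hb)

/-- The map `a ↦ ⁅a, y⁆` on `Q`. -/
def bracketHom {y : G} (hy : y ∈ C.Q) : C.Q →* zpowers C.z where
  toFun a := ⟨⁅(a : G), y⁆, C.comm_mem _ a.2 _ hy⟩
  map_one' := Subtype.ext (by simp)
  map_mul' a b := Subtype.ext (C.bracket_mul_left a.2 b.2 hy)

theorem card_inf_centralizer {y : G} (hy : y ∈ C.Q) (hyz : y ∉ zpowers C.z) :
    Nat.card ↥(C.Q ⊓ centralizer ({y} : Set G)) = 81 := by
  have hk : (C.bracketHom hy).ker = (C.Q ⊓ centralizer ({y} : Set G)).subgroupOf C.Q := by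
    ext a
    rw [MonoidHom.mem_ker, mem_subgroupOf, mem_inf]
    constructor
    · intro h
      refine ⟨a.2, mem_centralizer_singleton_iff.2 ?_⟩
      exact commutatorElement_eq_one_iff_mul_comm.1 (congrArg Subtype.val h)
    · rintro ⟨-, h⟩
      exact Subtype.ext (commutatorElement_eq_one_iff_mul_comm.2
        (mem_centralizer_singleton_iff.1 h))
  have hsurj : Function.Surjective (C.bracketHom hy) := by
    rw [← MonoidHom.range_eq_top]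
    haveI : Fact (Nat.card (zpowers C.z)).Prime := ⟨by rw [C.card_Z]; exact Nat.prime_three⟩
    refine ((C.bracketHom hy).range.eq_bot_or_eq_top_of_prime_card).resolve_left fun h => hyz ?_
    refine C.center_Q y hy fun q hq => ?_
    have hm : C.bracketHom hy ⟨q, hq⟩ ∈ (C.bracketHom hy).range := ⟨⟨q, hq⟩, rfl⟩
    rw [h, mem_bot] at hm
    have := congrArg Subtype.val hm
    exact (commutatorElement_eq_one_iff_mul_comm.1 this).symm
  have h := Subgroup.card_eq_card_quotient_mul_card_subgroup (C.bracketHom hy).ker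
  rw [Nat.card_congr (QuotientGroup.quotientKerEquivOfSurjective _ hsurj).toEquiv, C.card_Z,
    C.card_Q, hk, Nat.card_congr (subgroupOfEquivOfLe inf_le_left).toEquiv] at h
  omega

/-- The fixed elements of the involution in `Q`. -/
def U : Subgroup G where
  carrier := {q | q ∈ C.Q ∧ C.t * q * C.t⁻¹ = q}
  mul_mem' := fun {a b} ha hb => ⟨mul_mem ha.1 hb.1, by
    rw [show C.t * (a * b) * C.t⁻¹ = C.t * a * C.t⁻¹ * (C.t * b * C.t⁻¹) by group, ha.2, hb.2]⟩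
  one_mem' := ⟨one_mem _, by group⟩
  inv_mem' := fun {a} ha => ⟨inv_mem ha.1, by
    rw [show C.t * a⁻¹ * C.t⁻¹ = (C.t * a * C.t⁻¹)⁻¹ by group, ha.2]⟩

/-- The elements of `Q` inverted modulo the centre by the involution. -/
def W : Subgroup G where
  carrier := {q | q ∈ C.Q ∧ C.t * q * C.t⁻¹ * q ∈ zpowers C.z}
  mul_mem' := fun {a b} ha hb => ⟨mul_mem ha.1 hb.1, by
    have e : C.t * (a * b) * C.t⁻¹ * (a * b) = C.t * a * C.t⁻¹ * a *
        (C.t * b * C.t⁻¹ * ⁅(C.t * b * C.t⁻¹)⁻¹, a⁻¹⁆ * (C.t * b * C.t⁻¹)⁻¹ * (C.t * b * C.t⁻¹ * b)) := by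
      simp only [commutatorElement_def]; group
    have hB := C.conjQ_t hb.1
    rw [e, C.fix_Z (C.Q_le hB) (C.comm_mem _ (inv_mem hB) _ (inv_mem ha.1))]
    exact mul_mem ha.2 (mul_mem (C.comm_mem _ (inv_mem hB) _ (inv_mem ha.1)) hb.2)⟩
  one_mem' := ⟨one_mem _, by simp⟩
  inv_mem' := fun {a} ha => ⟨inv_mem ha.1, by
    have e : C.t * a⁻¹ * C.t⁻¹ * a⁻¹ = ⁅(C.t * a * C.t⁻¹)⁻¹, a⁻¹⁆ * (C.t * a * C.t⁻¹ * a)⁻¹ := by
      simp only [commutatorElement_def]; group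
    rw [e]
    exact mul_mem (C.comm_mem _ (inv_mem (C.conjQ_t ha.1)) _ (inv_mem ha.1)) (inv_mem ha.2)⟩

theorem mem_U {q : G} : q ∈ C.U ↔ q ∈ C.Q ∧ C.t * q * C.t⁻¹ = q := Iff.rfl

theorem mem_W {q : G} : q ∈ C.W ↔ q ∈ C.Q ∧ C.t * q * C.t⁻¹ * q ∈ zpowers C.z := Iff.rfl

theorem U_le : C.U ≤ C.Q := fun _ h => h.1

theorem W_le : C.W ≤ C.Q := fun _ h => h.1

theorem Z_le_U : zpowers C.z ≤ C.U := fun _ h => ⟨C.Z_le_Q h, C.fix_Z C.t_mem h⟩

theorem Z_le_W : zpowers C.z ≤ C.W := fun c h => ⟨C.Z_le_Q h, by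
  rw [C.fix_Z C.t_mem h]; exact mul_mem h h⟩

theorem card_U : Nat.card C.U = 27 := (Nat.card_coe_set_eq (C.U : Set G)).trans C.card_fix

theorem mem_U_of {q : G} (hq : q ∈ C.Q) (h : C.t * q * C.t⁻¹ * q⁻¹ ∈ zpowers C.z) : q ∈ C.U := by
  refine ⟨hq, mul_inv_eq_one.1 (C.sq_eq_one (C.Z_le_Q h) ?_)⟩
  obtain ⟨c, hc⟩ : ∃ c, c = C.t * q * C.t⁻¹ * q⁻¹ := ⟨_, rfl⟩
  rw [← hc] at h ⊢
  have h1 : C.t * q * C.t⁻¹ = c * q := by rw [hc, inv_mul_cancel_right]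
  have h2 : c * c * q = q := by
    conv_rhs => rw [← C.t_conj_t q, h1, show C.t * (c * q) * C.t⁻¹ = C.t * c * C.t⁻¹ * (C.t * q * C.t⁻¹) by group,
      C.fix_Z C.t_mem h, h1, ← mul_assoc]
  exact mul_eq_right.1 h2

theorem inf_WU {q : G} (h1 : q ∈ C.W) (h2 : q ∈ C.U) : q ∈ zpowers C.z := by
  have h : q * q ∈ zpowers C.z := by
    have := h1.2
    rwa [h2.2] at this
  have e : q = (q * q) * (q * q) := by
    have h3 := C.exp_Q q h1.1
    rw [pow_succ, pow_two] at h3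
    rw [← mul_assoc, h3, one_mul]
  rw [e]
  exact mul_mem h h

theorem split {q : G} (hq : q ∈ C.Q) : ∃ w ∈ C.W, ∃ u ∈ C.U, q = w * u := by
  obtain ⟨p, hp⟩ : ∃ p, p = C.t * q * C.t⁻¹ := ⟨_, rfl⟩
  have hpQ : p ∈ C.Q := hp ▸ C.conjQ_t hq
  have htp : C.t * p * C.t⁻¹ = q := by rw [hp, C.t_conj_t]
  obtain ⟨u, hu⟩ : ∃ u, u = (q * p) * (q * p) := ⟨_, rfl⟩
  have hqp : q * p ∈ C.U := by
    refine C.mem_U_of (mul_mem hq hpQ) ?_
    rw [show C.t * (q * p) * C.t⁻¹ * (q * p)⁻¹ = C.t * q * C.t⁻¹ * (C.t * p * C.t⁻¹) * (q * p)⁻¹ by group,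
      ← hp, htp, _root_.mul_inv_rev, ← mul_assoc, ← commutatorElement_def]
    exact C.comm_mem _ hpQ _ hq
  have huU : u ∈ C.U := hu ▸ mul_mem hqp hqp
  refine ⟨q * u⁻¹, ⟨mul_mem hq (inv_mem huU.1), ?_⟩, u, huU, (inv_mul_cancel_right q u).symm⟩
  have hui : u⁻¹ = q * p := by
    refine inv_eq_of_mul_eq_one_right ?_
    have h3 := C.exp_Q _ hqp.1
    rwa [pow_succ, pow_two, ← hu] at h3
  rw [hui, show C.t * (q * (q * p)) * C.t⁻¹ * (q * (q * p)) =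
    C.t * q * C.t⁻¹ * (C.t * q * C.t⁻¹) * (C.t * p * C.t⁻¹) * q * q * p by group, ← hp, htp]
  have h3 := C.exp_Q p hpQ
  rw [pow_succ, pow_two] at h3
  have h3q := C.exp_Q q hq
  rw [pow_succ, pow_two] at h3q
  rw [show p * p * q * q * q * p = p * p * (q * q * q) * p by group, h3q, mul_one, h3]
  exact one_mem _

theorem card_W : Nat.card C.W = 27 := by
  classical
  haveI := Fintype.ofFinite C.Q
  have hle : C.W.subgroupOf C.Q ⊔ C.U.subgroupOf C.Q = ⊤ := eq_top_iff.2 fun q _ => by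
    obtain ⟨w, hw, u, hu, e⟩ := C.split q.2
    have : q = (⟨w, hw.1⟩ : C.Q) * ⟨u, hu.1⟩ := Subtype.ext e
    rw [this]
    exact mul_mem (mem_sup_left (mem_subgroupOf.2 hw)) (mem_sup_right (mem_subgroupOf.2 hu))
  let f : C.W × C.U → C.Q := fun p => ⟨(p.1 : G) * p.2, mul_mem p.1.2.1 p.2.2.1⟩
  have hf : ∀ q : C.Q, Nat.card {p // f p = q} = 3 := fun q => by
    obtain ⟨w, hw, u, hu, e⟩ := C.split q.2
    rw [← C.card_Z]
    refine Nat.card_congr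
      { toFun := fun p => ⟨(p.1.1 : G)⁻¹ * w, ?_⟩
        invFun := fun c => ⟨(⟨w * (c : G)⁻¹, mul_mem hw (inv_mem (C.Z_le_W c.2))⟩,
          ⟨(c : G) * u, mul_mem (C.Z_le_U c.2) hu⟩), ?_⟩
        left_inv := fun p => ?_
        right_inv := fun c => ?_ }
    · refine C.inf_WU (mul_mem (inv_mem p.1.1.2) hw) ?_
      have h : (p.1.1 : G) * p.1.2 = q := congrArg Subtype.val p.2
      have : (p.1.1 : G)⁻¹ * w = p.1.2 * u⁻¹ := by
        rw [eq_mul_inv_iff_mul_eq, mul_assoc, ← e, ← h, inv_mul_cancel_left]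
      rw [this]
      exact mul_mem p.1.2.2 (inv_mem hu)
    · refine Subtype.ext ?_
      show w * (c : G)⁻¹ * ((c : G) * u) = q
      rw [mul_assoc, inv_mul_cancel_left, e]
    · refine Subtype.ext (Prod.ext (Subtype.ext ?_) (Subtype.ext ?_))
      · show w * ((p.1.1 : G)⁻¹ * w)⁻¹ = p.1.1
        group
      · show (p.1.1 : G)⁻¹ * w * u = p.1.2
        have h : (p.1.1 : G) * p.1.2 = q := congrArg Subtype.val p.2
        rw [mul_assoc, ← e, ← h, inv_mul_cancel_left]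
    · refine Subtype.ext ?_
      show (w * (c : G)⁻¹)⁻¹ * w = c
      group
  have h := Nat.card_congr (Equiv.sigmaFiberEquiv f)
  rw [Nat.card_sigma] at h
  simp only [hf, Finset.sum_const, Finset.card_univ, smul_eq_mul] at h
  rw [← Nat.card_eq_fintype_card, C.card_Q, Nat.card_prod, C.card_U] at h
  omega

theorem commute_WU {w u : G} (hw : w ∈ C.W) (hu : u ∈ C.U) : Commute w u := by
  refine commutatorElement_eq_one_iff_commute.1 (C.sq_eq_one (C.Z_le_Q (C.comm_mem _ hw.1 _ hu.1)) ?_)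
  obtain ⟨p, hp⟩ : ∃ p, p = C.t * w * C.t⁻¹ := ⟨_, rfl⟩
  have h1 : ⁅p, u⁆ = ⁅w, u⁆ := by
    conv_lhs => rw [hp, ← hu.2]
    exact C.conj_bracket C.t_mem hw.1 hu.1
  rw [← C.bracket_Z_left (q := u) (c := p * w) (hp ▸ hw.2) hu.1,
    C.bracket_mul_left (hp ▸ C.conjQ_t hw.1) hw.1 hu.1, h1]

theorem conj_t_mem {c : G} (hc : c ∈ C.Cz) : ∃ h ∈ C.Q, c⁻¹ * C.t * c = C.t * h := by
  refine ⟨⁅C.t⁻¹, c⁻¹⁆, ?_, by simp only [commutatorElement_def]; group⟩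
  rw [← commutatorElement_inv, C.inv_t]
  exact inv_mem (C.central _ (inv_mem hc) _ C.t_mem (by rw [C.t_sq]; exact one_mem _))

theorem conj_move {c q : G} (hc : c ∈ C.Cz) (hq : q ∈ C.Q) :
    ∃ i ∈ zpowers C.z, C.t * (c * q * c⁻¹) * C.t⁻¹ = c * (C.t * q * C.t⁻¹) * c⁻¹ * i := by
  obtain ⟨h, hh, e⟩ := C.conj_t_mem hc
  refine ⟨⁅h, q⁆, C.comm_mem _ hh _ hq, ?_⟩
  have hcQ := C.comm_mem _ hh _ hq
  calc C.t * (c * q * c⁻¹) * C.t⁻¹ = c * ((c⁻¹ * C.t * c) * q * (c⁻¹ * C.t * c)⁻¹) * c⁻¹ := by group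
    _ = c * C.t * ⁅h, q⁆ * (c * C.t)⁻¹ * (c * (C.t * q * C.t⁻¹) * c⁻¹) := by
        rw [e]; simp only [commutatorElement_def]; group
    _ = _ := by
        rw [C.fix_Z (mul_mem hc C.t_mem) hcQ]
        exact (C.commute_zpow (C.Q_le (C.normal _ hc _ (C.conjQ_t hq))) hcQ).eq.symm

theorem conjU {c u : G} (hc : c ∈ C.Cz) (hu : u ∈ C.U) : c * u * c⁻¹ ∈ C.U := by
  obtain ⟨i, hi, e⟩ := C.conj_move hc hu.1
  refine C.mem_U_of (C.normal _ hc _ hu.1) ?_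
  rw [e, hu.2, mul_assoc (c * u * c⁻¹), ← (C.commute_zpow (C.Q_le (inv_mem (C.normal _ hc _ hu.1))) hi).eq,
    mul_inv_cancel_left]
  exact hi

theorem conjW {c w : G} (hc : c ∈ C.Cz) (hw : w ∈ C.W) : c * w * c⁻¹ ∈ C.W := by
  obtain ⟨i, hi, e⟩ := C.conj_move hc hw.1
  refine ⟨C.normal _ hc _ hw.1, ?_⟩
  rw [e, mul_assoc _ i, ← (C.commute_zpow (C.Q_le (C.normal _ hc _ hw.1)) hi).eq,
    show c * (C.t * w * C.t⁻¹) * c⁻¹ * (c * w * c⁻¹ * i) = c * (C.t * w * C.t⁻¹ * w) * c⁻¹ * i by group,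
    C.fix_Z hc hw.2]
  exact mul_mem hw.2 hi

/-- The components modulo the centre are unique. -/
theorem split_unique {w w' u u' : G} (hw : w ∈ C.W) (hw' : w' ∈ C.W) (hu : u ∈ C.U) (hu' : u' ∈ C.U)
    (h : (w * u)⁻¹ * (w' * u') ∈ zpowers C.z) : w⁻¹ * w' ∈ zpowers C.z ∧ u⁻¹ * u' ∈ zpowers C.z := by
  have e : (w * u)⁻¹ * (w' * u') = (w⁻¹ * w') * (u⁻¹ * u') := by
    calc (w * u)⁻¹ * (w' * u') = u⁻¹ * (w⁻¹ * w') * u' := by group
      _ = _ := by rw [(C.commute_WU (mul_mem (inv_mem hw) hw') (inv_mem hu)).eq.symm, mul_assoc]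
  rw [e] at h
  have h1 : u⁻¹ * u' ∈ zpowers C.z := C.inf_WU (by
    have := mul_mem (inv_mem (mul_mem (inv_mem hw) hw')) (C.Z_le_W h)
    rwa [inv_mul_cancel_left] at this) (mul_mem (inv_mem hu) hu')
  exact ⟨by simpa only [mul_inv_cancel_right] using mul_mem h (inv_mem h1), h1⟩

theorem isPGroup_Q : IsPGroup 3 C.Q := fun a =>
  ⟨1, Subtype.ext (by simpa using C.exp_Q _ a.2)⟩

theorem Cz_le_normalizer : C.Cz ≤ normalizer (C.Q : Set G) := fun c hc => by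
  refine mem_normalizer_iff.2 fun q => ⟨C.normal c hc q, fun h => ?_⟩
  simpa [mul_assoc] using C.normal _ (inv_mem hc) _ h

theorem card_PQ {P : Subgroup G} (hP : P ≤ C.Cz) (hp : IsPGroup 3 P) : Nat.card ↥(P ⊔ C.Q) ≤ 729 :=
  C.sylow _ (sup_le hP C.Q_le) (hp.to_sup_of_normal_right' C.isPGroup_Q (hP.trans C.Cz_le_normalizer))

/-- A 3-subgroup of the centraliser is cyclic modulo `Q`. -/
theorem exists_zpow {P : Subgroup G} (hP : P ≤ C.Cz) (hp : IsPGroup 3 P) {a b : G} (ha : a ∈ P) (hb : b ∈ P)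
    (haQ : a ∉ C.Q) : ∃ k : ℤ, ∃ q ∈ C.Q, b = q * a ^ k := by
  have hle : zpowers a ⊔ C.Q ≤ P ⊔ C.Q := sup_le_sup_right (zpowers_le.2 ha) _
  have hlt : C.Q < zpowers a ⊔ C.Q :=
    lt_of_le_of_ne le_sup_right fun h => haQ (h ▸ mem_sup_left (mem_zpowers a))
  haveI : Fact (Nat.Prime 3) := ⟨Nat.prime_three⟩
  have hPQ := C.card_PQ hP hp
  obtain ⟨k, hk⟩ := IsPGroup.iff_card.1 ((hp.to_sup_of_normal_right' C.isPGroup_Q
    (hP.trans C.Cz_le_normalizer)).to_le hle)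
  have h1 : 243 < Nat.card ↥(zpowers a ⊔ C.Q) := by
    rw [← C.card_Q]
    by_contra h
    exact hlt.ne (eq_of_le_of_card_ge hlt.le (not_lt.1 h))
  have h2 := (card_le_of_le hle).trans hPQ
  have hk5 : 6 ≤ k := by
    by_contra h
    have := Nat.pow_le_pow_right (show 0 < 3 by norm_num) (show k ≤ 5 by omega)
    omega
  have h3 := Nat.pow_le_pow_right (show 0 < 3 by norm_num) hk5
  have heq : zpowers a ⊔ C.Q = P ⊔ C.Q := eq_of_le_of_card_ge hle (by omega)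
  have hb' : b ∈ zpowers a ⊔ C.Q := heq ▸ mem_sup_left hb
  rw [← SetLike.mem_coe, sup_comm, coe_mul_of_right_le_normalizer_left _ _
    ((zpowers_le.2 (hP ha)).trans C.Cz_le_normalizer)] at hb'
  obtain ⟨q, hq, x, hx, rfl⟩ := hb'
  obtain ⟨k, rfl⟩ := mem_zpowers_iff.1 hx
  exact ⟨k, q, hq, rfl⟩

/-- Two elements of a 3-subgroup of the centraliser have their commutator in `Q`. -/
theorem bracket_mem_Q {P : Subgroup G} (hP : P ≤ C.Cz) (hp : IsPGroup 3 P) {a b : G} (ha : a ∈ P)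
    (hb : b ∈ P) : ⁅a, b⁆ ∈ C.Q := by
  by_cases haQ : a ∈ C.Q
  · rw [show ⁅a, b⁆ = a * (b * a⁻¹ * b⁻¹) by simp only [commutatorElement_def]; group]
    exact mul_mem haQ (C.normal _ (hP hb) _ (inv_mem haQ))
  · obtain ⟨k, q, hq, rfl⟩ := C.exists_zpow hP hp ha hb haQ
    rw [show ⁅a, q * a ^ k⁆ = a * q * a⁻¹ * q⁻¹ by simp only [commutatorElement_def]; group]
    exact mul_mem (C.normal _ (hP ha) _ hq) (inv_mem hq)

/-- The configuration at a conjugate element. -/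
def conj (g : G) : Conf G where
  z := g * C.z * g⁻¹
  Q := C.Q.map (MulAut.conj g).toMonoidHom
  t := g * C.t * g⁻¹
  Q_le := by
    rintro _ ⟨q, hq, rfl⟩
    exact mem_centralizer_singleton_iff.2 ((C.commute_z (C.Q_le hq)).map (MulAut.conj g)).eq
  normal := by
    rintro c hc _ ⟨q, hq, rfl⟩
    have h : g⁻¹ * c * g ∈ C.Cz := C.mem_Cz.2 <| by
      calc g⁻¹ * c * g * C.z = g⁻¹ * (c * (g * C.z * g⁻¹)) * g := by group
        _ = g⁻¹ * (g * C.z * g⁻¹ * c) * g := by rw [mem_centralizer_singleton_iff.1 hc]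
        _ = C.z * (g⁻¹ * c * g) := by group
    refine ⟨_, C.normal _ h q hq, ?_⟩
    show g * (g⁻¹ * c * g * q * (g⁻¹ * c * g)⁻¹) * g⁻¹ = c * (g * q * g⁻¹) * c⁻¹
    group
  card_Q := by rw [card_map_of_injective (MulAut.conj g).injective]; exact C.card_Q
  exp_Q := by
    rintro _ ⟨q, hq, rfl⟩
    rw [← map_pow, C.exp_Q q hq, map_one]
  comm_mem := by
    rintro _ ⟨a, ha, rfl⟩ _ ⟨b, hb, rfl⟩
    obtain ⟨n, hn⟩ := mem_zpowers_iff.1 (C.comm_mem a ha b hb)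
    refine ⟨n, ?_⟩
    rw [← map_commutatorElement, ← hn, map_zpow]
    rfl
  z_mem := ⟨C.z, C.z_mem, rfl⟩
  z_ne := fun h => C.z_ne (conj_eq_one_iff.1 h)
  cent_Q := fun x hx => by
    refine ⟨g⁻¹ * x * g, C.cent_Q _ fun q hq => ?_, show g * (g⁻¹ * x * g) * g⁻¹ = x by group⟩
    calc g⁻¹ * x * g * q = g⁻¹ * (x * (g * q * g⁻¹)) * g := by group
      _ = g⁻¹ * (g * q * g⁻¹ * x) * g := by
          have e : x * (g * q * g⁻¹) = g * q * g⁻¹ * x := hx _ ⟨q, hq, rfl⟩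
          rw [e]
      _ = _ := by group
  center_Q := by
    rintro _ ⟨q, hq, rfl⟩ h
    have h1 : q ∈ zpowers C.z := C.center_Q q hq fun p hp => by
      have e := h _ ⟨p, hp, rfl⟩
      rw [← map_mul, ← map_mul] at e
      exact (MulAut.conj g).injective e
    obtain ⟨n, rfl⟩ := mem_zpowers_iff.1 h1
    exact ⟨n, (map_zpow (MulAut.conj g) C.z n).symm⟩
  t_mem := mem_centralizer_singleton_iff.2 ((C.commute_z C.t_mem).map (MulAut.conj g)).eq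
  t_sq := by
    calc g * C.t * g⁻¹ * (g * C.t * g⁻¹) = g * (C.t * C.t) * g⁻¹ := by group
      _ = 1 := by rw [C.t_sq]; group
  central := by
    intro c hc x hx h2
    have hd : ∀ {y : G}, y ∈ centralizer ({g * C.z * g⁻¹} : Set G) → g⁻¹ * y * g ∈ C.Cz := fun {y} hy =>
      C.mem_Cz.2 <| by
        calc g⁻¹ * y * g * C.z = g⁻¹ * (y * (g * C.z * g⁻¹)) * g := by group
          _ = g⁻¹ * (g * C.z * g⁻¹ * y) * g := by rw [mem_centralizer_singleton_iff.1 hy]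
          _ = C.z * (g⁻¹ * y * g) := by group
    obtain ⟨q, hq, e⟩ := h2
    have e' : g * q * g⁻¹ = x * x := e
    refine ⟨_, C.central _ (hd hc) _ (hd hx) ?_, ?_⟩
    · rwa [show g⁻¹ * x * g * (g⁻¹ * x * g) = g⁻¹ * (x * x) * g by group, ← e',
        show g⁻¹ * (g * q * g⁻¹) * g = q by group]
    · show g * ⁅g⁻¹ * c * g, g⁻¹ * x * g⁆ * g⁻¹ = ⁅c, x⁆
      simp only [commutatorElement_def]; group
  sylow := fun P hP hp => by
    rw [Nat.card_congr (P.equivMapOfInjective (MulAut.conj g⁻¹).toMonoidHom (MulAut.conj g⁻¹).injective).toEquiv]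
    refine C.sylow _ ?_ (hp.map _)
    rintro _ ⟨a, ha, rfl⟩
    refine C.mem_Cz.2 ?_
    show g⁻¹ * a * g⁻¹⁻¹ * C.z = C.z * (g⁻¹ * a * g⁻¹⁻¹)
    calc g⁻¹ * a * g⁻¹⁻¹ * C.z = g⁻¹ * (a * (g * C.z * g⁻¹)) * g := by group
      _ = g⁻¹ * (g * C.z * g⁻¹ * a) * g := by rw [mem_centralizer_singleton_iff.1 (hP ha)]
      _ = _ := by group
  card_fix := by
    rw [← C.card_fix]
    conv_rhs => rw [← Set.ncard_image_of_injective _ (MulAut.conj g).injective]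
    congr 1
    ext x
    simp only [Set.mem_image, Set.mem_ofPred_eq]
    constructor
    · rintro ⟨⟨q, hq, rfl⟩, e⟩
      refine ⟨q, ⟨hq, (MulAut.conj g).injective ?_⟩, rfl⟩
      rw [map_mul, map_mul, map_inv]
      exact e
    · rintro ⟨q, ⟨hq, e⟩, rfl⟩
      refine ⟨⟨q, hq, rfl⟩, ?_⟩
      conv_rhs => rw [← e]
      show g * C.t * g⁻¹ * (g * q * g⁻¹) * (g * C.t * g⁻¹)⁻¹ = g * (C.t * q * C.t⁻¹) * g⁻¹
      group
  moves := by
    intro s hs h3 hn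
    have hs' : g⁻¹ * s * g ∈ C.Cz := C.mem_Cz.2 <| by
      calc g⁻¹ * s * g * C.z = g⁻¹ * (s * (g * C.z * g⁻¹)) * g := by group
        _ = g⁻¹ * (g * C.z * g⁻¹ * s) * g := by rw [mem_centralizer_singleton_iff.1 hs]
        _ = C.z * (g⁻¹ * s * g) := by group
    have hmem : ∀ {x : G}, x ∈ zpowers (g * C.z * g⁻¹) ↔ g⁻¹ * x * g ∈ zpowers C.z := fun {x} => by
      have e : ∀ n : ℤ, (g * C.z * g⁻¹) ^ n = g * C.z ^ n * g⁻¹ := fun n =>
        (map_zpow (MulAut.conj g) C.z n).symm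
      constructor
      · rintro ⟨n, rfl⟩
        exact ⟨n, by simp only [e]; group⟩
      · rintro ⟨n, hn⟩
        refine ⟨n, ?_⟩
        simp only [e] at hn ⊢
        rw [hn]; group
    obtain ⟨q, hq, h1, h2⟩ := C.moves _ hs' (by
      obtain ⟨p, hp, e⟩ := h3
      have e' : g * p * g⁻¹ = s ^ 3 := e
      rwa [show (g⁻¹ * s * g) ^ 3 = g⁻¹ * s ^ 3 * g by rw [pow_succ, pow_two, pow_succ, pow_two]; group, ← e',
        show g⁻¹ * (g * p * g⁻¹) * g = p by group])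
      fun h => hn ⟨_, h, show g * (g⁻¹ * s * g) * g⁻¹ = s by group⟩
    refine ⟨g * q * g⁻¹, ⟨q, hq, rfl⟩, hmem.2 ?_, fun h => h2 ?_⟩
    · rwa [show g⁻¹ * (g * C.t * g⁻¹ * (g * q * g⁻¹) * (g * C.t * g⁻¹)⁻¹ * (g * q * g⁻¹)) * g =
        C.t * q * C.t⁻¹ * q by group]
    · have := hmem.1 h
      rwa [show g⁻¹ * ⁅s, g * q * g⁻¹⁆ * g = ⁅g⁻¹ * s * g, q⁆ by simp only [commutatorElement_def]; group] at this

theorem conj_z (g : G) : (C.conj g).z = g * C.z * g⁻¹ := rfl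

end Conf

end Cfsg.Agent.O8Three
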