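import Cfsg.Agent.Lib.O8Three.Cores
import Cfsg.Agent.Lib.O8Three.Cube.Data

/-!
S3372: the centraliser of the involution satisfies the hypotheses of the analysis of the whole centraliser.
-/

set_option autoImplicit false
set_option linter.style.haveILetI false
set_option linter.unusedSectionVars false
set_option maxRecDepth 20000
set_option synthInstance.maxSize 5000

namespace Cfsg.Agent.O8Three

open Subgroup
open Cfsg.Agent.HeisSLThree (pw pw_add pw_zero pw_one)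

/-- The words moving `b3` to the vectors of weight two. -/
def twoWords : List (List (Fin 4)) :=
  ([[], [1], [1, 1]] : List (List (Fin 4))).flatMap fun k =>
    ([[], flipW 0, flipW 1, flipW 2, flipW 0 ++ flipW 1, flipW 0 ++ flipW 2, flipW 1 ++ flipW 2,
      flipW 0 ++ flipW 1 ++ flipW 2] : List (List (Fin 4))).map fun f => f ++ k

theorem twoWords_all : ∀ i j : Fin 3, i ≠ j → ∀ s : Bool, ∃ l ∈ twoWords,
    mulM MT (evW l) = mulM (evW l) MT ∧ app (evW l) b3 = evv i + smulV (sg s) (evv j) := by decide +kernel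

theorem moveWords_all : ∀ i : Fin 3, ∃ l ∈ ([[], [1], [1, 1]] : List (List (Fin 4))),
    mulM MT (evW l) = mulM (evW l) MT ∧ app (evW l) (evv 0) = evv i := by decide +kernel

theorem evv_indep : ∀ a b c : Fin 3,
    smulV (a.val : ZMod 3) (evv 0) + smulV (b.val : ZMod 3) (evv 1) + smulV (c.val : ZMod 3) (evv 2) = 0 →
      a = 0 ∧ b = 0 ∧ c = 0 := by decide +kernel

theorem sg_pw : ∀ s : Bool, (Cube.pw s : ZMod 3) = sg s ∧ ∀ v : V4, smulV (sg s) (smulV (sg s) v) = v := by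
  decide +kernel

theorem act_vecs : evv 1 = evv 0 + (2, 0, 2, 0) ∧ evv 2 = evv 0 + (2, 0, 1, 0) ∧ b4 = evv 0 + b1 := by
  decide +kernel

namespace Setting

variable {G : Type*} [Group G] [Finite G] (S : Setting G)

theorem pow_φ (v : V4) (k : ℕ) : S.K.φ v ^ k = S.K.φ (smulV (k : ZMod 3) v) := by
  induction k with
  | zero => rw [pow_zero, Nat.cast_zero, show smulV 0 v = 0 by simp [smulV], S.K.φ_zero]
  | succ k ih =>
    rw [pow_succ, ih, ← S.K.φ_add]
    refine congrArg _ ?_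
    simp only [smulV, Nat.cast_succ]
    ext <;> simp <;> ring

theorem commute_R {r : G} (hr : r ∈ S.R) {v : V4} (h2 : v.2.1 = 0) (h4 : v.2.2.2 = 0) :
    Commute r (S.K.φ v) := by
  have h1 : Commute r S.K.p1 := S.R_comm_U hr (S.F.toPair.toConf.Z_le_U S.p1_mem)
  rw [Coord.φ, h2, h4, pw_zero, pw_zero, mul_one, mul_one]
  exact (h1.pow_right _).mul_right ((S.R_comm_U hr S.p3_mem).pow_right _)

theorem e_mem_cent (i : Fin 3) : S.e i ∈ centralizer ({S.F.t} : Set G) :=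
  mem_centralizer_singleton_iff.2 (S.commute_t_iff.2 (evv_norm i).2).eq.symm

/-- The coordinates in the centraliser of the involution. -/
def eC (i : Fin 3) : ↥(centralizer ({S.F.t} : Set G)) := ⟨S.e i, S.e_mem_cent i⟩

theorem mem_span {x : ↥(centralizer ({S.F.t} : Set G))} : x ∈ closure (Set.range S.eC) ↔ (x : G) ∈ S.E := by
  have h : (closure (Set.range S.eC)).map (centralizer ({S.F.t} : Set G)).subtype = S.E := by
    rw [MonoidHom.map_closure, E]
    congr 1
    ext y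
    constructor
    · rintro ⟨_, ⟨i, rfl⟩, rfl⟩; exact ⟨i, rfl⟩
    · rintro ⟨i, rfl⟩; exact ⟨_, ⟨i, rfl⟩, rfl⟩
  rw [← h]
  exact ⟨fun h => ⟨x, h, rfl⟩, fun ⟨y, hy, e⟩ => Subtype.ext e ▸ hy⟩

theorem conj_span {n : ↥(centralizer ({S.F.t} : Set G))} (hn : (n : G) ∈ S.N) (i : Fin 3) :
    n * S.eC i * n⁻¹ ∈ closure (Set.range S.eC) :=
  S.mem_span.2 (S.mem_E ((mem_normalizer_iff.1 hn _).1 (S.K.φ_mem _))
    (mem_centralizer_singleton_iff.1 (n * S.eC i * n⁻¹).2).symm)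

/-- An element of the normaliser commuting with the involution moving the first coordinate to a given one. -/
theorem exists_move (i : Fin 3) : ∃ n ∈ S.N, Commute n S.F.t ∧ n * S.e 0 * n⁻¹ = S.e i := by
  obtain ⟨l, -, hl, e⟩ := moveWords_all i
  obtain ⟨n, hn, hnt⟩ := S.lift_word_t hl
  exact ⟨n, S.mem_N_of_acts hn, hnt, by rw [Setting.e, hn, e]; rfl⟩

theorem conj_commute {n c x : G} (h : Commute c (n * x * n⁻¹)) : Commute (n⁻¹ * c * n) x := by
  have h2 := h.map (MulAut.conj n⁻¹)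
  simpa [mul_assoc] using h2

/-- **The data for the analysis of the centraliser of the involution.** -/
theorem exists_data (hone : S.OneNorm) (htwo : S.TwoCore) :
    ∃ D : Cube.Data ↥(centralizer ({S.F.t} : Set G)), (D.z : G) = S.F.t ∧ ∀ i, (D.e i : G) = S.e i := by
  classical
  set C := centralizer ({S.F.t} : Set G) with hC
  have htC : S.F.t ∈ C := mem_centralizer_singleton_iff.2 rfl
  have hct : ∀ c : C, Commute (c : G) S.F.t := fun c => mem_centralizer_singleton_iff.1 c.2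
  have hcyc : ∀ l : List (Fin 4), mulM MT (evW l) = mulM (evW l) MT →
      ∃ n : C, (n : G) ∈ S.N ∧ ∀ v, (n : G) * S.K.φ v * (n : G)⁻¹ = S.K.φ (app (evW l) v) := by
    intro l hl
    obtain ⟨n, hn, hnt⟩ := S.lift_word_t hl
    exact ⟨⟨n, mem_centralizer_singleton_iff.2 hnt.eq⟩, S.mem_N_of_acts hn, hn⟩
  refine ⟨{
    z := ⟨S.F.t, htC⟩
    e := S.eC
    zz := Subtype.ext S.t_sq
    z_ne := fun h => S.t_not_one (congrArg Subtype.val h)
    central := fun h => Subtype.ext (hct h).eq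
    cube := fun i => Subtype.ext (S.K.exp _ (S.K.φ_mem _))
    comm := fun i j => Subtype.ext (S.K.comm _ (S.K.φ_mem _) _ (S.K.φ_mem _)).eq
    indep := ?_
    flip := ?_
    cycle := ?_
    mono := ?_
    cent_span := ?_
    one_norm := ?_
    two_core := ?_
    three_core := ?_
    outside := ?_ }, rfl, fun _ => rfl⟩
  · intro a b c ha hb hc h
    have h2 : S.K.φ (smulV (a : ZMod 3) (evv 0) + smulV (b : ZMod 3) (evv 1) + smulV (c : ZMod 3) (evv 2)) = 1 := by
      rw [S.K.φ_add, S.K.φ_add, ← S.pow_φ, ← S.pow_φ, ← S.pow_φ]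
      exact congrArg Subtype.val h
    obtain ⟨h0, h1, h3⟩ := evv_indep ⟨a, ha⟩ ⟨b, hb⟩ ⟨c, hc⟩ (S.K.φ_eq_one.1 h2)
    exact ⟨congrArg Fin.val h0, congrArg Fin.val h1, congrArg Fin.val h3⟩
  · intro i
    obtain ⟨hl, hv⟩ := flipW_spec i
    obtain ⟨n, -, hn⟩ := hcyc _ hl
    refine ⟨n, Subtype.ext ?_, fun j hj => Subtype.ext ?_⟩
    · show (n : G) * S.K.φ (evv i) * (n : G)⁻¹ = (S.K.φ (evv i))⁻¹
      rw [hn, hv, if_pos rfl, S.φ_neg]
    · show (n : G) * S.K.φ (evv j) * (n : G)⁻¹ = S.K.φ (evv j)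
      rw [hn, hv, if_neg hj]
  · obtain ⟨hl, hv⟩ := cycle_spec
    obtain ⟨n, -, hn⟩ := hcyc _ hl
    exact ⟨n, fun i => Subtype.ext (by
      show (n : G) * S.K.φ (evv i) * (n : G)⁻¹ = S.K.φ (evv (i + 1))
      rw [hn, hv])⟩
  · intro n hn
    obtain ⟨σ, hσ⟩ := S.mono (hct n) fun i => S.mem_span.1 (hn i)
    exact ⟨σ, fun i => (hσ i).imp (fun e => Subtype.ext e) fun e => Subtype.ext e⟩
  · intro c hc
    rcases S.cent_E (g := (c : G)) (fun i => congrArg Subtype.val (hc i)) (hct c) with h | h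
    · exact Or.inl (S.mem_span.2 h)
    · exact Or.inr (S.mem_span.2 h)
  · intro i j c hc
    obtain ⟨n, hn, hnt, e⟩ := S.exists_move i
    have hci : Commute (c : G) (S.e i) := congrArg Subtype.val (mem_centralizer_singleton_iff.1 hc)
    have hg := hone (n⁻¹ * c * n) ((hnt.inv_left.mul_left (hct c)).mul_left hnt)
      (conj_commute (by rwa [e]))
    refine S.conj_span ?_ j
    have := mul_mem (mul_mem hn hg) (inv_mem hn)
    rwa [show n * (n⁻¹ * (c : G) * n) * n⁻¹ = c by group] at this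
  · intro i j hij s
    obtain ⟨R, hR32, htR, hRle, hRn, hRd⟩ := htwo
    obtain ⟨l, -, hl, hv⟩ := twoWords_all i j hij s
    obtain ⟨n, hnN, hn⟩ := hcyc _ hl
    have htarget : ((S.eC i * S.eC j ^ Cube.pw s : C) : G) = (n : G) * S.K.p3 * (n : G)⁻¹ := by
      rw [← S.K.φ_b3, hn, hv, S.K.φ_add, ← (sg_pw s).1, ← S.pow_φ]
      rfl
    have hback : ∀ c : C, c ∈ centralizer ({S.eC i * S.eC j ^ Cube.pw s} : Set C) →
        Commute ((n : G)⁻¹ * c * n) S.K.p3 := fun c hc => conj_commute (by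
      rw [← htarget]
      exact congrArg Subtype.val (mem_centralizer_singleton_iff.1 hc))
    have hnt := hct n
    have hmap : R.map (MulAut.conj (n : G)).toMonoidHom ≤ C := by
      rintro _ ⟨r, hr, rfl⟩
      exact mem_centralizer_singleton_iff.2 ((hnt.mul_left (hRle r hr).1).mul_left hnt.inv_left).eq
    refine ⟨(R.map (MulAut.conj (n : G)).toMonoidHom).subgroupOf C, ?_, ?_, ?_, ?_, ?_⟩
    · rw [Nat.card_congr (subgroupOfEquivOfLe hmap).toEquiv, card_map_of_injective (MulAut.conj (n : G)).injective,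
        hR32]
    · exact ⟨S.F.t, htR, by
        show (n : G) * S.F.t * (n : G)⁻¹ = S.F.t
        rw [hnt.eq, mul_inv_cancel_right]⟩
    · rintro x ⟨r, hr, e⟩
      refine mem_centralizer_singleton_iff.2 (Subtype.ext ?_)
      have h2 := (hRle r hr).2.map (MulAut.conj (n : G))
      simp only [MulAut.conj_apply] at h2
      rw [← htarget] at h2
      rw [show (n : G) * r * (n : G)⁻¹ = x from e] at h2
      exact h2.eq
    · rintro c hc x ⟨r, hr, e⟩
      refine ⟨((n : G)⁻¹ * c * n) * r * ((n : G)⁻¹ * c * n)⁻¹,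
        hRn _ ((hnt.inv_left.mul_left (hct c)).mul_left hnt) (hback c hc) r hr, ?_⟩
      show (n : G) * (((n : G)⁻¹ * c * n) * r * ((n : G)⁻¹ * c * n)⁻¹) * (n : G)⁻¹ = (c : G) * x * (c : G)⁻¹
      rw [← show (n : G) * r * (n : G)⁻¹ = x from e]
      group
    · intro c hc
      obtain ⟨r, hr, hrN⟩ := hRd _ ((hnt.inv_left.mul_left (hct c)).mul_left hnt) (hback c hc)
      refine ⟨⟨(n : G) * r * (n : G)⁻¹, hmap ⟨r, hr, rfl⟩⟩, ⟨r, hr, rfl⟩, fun k => S.conj_span ?_ k⟩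
      show ((n : G) * r * (n : G)⁻¹)⁻¹ * c ∈ S.N
      have := mul_mem (mul_mem hnN hrN) (inv_mem hnN)
      rwa [show (n : G) * (r⁻¹ * ((n : G)⁻¹ * c * n)) * (n : G)⁻¹ = ((n : G) * r * (n : G)⁻¹)⁻¹ * c by group] at this
  · intro s t
    obtain ⟨hl, h0, h1, h2, hb⟩ := signW_spec s t
    obtain ⟨n, hnN, hn⟩ := hcyc _ hl
    have hnt := hct n
    have htarget : ((S.eC 0 * S.eC 1 ^ Cube.pw s * S.eC 2 ^ Cube.pw t : C) : G) = (n : G) * S.K.p1 * (n : G)⁻¹ := by
      rw [← S.K.φ_b1, hn, hb, S.K.φ_add, S.K.φ_add, ← (sg_pw s).1, ← (sg_pw t).1, ← S.pow_φ, ← S.pow_φ]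
      rfl
    have hback : ∀ c : C, c ∈ centralizer ({S.eC 0 * S.eC 1 ^ Cube.pw s * S.eC 2 ^ Cube.pw t} : Set C) →
        (n : G)⁻¹ * c * n ∈ S.F.toPair.toConf.Cz := fun c hc => S.mem_Cz.2 (conj_commute (by
      rw [← htarget]
      exact congrArg Subtype.val (mem_centralizer_singleton_iff.1 hc)))
    have hmap : S.R.map (MulAut.conj (n : G)).toMonoidHom ≤ C := by
      rintro _ ⟨r, hr, rfl⟩
      exact mem_centralizer_singleton_iff.2 ((hnt.mul_left (S.R_comm_t hr)).mul_left hnt.inv_left).eq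
    have he0 : (n : G) * S.e 0 * (n : G)⁻¹ = S.e 0 := by rw [Setting.e, hn, h0]
    -- the two other coordinates act as powers of the first
    have hact : ∀ (k : Fin 3) (u : Bool) (d : V4), d.2.1 = 0 → d.2.2.2 = 0 → evv k = evv 0 + d →
        app (evW (signW s t)) (evv k) = smulV (sg u) (evv k) →
        ∀ r ∈ S.R, S.e k * ((n : G) * r * (n : G)⁻¹) * (S.e k)⁻¹ =
          S.e 0 ^ Cube.pw u * ((n : G) * r * (n : G)⁻¹) * (S.e 0 ^ Cube.pw u)⁻¹ := by
      intro k u d hd2 hd4 hk hku r hr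
      have hek : S.e k = S.e 0 * S.K.φ d := by rw [Setting.e, Setting.e, ← S.K.φ_add, ← hk]
      have hed : Commute (S.e 0) (S.K.φ d) := S.K.comm _ (S.K.φ_mem _) _ (S.K.φ_mem _)
      have hrd : Commute (S.K.φ d ^ Cube.pw u) r := (S.commute_R hr hd2 hd4).symm.pow_left _
      have hkey : S.e k ^ Cube.pw u * r * (S.e k ^ Cube.pw u)⁻¹ =
          S.e 0 ^ Cube.pw u * r * (S.e 0 ^ Cube.pw u)⁻¹ := by
        rw [hek, hed.mul_pow, show S.e 0 ^ Cube.pw u * S.K.φ d ^ Cube.pw u * r *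
          (S.e 0 ^ Cube.pw u * S.K.φ d ^ Cube.pw u)⁻¹ = S.e 0 ^ Cube.pw u *
            (S.K.φ d ^ Cube.pw u * r * (S.K.φ d ^ Cube.pw u)⁻¹) * (S.e 0 ^ Cube.pw u)⁻¹ by group,
          hrd.eq, mul_inv_cancel_right]
      have hnk : (n : G) * S.e k ^ Cube.pw u * (n : G)⁻¹ = S.e k := by
        rw [← conj_pow, Setting.e, hn, hku, S.pow_φ, (sg_pw u).1, (sg_pw u).2]
      have hn0 : (n : G) * S.e 0 ^ Cube.pw u * (n : G)⁻¹ = S.e 0 ^ Cube.pw u := by rw [← conj_pow, he0]
      calc S.e k * ((n : G) * r * (n : G)⁻¹) * (S.e k)⁻¹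
          = (n : G) * (S.e k ^ Cube.pw u * r * (S.e k ^ Cube.pw u)⁻¹) * (n : G)⁻¹ := by
            conv_lhs => rw [← hnk]
            group
        _ = (n : G) * (S.e 0 ^ Cube.pw u * r * (S.e 0 ^ Cube.pw u)⁻¹) * (n : G)⁻¹ := by rw [hkey]
        _ = _ := by
            conv_rhs => rw [← hn0]
            group
    refine ⟨(S.R.map (MulAut.conj (n : G)).toMonoidHom).subgroupOf C, ?_, ?_, ?_, ?_, ?_, ?_, ?_, ?_, ?_⟩
    · rw [Nat.card_congr (subgroupOfEquivOfLe hmap).toEquiv, card_map_of_injective (MulAut.conj (n : G)).injective,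
        S.card_R]
    · exact ⟨S.F.t, S.t_mem_R, by
        show (n : G) * S.F.t * (n : G)⁻¹ = S.F.t
        rw [hnt.eq, mul_inv_cancel_right]⟩
    · rintro x ⟨r, hr, e⟩
      refine mem_centralizer_singleton_iff.2 (Subtype.ext ?_)
      have h2 := (S.mem_Cz.1 (S.R_le hr)).map (MulAut.conj (n : G))
      simp only [MulAut.conj_apply] at h2
      rw [← htarget] at h2
      rw [show (n : G) * r * (n : G)⁻¹ = x from e] at h2
      exact h2.eq
    · rintro c hc x ⟨r, hr, e⟩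
      refine ⟨((n : G)⁻¹ * c * n) * r * ((n : G)⁻¹ * c * n)⁻¹,
        S.R_norm (hback c hc) ((hnt.inv_left.mul_left (hct c)).mul_left hnt) hr, ?_⟩
      show (n : G) * (((n : G)⁻¹ * c * n) * r * ((n : G)⁻¹ * c * n)⁻¹) * (n : G)⁻¹ = (c : G) * x * (c : G)⁻¹
      rw [← show (n : G) * r * (n : G)⁻¹ = x from e]
      group
    · intro c hc
      obtain ⟨r, hr, hrN⟩ := S.decomp (hback c hc)
      refine ⟨⟨(n : G) * r * (n : G)⁻¹, hmap ⟨r, hr, rfl⟩⟩, ⟨r, hr, rfl⟩, fun k => S.conj_span ?_ k⟩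
      show ((n : G) * r * (n : G)⁻¹)⁻¹ * c ∈ S.N
      have := mul_mem (mul_mem hnN hrN) (inv_mem hnN)
      rwa [show (n : G) * (r⁻¹ * ((n : G)⁻¹ * c * n)) * (n : G)⁻¹ = ((n : G) * r * (n : G)⁻¹)⁻¹ * c by group] at this
    · rintro x ⟨r, hr, e⟩ hx
      have e' : (n : G) * r * (n : G)⁻¹ = x := e
      have hc : Commute ((n : G) * r * (n : G)⁻¹) ((n : G) * S.e 0 * (n : G)⁻¹) := by
        rw [he0, e']
        exact (congrArg Subtype.val hx).symm
      have hr0 : Commute r (S.e 0) := by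
        have h3 := hc.map (MulAut.conj (n : G)⁻¹)
        simpa [mul_assoc] using h3
      have hp4 : Commute r S.K.p4 := by
        rw [← S.K.φ_b4, act_vecs.2.2, S.K.φ_add]
        exact hr0.mul_right (S.commute_R hr rfl rfl)
      rcases S.R_fix hr hp4 with h | h <;> rw [h] at e'
      · exact Or.inl (Subtype.ext (by rw [← e']; simp))
      · exact Or.inr (Subtype.ext (by rw [← e', hnt.eq, mul_inv_cancel_right]))
    · rintro x ⟨r, hr, e⟩
      refine Subtype.ext ?_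
      have e' : (n : G) * r * (n : G)⁻¹ = x := e
      simp only [Subgroup.coe_mul, InvMemClass.coe_inv, SubmonoidClass.coe_pow]
      rw [← e']
      exact hact 1 s _ rfl rfl act_vecs.1 h1 r hr
    · rintro x ⟨r, hr, e⟩
      refine Subtype.ext ?_
      have e' : (n : G) * r * (n : G)⁻¹ = x := e
      simp only [Subgroup.coe_mul, InvMemClass.coe_inv, SubmonoidClass.coe_pow]
      rw [← e']
      exact hact 2 t _ rfl rfl act_vecs.2.1 h2 r hr
    · obtain ⟨a, ha, b, hb, hab⟩ := S.R_nonab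
      refine ⟨⟨(n : G) * a * (n : G)⁻¹, hmap ⟨a, ha, rfl⟩⟩, ⟨a, ha, rfl⟩,
        ⟨(n : G) * b * (n : G)⁻¹, hmap ⟨b, hb, rfl⟩⟩, ⟨b, hb, rfl⟩, fun h => hab ?_⟩
      have h3 : MulAut.conj (n : G) (a * b) = MulAut.conj (n : G) (b * a) := by
        rw [map_mul, map_mul]
        exact congrArg Subtype.val h
      exact (MulAut.conj (n : G)).injective h3
  · intro a ha ha1 h hN
    by_contra hE
    have h3 : ((h * a * h⁻¹ : C) : G) ^ 3 = 1 := by
      show ((h : G) * (a : G) * (h : G)⁻¹) ^ 3 = 1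
      rw [conj_pow, S.K.exp _ (S.E_le (S.mem_span.1 ha))]; simp
    exact S.outside (hct (h * a * h⁻¹)) (fun i => S.mem_span.1 (hN i)) h3
      (fun hm => hE (S.mem_span.2 hm)) (S.E_le (S.mem_span.1 ha)) (h : G) rfl

end Setting

end Cfsg.Agent.O8Three
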