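import Cfsg.Agent.Lib.O8Three.NineFacts

/-!
S3372: if the centraliser of some translation is not contained in the normaliser of the translations, the group is
`Sym(9)`, and an involution inverting the third translation has two cores in its centraliser whose product has
order divisible by three.
-/

set_option autoImplicit false
set_option maxRecDepth 20000
set_option linter.style.haveILetI false

namespace Cfsg.Agent.O8Three.Nine

open Cfsg.Agent.ThreeTI.Cube (V)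
open Cfsg.Agent.S9Three
open Equiv

universe u

/-- A core in the common centraliser of `θ a` and `n`. -/
structure Core {Y : Type u} [Group Y] (θ : V →* Y) (n : Y) (a b : V) (P : Subgroup Y) : Prop where
  card : Nat.card P = 8
  n_mem : n ∈ P
  two : ∀ p ∈ P, p * p = 1
  le : P ≤ Subgroup.centralizer ({θ a} : Set Y) ⊓ Subgroup.centralizer ({n} : Set Y)
  norm : ∀ c ∈ Subgroup.centralizer ({θ a} : Set Y) ⊓ Subgroup.centralizer ({n} : Set Y),
    ∀ p ∈ P, c * p * c⁻¹ ∈ P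
  dec : ∀ c ∈ Subgroup.centralizer ({θ a} : Set Y) ⊓ Subgroup.centralizer ({n} : Set Y),
    ∃ p ∈ P, p⁻¹ * c ∈ NJ θ
  fix : ∀ p ∈ P, θ b * p = p * θ b → p = 1 ∨ p = n

theorem exists_elt (i : Fin 2) (f : Fin 3) {g : Perm (Fin 9)} (hc : g * tr (va i) = tr (va i) * g)
    (hs : g * tf f = tf f * g) : ∃ j e k l, g = elt i f j e k l := by
  obtain ⟨hb0, hb1, hr, hinj⟩ := point_facts i f
  have pc : ∀ x, g (tr (va i) x) = tr (va i) (g x) := fun x => congrFun (congrArg DFunLike.coe hc) x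
  have ps : ∀ x, g (tf f x) = tf f (g x) := fun x => congrFun (congrArg DFunLike.coe hs) x
  have m0 : tr (va i) (g (bp i f 0)) ≠ g (bp i f 0) := fun e => hb0 (g.injective ((pc _).trans e))
  have m1 : tf f (g (bp i f 1)) ≠ g (bp i f 1) := fun e => hb1 (g.injective ((ps _).trans e))
  have mr : ∀ n, ∃ k, g (rp i f n) = rp i f k := fun n =>
    (moved i f _).2.2 (by rw [← pc, (hr n).1]) (by rw [← ps, (hr n).2])
  choose π hπ using mr
  have hne : ∀ {m n : Fin 4}, m ≠ n → π m ≠ π n := fun {m n} h e =>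
    h (hinj (g.injective ((hπ m).trans ((congrArg _ e).trans (hπ n).symm))))
  obtain ⟨j, hj⟩ := (moved i f _).1 m0
  obtain ⟨e, he⟩ := (moved i f _).2.1 m1
  obtain ⟨k, l, h0, h1, h2, h3⟩ := sym_four i f (π 0) (π 1) (π 2) (π 3) (hne (by decide)) (hne (by decide))
    (hne (by decide)) (hne (by decide)) (hne (by decide)) (hne (by decide))
  obtain ⟨ec, es⟩ := elt_comm i f j e k l
  obtain ⟨v0, v1', v2'⟩ := elt_val i f j e k l
  set E := elt i f j e k l
  have pc' : ∀ x, E (tr (va i) x) = tr (va i) (E x) := fun x => congrFun (congrArg DFunLike.coe ec) x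
  have ps' : ∀ x, E (tf f x) = tf f (E x) := fun x => congrFun (congrArg DFunLike.coe es) x
  have a0 : g (bp i f 0) = E (bp i f 0) := by rw [v0, hj]
  have a1 : g (bp i f 1) = E (bp i f 1) := by rw [v1', he]
  have ar : ∀ n, g (rp i f n) = E (rp i f n) := by
    intro n
    rw [v2', hπ]
    fin_cases n
    exacts [h0.symm, h1.symm, h2.symm, h3.symm]
  refine ⟨j, e, k, l, Equiv.ext fun x => ?_⟩
  rcases points i f x with rfl | rfl | rfl | rfl | rfl | ⟨n, rfl⟩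
  · exact a0
  · rw [pc, pc', a0]
  · rw [pc, pc, pc', pc', a0]
  · exact a1
  · rw [ps, ps', a1]
  · exact ar n

/-- The core as a subgroup of `Sym(9)`. -/
def core (i : Fin 2) (f : Fin 3) : Subgroup (Perm (Fin 9)) where
  carrier := Set.range (pel i f)
  mul_mem' := by
    rintro _ _ ⟨x, rfl⟩ ⟨y, rfl⟩
    exact (pel_mul i f x y).imp fun _ h => h.symm
  one_mem' := ⟨(0, 0), (pel_one i f).1⟩
  inv_mem' := by
    rintro _ ⟨x, rfl⟩
    exact ⟨x, (inv_eq_of_mul_eq_one_right (pel_sq i f x)).symm⟩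

theorem mem_core {i : Fin 2} {f : Fin 3} {p : Perm (Fin 9)} : p ∈ core i f ↔ ∃ x, pel i f x = p := Iff.rfl

theorem card_core (i : Fin 2) (f : Fin 3) : Nat.card (core i f) = 8 := by
  show Nat.card (Set.range (pel i f)) = 8
  rw [Nat.card_range_of_injective fun x y h => pel_inj i f x y h, Nat.card_eq_fintype_card]
  rfl

variable {Y : Type u} [Group Y] [Finite Y] {θ : V →* Y}

theorem core_map (φ : Perm (Fin 9) ≃* Y) (hφ : ∀ v, φ (tr v) = θ v) (i : Fin 2) (f : Fin 3) :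
    Core θ (φ (tf f)) (va i) (vb i) ((core i f).map φ.toMonoidHom) := by
  have hcent : ∀ {g : Perm (Fin 9)},
      φ g ∈ Subgroup.centralizer ({θ (va i)} : Set Y) ⊓ Subgroup.centralizer ({φ (tf f)} : Set Y) ↔
        g * tr (va i) = tr (va i) * g ∧ g * tf f = tf f * g := by
    intro g
    rw [Subgroup.mem_inf, Subgroup.mem_centralizer_singleton_iff, Subgroup.mem_centralizer_singleton_iff, ← hφ,
      ← map_mul, ← map_mul, ← map_mul, ← map_mul, φ.injective.eq_iff, φ.injective.eq_iff]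
  refine ⟨?_, ⟨_, ⟨(1, 0), (pel_one i f).2⟩, rfl⟩, ?_, ?_, ?_, ?_, ?_⟩
  · rw [Subgroup.card_map_of_injective (show Function.Injective φ.toMonoidHom from φ.injective), card_core]
  · rintro _ ⟨_, ⟨x, rfl⟩, rfl⟩
    show φ _ * φ _ = 1
    rw [← map_mul, pel_sq, map_one]
  · rintro _ ⟨_, ⟨x, rfl⟩, rfl⟩
    exact hcent.2 (pel_comm i f x)
  · intro c hc p hp
    obtain ⟨g, rfl⟩ := φ.surjective c
    obtain ⟨_, ⟨x, rfl⟩, rfl⟩ := hp
    obtain ⟨h1, h2⟩ := hcent.1 hc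
    obtain ⟨j, e, k, l, rfl⟩ := exists_elt i f h1 h2
    obtain ⟨y, hy⟩ := pel_norm i f k l x
    refine ⟨_, ⟨y, rfl⟩, ?_⟩
    show φ (pel i f y) = φ (elt i f j e k l) * φ (pel i f x) * (φ (elt i f j e k l))⁻¹
    rw [← map_inv, ← map_mul, ← map_mul]
    congr 1
    obtain ⟨c1, c2⟩ := pel_comm i f y
    have hcy : Commute (tr (va i) ^ j.val * tf f ^ e.val) (pel i f y) :=
      ((show Commute (tr (va i)) (pel i f y) from c1.symm).pow_left _).mul_left
        ((show Commute (tf f) (pel i f y) from c2.symm).pow_left _)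
    rw [elt, show tr (va i) ^ j.val * tf f ^ e.val * dbl i f k * st i f l * pel i f x =
      tr (va i) ^ j.val * tf f ^ e.val * (dbl i f k * st i f l * pel i f x) by group, hy, ← mul_assoc, hcy.eq]
    group
  · intro c hc
    obtain ⟨g, rfl⟩ := φ.surjective c
    obtain ⟨h1, h2⟩ := hcent.1 hc
    obtain ⟨j, e, k, l, rfl⟩ := exists_elt i f h1 h2
    refine ⟨φ (pel i f (e, k)), ⟨_, ⟨(e, k), rfl⟩, rfl⟩, ?_⟩
    rw [elt_dec, map_mul, inv_mul_cancel_left, map_mul, map_pow, hφ]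
    refine mul_mem (pow_mem (Subgroup.le_normalizer (show θ (va i) ∈ θ.range from ⟨_, rfl⟩)) _) (Subgroup.mem_normalizer_iff.2 fun z => ⟨?_, ?_⟩)
    · rintro ⟨v, rfl⟩
      obtain ⟨w, hw⟩ := (st_norm i f l v).1
      exact ⟨w, by rw [← hφ, ← hφ, ← hw, map_mul, map_mul, map_inv]⟩
    · rintro ⟨v, hv⟩
      obtain ⟨w, hw⟩ := (st_norm i f l v).2
      refine ⟨w, ?_⟩
      rw [← hφ, ← hw, map_mul, map_mul, map_inv, hφ, hv]
      group
  · rintro _ ⟨_, ⟨x, rfl⟩, rfl⟩ h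
    change θ (vb i) * φ _ = φ _ * θ (vb i) at h
    rw [← hφ, ← map_mul, ← map_mul, φ.injective.eq_iff] at h
    rcases pel_fix i f x h with e | e
    · exact Or.inl (by rw [e, map_one])
    · exact Or.inr (congrArg φ e)

theorem three_dvd_order {G : Type*} [Group G] {g : G} (h6 : g ^ 6 = 1) (h2 : g ^ 2 ≠ 1) : 3 ∣ orderOf g := by
  have hd : orderOf g ∣ 6 := orderOf_dvd_of_pow_eq_one h6
  have hn : ¬ orderOf g ∣ 2 := fun h => h2 (orderOf_dvd_iff_pow_eq_one.1 h)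
  have := Nat.le_of_dvd (by norm_num) hd
  interval_cases orderOf g <;> omega

/-- **The two cores.** -/
theorem exists_cores (hL : S9Three.Loc θ) (hbig : ∃ u, u ≠ 1 ∧ ¬ cg θ ![u] ≤ NJ θ)
    {n : Y} (hn : Acts θ n eps) (hn2 : n * n = 1) :
    ∃ P Q : Subgroup Y, Core θ n v1 v2 P ∧ Core θ n v2 v1 Q ∧ ∃ p ∈ P, ∃ q ∈ Q, 3 ∣ orderOf (p * q) := by
  obtain ⟨k, hk⟩ := hL.exists_kind
  obtain ⟨u, hu, hbig⟩ := hbig
  obtain ⟨rfl, w, rfl⟩ := (hL.cg_single hk hu).resolve_left hbig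
  have hall : ∀ w, Lift θ w := fun w => (hk w).2 (inQ_three w)
  obtain ⟨ι, hinj, hV, hW, hrange⟩ := hL.exists_model hall
  have hbig3 : ¬ cg θ ![v3] ≤ NJ θ := by
    intro h
    refine hbig fun g hg => ?_
    have hg' := mem_cg_one.1 hg
    rw [← hW w v3] at hg'
    have h1 := conj_comm (g := (ι (inW w))⁻¹) hg'
    rw [show (ι (inW w))⁻¹ * (ι (inW w) * θ v3 * (ι (inW w))⁻¹) * (ι (inW w))⁻¹⁻¹ = θ v3 by group,
      inv_inv] at h1
    have hN : ι (inW w) ∈ NJ θ := hrange ▸ ⟨_, rfl⟩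
    rw [show g = ι (inW w) * ((ι (inW w))⁻¹ * g * ι (inW w)) * (ι (inW w))⁻¹ by group]
    exact mul_mem (mul_mem hN (h (mem_cg_one.2 h1))) (inv_mem hN)
  have B : Base θ ι := ⟨hL, hinj, hV, hW, hrange, hbig3⟩
  obtain ⟨Ψ, hΨ⟩ := B.exists_psi
  obtain ⟨φ, hφ⟩ := B.exists_sym9 hΨ
  let Φ : Perm (Fin 9) ≃* Y := MulEquiv.ofBijective φ ⟨hφ.inj, hφ.surjective B hΨ⟩
  have hΦ : ∀ v, Φ (tr v) = θ v := fun v => Sym9.phi_tr B hφ v
  obtain ⟨⟨v, wm⟩, rfl⟩ : n ∈ ι.range := hrange ▸ Loc.acts_mem hn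
  obtain rfl : wm = eps := hL.acts_unique (B.acts ⟨v, wm⟩) hn
  obtain ⟨f, hf⟩ := eps_lifts v (hinj (by rw [map_mul, hn2, map_one]))
  have hn' : ι ⟨v, eps⟩ = Φ (tf f) := by rw [← hf]; exact (hφ.mon _).symm
  rw [hn']
  obtain ⟨x, y, h6, h2, -⟩ := far f
  refine ⟨_, _, core_map Φ hΦ 0 f, core_map Φ hΦ 1 f, _, ⟨_, ⟨x, rfl⟩, rfl⟩, _, ⟨_, ⟨y, rfl⟩, rfl⟩, ?_⟩
  show 3 ∣ orderOf (Φ _ * Φ _)
  rw [← map_mul, MulEquiv.orderOf_eq]
  exact three_dvd_order h6 h2

end Cfsg.Agent.O8Three.Nine
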