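import Cfsg.Agent.Lib.O8Three.Pairs
import Cfsg.Agent.Lib.O8Three.Nine
import Cfsg.Agent.Lib.S9Three.CountMain
import Cfsg.Agent.Lib.Solvable.Coprime

/-!
S3372, quotient `SL(2,3) × 2`: the centraliser of a coordinate modulo that coordinate satisfies the hypotheses of
the recognition of `Sym(9)`. So either it normalises the torus, or there are two cores with a product of order
divisible by three.
-/

set_option autoImplicit false
set_option linter.style.haveILetI false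
set_option linter.unusedSectionVars false
set_option linter.unusedSimpArgs false
set_option maxRecDepth 20000
set_option synthInstance.maxSize 5000

namespace Cfsg.Agent.O8Three

open Subgroup
open Cfsg.Agent.HeisSLThree (pw pw_add pw_zero pw_one)
open Cfsg.Agent.ThreeTI.Cube (V)
open Cfsg.Agent.S9Three (act vx v1 v2 v3 cyc tau eps basis_spec act_mul)

/-- The coordinates of the last two orthonormal vectors and `w`. -/
def coV (v : V) : V4 :=
  smulV v.toAdd.1 (evv 1) + smulV v.toAdd.2.1 (evv 2) + smulV v.toAdd.2.2 b2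

theorem V_cube : ∀ v : V, v ^ 3 = 1 := by decide +kernel

theorem coV_mul : ∀ u v : V, coV (u * v) = coV u + coV v := by decide +kernel

theorem coV_facts : coV v1 = evv 1 ∧ coV v2 = evv 2 ∧ coV v3 = b2 ∧ coV vx = evv 1 + evv 2 + b2 ∧ coV 1 = 0 := by
  decide +kernel

theorem coV_mod : ∀ v : V, ∀ a : ZMod 3, coV v = smulV a (evv 0) → v = 1 := by decide +kernel

theorem coV_diff : ∀ u v : V, ∀ a : ZMod 3, coV u = coV v + smulV a (evv 0) → u = v ∧ a = 0 := by decide +kernel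

theorem decomp4 : ∀ x : V4, ∃ v : V, ∃ a : ZMod 3, x = coV v + smulV a (evv 0) := by decide +kernel

theorem mono_w : ∀ x : V4, qf x = 1 → bf x (evv 0) = 0 → ∀ y : V4, qf y = 1 → bf y (evv 0) = 0 → bf x y = 0 →
    ∀ z : V4, qf z = 1 → bf z (evv 0) = 0 → bf x z = 0 → bf y z = 0 →
      ∃ w : S9Three.W, coV (act w v1) = x ∧ coV (act w v2) = y ∧ coV (act w v3) = z := by decide +kernel

theorem vx_norm : ∀ a : ZMod 3, qf (coV vx + smulV a (evv 0)) = qf (coV vx) → a = 0 := by decide +kernel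

theorem cyc_word : (∀ v : V, coV (act cyc v) = app (evW [2, 3, 2, 1, 3]) (coV v)) ∨
    (∀ v : V, coV (act (cyc * cyc) v) = app (evW [2, 3, 2, 1, 3]) (coV v)) := by decide +kernel

theorem cyc_fix : app (evW [2, 3, 2, 1, 3]) (evv 0) = evv 0 ∧ cyc * cyc * (cyc * cyc) = cyc := by decide +kernel

theorem tau_map : app MS (evv 0) = evv 0 ∧ ∀ v : V, coV (act tau v) = app MS (coV v) := by decide +kernel

theorem eps_map : app MT (evv 0) = evv 0 ∧ ∀ v : V, coV (act eps v) = app MT (coV v) := by decide +kernel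

theorem good_pairs : ∀ a c : V, a ≠ 1 → c ≠ 1 → c ≠ a → c ≠ a * a → Good3 (evv 0) (coV a) (coV c) := by
  decide +kernel

theorem plane_two : ∀ a : V, a.toAdd.2.2 = 0 → a ≠ 1 → ∀ c : V, c ≠ 1 →
    (if a.toAdd.2.1 = 0 then c.toAdd.1 = 0 else c.toAdd.2.1 = 0) → c ≠ a ∧ c ≠ a * a := by decide +kernel

theorem bf_e0 : bf (evv 1) (evv 0) = 0 ∧ bf (evv 2) (evv 0) = 0 ∧ bf b2 (evv 0) = 0 ∧ bf (evv 1) (evv 2) = 0 ∧
    bf (evv 1) b2 = 0 ∧ bf (evv 2) b2 = 0 ∧ qf b2 = 1 := by decide +kernel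

/-- Two additive maps agreeing on the unit vectors. -/
theorem V_ext {M : Type*} [Monoid M] (F F' : V →* M) (h1 : F v1 = F' v1) (h2 : F v2 = F' v2) (h3 : F v3 = F' v3)
    (v : V) : F v = F' v := by
  rw [basis_spec v]
  simp only [map_mul, map_pow, h1, h2, h3]

/-- The coordinates as a homomorphism. -/
def coHom : V →* Multiplicative V4 := MonoidHom.mk' (fun v => Multiplicative.ofAdd (coV v)) fun u v => by
  rw [coV_mul]; rfl

namespace Setting

variable {G : Type*} [Group G] [Finite G] (S : Setting G)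

/-- The centraliser of the first coordinate. -/
def C0 : Subgroup G := centralizer ({S.e 0} : Set G)

theorem mem_C0 {c : G} : c ∈ S.C0 ↔ Commute c (S.e 0) := mem_centralizer_singleton_iff

theorem A_le_C0 {x : G} (hx : x ∈ S.K.A) : x ∈ S.C0 := S.mem_C0.2 (S.K.comm x hx _ (S.K.φ_mem _))

/-- The first coordinate in its centraliser. -/
abbrev Z0 : Subgroup S.C0 := (zpowers (S.e 0)).subgroupOf S.C0

instance Z0_normal : S.Z0.Normal := ⟨fun z hz g => by
  rw [mem_subgroupOf] at hz ⊢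
  obtain ⟨k, hk⟩ := mem_zpowers_iff.1 hz
  refine mem_zpowers_iff.2 ⟨k, ?_⟩
  rw [Subgroup.coe_mul, Subgroup.coe_mul, Subgroup.coe_inv, ← hk,
    ((S.mem_C0.1 g.2).zpow_right k).eq, mul_inv_cancel_right]⟩

/-- The centraliser modulo the coordinate. -/
abbrev Y0 : Type _ := S.C0 ⧸ S.Z0

/-- The projection. -/
abbrev π0 : S.C0 →* S.Y0 := QuotientGroup.mk' S.Z0

theorem π0_eq_one {c : S.C0} : S.π0 c = 1 ↔ ∃ a : ZMod 3, (c : G) = S.K.φ (smulV a (evv 0)) := by
  refine ((QuotientGroup.eq_one_iff c).trans mem_subgroupOf).trans ⟨fun h => ?_, ?_⟩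
  · obtain ⟨k, hk⟩ := mem_zpowers_iff.1 h
    refine ⟨(k : ZMod 3), ?_⟩
    rw [S.K.φ_smul, ← hk]
    show S.e 0 ^ k = pw (S.e 0) _
    haveI : Fact (Nat.Prime 3) := ⟨Nat.prime_three⟩
    rw [pw, ← zpow_natCast, ZMod.val_intCast]
    exact zpow_eq_zpow_emod k (show S.e 0 ^ ((3 : ℕ) : ℤ) = 1 by rw [zpow_natCast]; exact S.K.exp _ (S.K.φ_mem _))
  · rintro ⟨a, ha⟩
    rw [ha, S.K.φ_smul]
    exact pow_mem (mem_zpowers _) _

/-- The coordinates in the quotient. -/
noncomputable def θ0 : V →* S.Y0 := MonoidHom.mk' (fun v => S.π0 ⟨S.K.φ (coV v), S.A_le_C0 (S.K.φ_mem _)⟩)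
  fun u v => by
    rw [← map_mul]
    congr 1
    exact Subtype.ext (by simp only [coV_mul, S.K.φ_add, Subgroup.coe_mul])

theorem θ0_apply (v : V) : S.θ0 v = S.π0 ⟨S.K.φ (coV v), S.A_le_C0 (S.K.φ_mem _)⟩ := rfl

theorem π0_eq_θ {c : S.C0} {v : V} : S.π0 c = S.θ0 v ↔ ∃ a : ZMod 3, (c : G) = S.K.φ (coV v + smulV a (evv 0)) := by
  rw [S.θ0_apply, ← mul_inv_eq_one, ← map_inv, ← map_mul, S.π0_eq_one]
  refine exists_congr fun a => ?_
  rw [add_comm, S.K.φ_add, Subgroup.coe_mul, Subgroup.coe_inv, mul_inv_eq_iff_eq_mul]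

theorem θ0_inj : Function.Injective S.θ0 := (injective_iff_map_eq_one _).2 fun v hv => by
  obtain ⟨a, ha⟩ := S.π0_eq_one.1 hv
  exact coV_mod v a (S.K.φ_inj ha)

theorem acts_mono {c : S.C0} {M : M4} (hM : S.K.Acts c M) :
    ∃ w : S9Three.W, S9Three.Acts S.θ0 (S.π0 c) w ∧ ∀ v : V, app M (coV v) = coV (act w v) := by
  have h0 : app M (evv 0) = evv 0 := S.K.φ_inj (by
    rw [← hM, mul_inv_eq_iff_eq_mul]; exact (S.mem_C0.1 c.2).eq)
  have hb := S.bf_pres hM
  obtain ⟨p1, p2, p3, p12, p13, p23, pw'⟩ := bf_e0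
  obtain ⟨w, a1, a2, a3⟩ := mono_w (app M (evv 1)) (by rw [S.qf_pres hM]; exact (evv_norm 1).1)
    (by rw [← h0, hb, p1]) (app M (evv 2)) (by rw [S.qf_pres hM]; exact (evv_norm 2).1) (by rw [← h0, hb, p2])
    (by rw [hb, p12]) (app M b2) (by rw [S.qf_pres hM, pw']) (by rw [← h0, hb, p3]) (by rw [hb, p13])
    (by rw [hb, p23])
  obtain ⟨c1, c2, c3, -, -⟩ := coV_facts
  have hlin : ∀ v : V, app M (coV v) = coV (act w v) := fun v => by
    have h := V_ext (MonoidHom.mk' (fun v => Multiplicative.ofAdd (app M (coV v))) fun u v => by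
        rw [coV_mul, app_add]; rfl)
      (coHom.comp (S9Three.actHom w))
      (congrArg Multiplicative.ofAdd (by rw [c1]; exact a1.symm))
      (congrArg Multiplicative.ofAdd (by rw [c2]; exact a2.symm))
      (congrArg Multiplicative.ofAdd (by rw [c3]; exact a3.symm)) v
    exact congrArg Multiplicative.toAdd h
  refine ⟨w, fun v => ?_, hlin⟩
  rw [S.θ0_apply, S.θ0_apply, ← map_inv, ← map_mul, ← map_mul]
  congr 1
  refine Subtype.ext ?_
  show (c : G) * S.K.φ (coV v) * (c : G)⁻¹ = S.K.φ (coV (act w v))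
  rw [hM, hlin]

theorem mem_NJ0 {c : S.C0} : S.π0 c ∈ S9Three.NJ S.θ0 ↔ (c : G) ∈ S.N := by
  constructor
  · intro h
    refine S.mem_N fun x hx => ?_
    obtain ⟨y, rfl⟩ := S.K.φ_surj hx
    obtain ⟨v, a, rfl⟩ := decomp4 y
    obtain ⟨u, hu⟩ := (mem_normalizer_iff.1 h (S.θ0 v)).1 ⟨v, rfl⟩
    rw [S.θ0_apply v, ← map_inv, ← map_mul, ← map_mul] at hu
    obtain ⟨b, hb⟩ := S.π0_eq_θ.1 hu.symm
    have hb' : (c : G) * S.K.φ (coV v) * (c : G)⁻¹ = S.K.φ (coV u + smulV b (evv 0)) := hb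
    rw [S.K.φ_add, show (c : G) * (S.K.φ (coV v) * S.K.φ (smulV a (evv 0))) * (c : G)⁻¹ =
      ((c : G) * S.K.φ (coV v) * (c : G)⁻¹) * ((c : G) * S.K.φ (smulV a (evv 0)) * (c : G)⁻¹) by group, hb',
      S.K.φ_smul, (show Commute (c : G) (pw (S.K.φ (evv 0)) a) from (S.mem_C0.1 c.2).pow_right _).eq, mul_inv_cancel_right]
    exact mul_mem (S.K.φ_mem _) (pow_mem (S.K.φ_mem _) _)
  · intro h
    obtain ⟨M, hM⟩ := S.acts_N h
    obtain ⟨w, hw, -⟩ := S.acts_mono hM
    exact S9Three.Loc.acts_mem hw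

theorem comm_shift {k : G} (k0 : Commute k (S.e 0)) {x : V4} {p : ZMod 3}
    (h : Commute k (S.K.φ (x + smulV p (evv 0)))) : Commute k (S.K.φ x) := by
  rw [S.K.φ_add, S.K.φ_smul] at h
  have := h.mul_right ((show Commute k (pw (S.e 0) p) from k0.pow_right _).inv_right)
  rwa [show S.K.φ x * pw (S.K.φ (evv 0)) p * (pw (S.e 0) p)⁻¹ = S.K.φ x from mul_inv_cancel_right _ _] at this

theorem θ_sig (R : Subgroup S.Y0) (hR : (Nat.card R).Coprime 3)
    (hinv : ∀ v, R.map (MulAut.conj (S.θ0 v)).toMonoidHom = R) : R = ⊥ := by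
  classical
  set J := S.θ0.range with hJ
  have hJc : ∀ x ∈ J, ∀ y ∈ J, x * y = y * x := by
    rintro _ ⟨u, rfl⟩ _ ⟨v, rfl⟩; rw [← map_mul, ← map_mul, mul_comm]
  have conjmem : ∀ {r : S.Y0}, r ∈ R → ∀ v, S.θ0 v * r * (S.θ0 v)⁻¹ ∈ R := fun {r} hr v => by
    have : (MulAut.conj (S.θ0 v)).toMonoidHom r ∈ R.map (MulAut.conj (S.θ0 v)).toMonoidHom :=
      Subgroup.mem_map_of_mem _ hr
    rwa [hinv v] at this
  have hone : ∀ r ∈ R, r ∈ J → r = 1 := fun r hr hj => by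
    obtain ⟨v, rfl⟩ := hj
    have h3 : S.θ0 v ^ 3 = 1 := by
      rw [← map_pow, show v ^ 3 = 1 from V_cube v, map_one]
    exact orderOf_eq_one_iff.1 (Nat.eq_one_of_dvd_coprimes hR (Subgroup.orderOf_dvd_natCard _ hr)
      (orderOf_dvd_of_pow_eq_one h3))
  have hline : ∀ a c : V, a ≠ 1 → c ≠ 1 → c ≠ a → c ≠ a * a →
      ∀ r ∈ R, Commute r (S.θ0 a) → Commute r (S.θ0 c) → r = 1 := by
    intro a c ha hc h1 h2 r hr hra hrc
    obtain ⟨g, rfl⟩ := QuotientGroup.mk'_surjective S.Z0 r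
    have himg : ∀ x : V, Commute (S.π0 g) (S.θ0 x) →
        ∃ p : ZMod 3, (g : G) * S.K.φ (coV x) * (g : G)⁻¹ = S.K.φ (coV x + smulV p (evv 0)) := by
      intro x hx
      have e : S.π0 (g * ⟨S.K.φ (coV x), S.A_le_C0 (S.K.φ_mem _)⟩ * g⁻¹) = S.θ0 x := by
        rw [map_mul, map_mul, map_inv, ← S.θ0_apply, hx.eq, mul_inv_cancel_right]
      exact S.π0_eq_θ.1 e
    obtain ⟨p, hp⟩ := himg a hra
    obtain ⟨q, hq⟩ := himg c hrc
    have hgN : (g : G) ∈ S.N := S.mem_N_of_cent (T := {S.e 0, S.K.φ (coV a), S.K.φ (coV c)})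
      (by rintro _ (rfl | rfl | rfl) <;> exact S.K.φ_mem _) fun k hk => by
        have k0 : Commute k (S.e 0) := by
          have := hk _ (Or.inl rfl)
          rwa [mul_inv_eq_iff_eq_mul.2 (S.mem_C0.1 g.2).eq] at this
        exact S.cent3 (good_pairs a c ha hc h1 h2) k0
          (S.comm_shift k0 (hp ▸ hk _ (Or.inr (Or.inl rfl))))
          (S.comm_shift k0 (hq ▸ hk _ (Or.inr (Or.inr rfl))))
    have hgJ : S.π0 g ∈ S9Three.NJ S.θ0 := S.mem_NJ0.2 hgN
    have hcent : ∀ v, Commute (S.π0 g) (S.θ0 v) := fun v => by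
      refine (mul_inv_eq_one.1 (hone (S.π0 g * S.θ0 v * (S.π0 g)⁻¹ * (S.θ0 v)⁻¹) ?_ ?_) |> mul_inv_eq_iff_eq_mul.1)
      · rw [show S.π0 g * S.θ0 v * (S.π0 g)⁻¹ * (S.θ0 v)⁻¹ = S.π0 g * (S.θ0 v * (S.π0 g)⁻¹ * (S.θ0 v)⁻¹) by group]
        exact mul_mem hr (conjmem (inv_mem hr) v)
      · exact mul_mem ((mem_normalizer_iff.1 hgJ _).1 ⟨v, rfl⟩) (inv_mem ⟨v, rfl⟩)
    obtain ⟨M, hM⟩ := S.acts_N hgN
    obtain ⟨w, hw, hlin⟩ := S.acts_mono hM
    refine hone _ hr ?_
    have hwid : ∀ v, act w v = v := fun v => S.θ0_inj (by rw [← hw v, (hcent v).eq, mul_inv_cancel_right])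
    have hMid : M = oneM := by
      have h0 : app M (evv 0) = evv 0 := S.K.φ_inj (by
        rw [← hM, mul_inv_eq_iff_eq_mul]; exact (S.mem_C0.1 g.2).eq)
      obtain ⟨c1, c2, c3, -, -⟩ := coV_facts
      have e1 : app M (evv 1) = evv 1 := by rw [← c1, hlin, hwid]
      have e2 : app M (evv 2) = evv 2 := by rw [← c2, hlin, hwid]
      have e3 : app M b2 = b2 := by rw [← c3, hlin, hwid]
      obtain ⟨k1, k3, k4⟩ := evv_basis
      have kb1 : app M b1 = b1 := by rw [k1, app_add, app_add, h0, e1, e2]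
      refine M4_ext ?_ ?_ ?_ ?_ <;> rw [app_oneM]
      · exact kb1
      · exact e3
      · rw [k3, app_add, app_neg, e1, e2]
      · rw [k4, app_add, h0, kb1]
    obtain ⟨x, hx⟩ := S.K.φ_surj (S.cent_A fun b hb => S.K.commute_of_acts_one (hMid ▸ hM) hb)
    obtain ⟨v, d, rfl⟩ := decomp4 x
    exact ⟨v, (S.π0_eq_θ.2 ⟨d, hx.symm⟩).symm⟩
  -- two steps of generation by centralisers
  have gen : ∀ (K : Subgroup S.Y0) (a b : V), a ≠ 1 → (∀ i : Fin 3, b ≠ a ^ i.val) →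
      (∀ v, ∀ r ∈ K, S.θ0 v * r * (S.θ0 v)⁻¹ ∈ K) → (Nat.card K).Coprime 3 →
      (∀ c ∈ Subgroup.closure ({a, b} : Set V), c ≠ 1 → ∀ r ∈ K, Commute r (S.θ0 c) → r = 1) → K = ⊥ := by
    intro K a b ha hb hK hK3 hC
    set B := (Subgroup.closure ({a, b} : Set V)).map S.θ0 with hB
    haveI : IsMulCommutative B := ⟨⟨fun x y => Subtype.ext (by
      obtain ⟨u, -, e⟩ := x.2
      obtain ⟨v, -, e'⟩ := y.2
      show (x : S.Y0) * y = y * x
      rw [← e, ← e', ← map_mul, ← map_mul, mul_comm])⟩⟩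
    have hncyc : ¬ IsCyclic B := fun hc => by
      haveI : Fact (Nat.Prime 3) := ⟨Nat.prime_three⟩
      have h1 := IsCyclic.exponent_eq_card (α := B)
      have h3 : Monoid.exponent B ∣ 3 := Monoid.exponent_dvd_of_forall_pow_eq_one fun x => by
        obtain ⟨u, -, e⟩ := x.2
        refine Subtype.ext ?_
        rw [SubgroupClass.coe_pow, ← e, ← map_pow, show u ^ 3 = 1 from V_cube u, map_one]
        rfl
      rw [h1] at h3
      have hle : zpowers a < Subgroup.closure ({a, b} : Set V) := by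
        refine lt_of_le_of_ne (zpowers_le.2 (Subgroup.subset_closure (Or.inl rfl))) fun e => ?_
        have hbm : b ∈ zpowers a := e ▸ (Subgroup.subset_closure (Or.inr rfl) : b ∈ Subgroup.closure ({a, b} : Set V))
        obtain ⟨n, hn⟩ := (isOfFinOrder_of_finite _).mem_powers_iff_mem_zpowers.2 hbm
        refine hb ⟨n % 3, Nat.mod_lt _ (by norm_num)⟩ ?_
        show b = a ^ (n % 3)
        rw [← hn]
        exact pow_eq_pow_mod n (show a ^ 3 = 1 from V_cube a)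
      have hlt := Set.Finite.card_lt_card (Set.toFinite _) hle
      have ha3 : Nat.card (zpowers a) = 3 := by
        rw [Nat.card_zpowers]
        exact orderOf_eq_prime (V_cube a) ha
      have hc' : Nat.card B = Nat.card (Subgroup.closure ({a, b} : Set V)) := card_map_of_injective S.θ0_inj
      have := Nat.le_of_dvd (by norm_num) h3
      rw [hc'] at this
      change Nat.card (zpowers a) < Nat.card (Subgroup.closure ({a, b} : Set V)) at hlt
      omega
    have hBK : B ≤ normalizer (K : Set S.Y0) := by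
      rintro _ ⟨v, -, rfl⟩
      refine mem_normalizer_iff.2 fun r => ⟨hK v r, fun h => ?_⟩
      have := hK v⁻¹ _ h
      rw [map_inv] at this
      rwa [show (S.θ0 v)⁻¹ * (S.θ0 v * r * (S.θ0 v)⁻¹) * (S.θ0 v)⁻¹⁻¹ = r by group] at this
    have hcopB : (Nat.card B).Coprime (Nat.card K) := by
      have hp : IsPGroup 3 B := fun x => ⟨1, by
        obtain ⟨u, -, e⟩ := x.2
        refine Subtype.ext ?_
        rw [SubgroupClass.coe_pow, ← e, pow_one, ← map_pow, show u ^ 3 = 1 from V_cube u, map_one]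
        rfl⟩
      haveI : Fact (Nat.Prime 3) := ⟨Nat.prime_three⟩
      obtain ⟨n, hn⟩ := IsPGroup.iff_card.1 hp
      rw [hn]
      exact Nat.Coprime.pow_left n hK3.symm
    rw [← CoprimeAct.generated_by_centralizers hncyc hBK hcopB]
    refine le_bot_iff.1 (iSup₂_le fun x hx r hr => ?_)
    obtain ⟨c, hc, rfl⟩ := hx.1
    exact mem_bot.2 (hC c hc (fun e => hx.2 (by rw [e, map_one])) r hr.1
      (mem_centralizer_singleton_iff.1 hr.2))
  have h12 : ∀ i : Fin 3, v2 ≠ v1 ^ i.val := by decide +kernel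
  refine gen R v1 v2 (by decide +kernel) h12 (fun v r hr => conjmem hr v) hR fun a ha ha1 r hr hra => ?_
  have hz : a.toAdd.2.2 = 0 := by
    clear ha1 hra
    induction ha using Subgroup.closure_induction with
    | mem y hy => rcases hy with rfl | rfl <;> rfl
    | one => rfl
    | mul x y _ _ hx hy => rw [toAdd_mul, Prod.snd_add, Prod.snd_add, hx, hy, add_zero]
    | inv x _ hx => rw [toAdd_inv, Prod.snd_neg, Prod.snd_neg, hx, neg_zero]
  set b : V := if a.toAdd.2.1 = 0 then v2 else v1 with hb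
  have hb3 : ∀ i : Fin 3, v3 ≠ b ^ i.val := by
    rw [hb]; split_ifs <;> decide +kernel
  have hbv : b ≠ 1 := by
    rw [hb]; split_ifs <;> decide +kernel
  have key := gen (R ⊓ centralizer ({S.θ0 a} : Set S.Y0)) b v3 hbv hb3
    (fun v r' hr' => ⟨conjmem hr'.1 v, mem_centralizer_singleton_iff.2 (by
      have h := mem_centralizer_singleton_iff.1 hr'.2
      have hc := hJc _ ⟨v, rfl⟩ _ ⟨a, rfl⟩
      calc S.θ0 v * r' * (S.θ0 v)⁻¹ * S.θ0 a = S.θ0 v * (r' * S.θ0 a) * (S.θ0 v)⁻¹ := by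
            rw [mul_assoc, show (S.θ0 v)⁻¹ * S.θ0 a = S.θ0 a * (S.θ0 v)⁻¹ from
              ((show Commute (S.θ0 v) (S.θ0 a) from hc).inv_left).eq]
            group
        _ = S.θ0 a * (S.θ0 v * r' * (S.θ0 v)⁻¹) := by
            rw [h, ← mul_assoc, hc]
            group)⟩)
    (Nat.Coprime.coprime_dvd_left (card_dvd_of_le inf_le_left) hR)
    (fun c hc hc1 r' hr' hrc => by
      have hcz : if a.toAdd.2.1 = 0 then c.toAdd.1 = 0 else c.toAdd.2.1 = 0 := by
        clear hc1 hrc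
        induction hc using Subgroup.closure_induction with
        | mem y hy =>
          rcases hy with rfl | rfl
          · rw [hb]; split_ifs <;> rfl
          · split_ifs <;> rfl
        | one => split_ifs <;> rfl
        | mul x y _ _ hx hy =>
          split_ifs at hx hy ⊢
          · rw [toAdd_mul, Prod.fst_add, hx, hy, add_zero]
          · rw [toAdd_mul, Prod.snd_add, Prod.fst_add, hx, hy, add_zero]
        | inv x _ hx =>
          split_ifs at hx ⊢
          · rw [toAdd_inv, Prod.fst_neg, hx, neg_zero]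
          · rw [toAdd_inv, Prod.snd_neg, Prod.fst_neg, hx, neg_zero]
      obtain ⟨n1, n2⟩ := plane_two a hz ha1 c hc1 hcz
      exact hline a c ha1 hc1 n1 n2 r' hr'.1 (mem_centralizer_singleton_iff.1 hr'.2) hrc)
  exact mem_bot.1 (key ▸ (⟨hr, mem_centralizer_singleton_iff.2 hra.eq⟩ :
    r ∈ R ⊓ centralizer ({S.θ0 a} : Set S.Y0)))

/-- The hypotheses of the recognition of `Sym(9)`. -/
theorem θ0_loc (hδ : S.δ = 2) : S9Three.Loc S.θ0 where
  inj := S.θ0_inj
  sig := S.θ_sig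
  monomial n hn := by
    obtain ⟨c, rfl⟩ := QuotientGroup.mk'_surjective S.Z0 n
    obtain ⟨M, hM⟩ := S.acts_N (S.mem_NJ0.1 hn)
    exact ⟨_, (S.acts_mono hM).choose_spec.1⟩
  perm w hw := by
    have lift : ∀ {n : G} {M : M4} {w : S9Three.W}, S.K.Acts n M → app M (evv 0) = evv 0 →
        (∀ v, coV (act w v) = app M (coV v)) → S9Three.Lift S.θ0 w := by
      intro n M w hM h0 hv
      have hc : n ∈ S.C0 := S.mem_C0.2 (mul_inv_eq_iff_eq_mul.1 (by rw [e, hM, h0]))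
      refine ⟨S.π0 ⟨n, hc⟩, fun v => ?_⟩
      rw [S.θ0_apply, S.θ0_apply, ← map_inv, ← map_mul, ← map_mul]
      congr 1
      exact Subtype.ext (by show n * S.K.φ (coV v) * n⁻¹ = _; rw [hM, hv])
    have hm : ∀ {a b : S9Three.W}, S9Three.Lift S.θ0 a → S9Three.Lift S.θ0 b → S9Three.Lift S.θ0 (a * b) :=
      fun ⟨_, ha⟩ ⟨_, hb⟩ => ⟨_, S9Three.Loc.acts_mul ha hb⟩
    obtain ⟨n, hn⟩ := S.lift_word [2, 3, 2, 1, 3]
    have hcyc : S9Three.Lift S.θ0 cyc := by
      rcases cyc_word with h | h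
      · exact lift hn cyc_fix.1 h
      · exact cyc_fix.2 ▸ hm (lift hn cyc_fix.1 h) (lift hn cyc_fix.1 h)
    obtain ⟨s, hs, -⟩ := S.lift_swap hδ
    have htau : S9Three.Lift S.θ0 tau := lift hs tau_map.1 tau_map.2
    rcases (S9Three.perm_iff w).1 hw with rfl | rfl | rfl | rfl | rfl | rfl
    exacts [⟨1, S9Three.Loc.acts_one⟩, hcyc, hm hcyc hcyc, htau, hm hcyc htau, hm (hm hcyc hcyc) htau]
  centX y hy := by
    obtain ⟨g, rfl⟩ := QuotientGroup.mk'_surjective S.Z0 y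
    refine S.mem_NJ0.2 ?_
    have e : S.π0 (g * ⟨S.K.φ (coV vx), S.A_le_C0 (S.K.φ_mem _)⟩ * g⁻¹) = S.θ0 vx := by
      rw [map_mul, map_mul, map_inv, ← S.θ0_apply]
      exact mul_inv_eq_iff_eq_mul.2 hy
    obtain ⟨a, ha⟩ := S.π0_eq_θ.1 e
    have ha' : (g : G) * S.K.φ (coV vx) * (g : G)⁻¹ = S.K.φ (coV vx + smulV a (evv 0)) := ha
    obtain rfl := vx_norm a (S.qf_fusion ha')
    refine S.cent_bad (S.mem_C0.1 g.2) (mul_inv_eq_iff_eq_mul.1 ?_)
    rw [← coV_facts.2.2.2.1, ha']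
    congr 1
  selfc y hy := by
    obtain ⟨g, rfl⟩ := QuotientGroup.mk'_surjective S.Z0 y
    have hgJ : S.π0 g ∈ S9Three.NJ S.θ0 := S9Three.Loc.acts_mem (w := 1) fun v => by
      rw [S9Three.act_id, hy v, mul_inv_cancel_right]
    obtain ⟨M, hM⟩ := S.acts_N (S.mem_NJ0.1 hgJ)
    obtain ⟨w, hw, hlin⟩ := S.acts_mono hM
    have hwid : ∀ v, act w v = v := fun v => S.θ0_inj (by rw [← hw v, hy v, mul_inv_cancel_right])
    have h0 : app M (evv 0) = evv 0 := S.K.φ_inj (by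
      rw [← hM, mul_inv_eq_iff_eq_mul]; exact (S.mem_C0.1 g.2).eq)
    have hfix : ∀ x, app M x = x := fun x => by
      obtain ⟨v, d, rfl⟩ := decomp4 x
      have hs : ∀ d : ZMod 3, app M (smulV d (evv 0)) = smulV d (evv 0) := fun d => S.K.φ_inj (by
        rw [← hM, mul_inv_eq_iff_eq_mul, S.K.φ_smul]
        exact ((S.mem_C0.1 g.2).pow_right _).eq)
      rw [app_add, hlin, hwid, hs]
    have hMid : M = oneM := M4_ext (by rw [hfix, app_oneM]) (by rw [hfix, app_oneM]) (by rw [hfix, app_oneM])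
      (by rw [hfix, app_oneM])
    obtain ⟨x, hx⟩ := S.K.φ_surj (S.cent_A fun b hb => S.K.commute_of_acts_one (hMid ▸ hM) hb)
    obtain ⟨v, d, rfl⟩ := decomp4 x
    exact ⟨v, (S.π0_eq_θ.2 ⟨d, hx.symm⟩).symm⟩

/-- If all centralisers of translations are small, the centraliser of the coordinate normalises the torus. -/
theorem cent_small (hδ : S.δ = 2) (hsmall : ∀ u, u ≠ 1 → S9Three.cg S.θ0 ![u] ≤ S9Three.NJ S.θ0) {g : G}
    (hg : Commute g (S.e 0)) : g ∈ S.N := by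
  obtain ⟨k, hk⟩ := (S.θ0_loc hδ).exists_kind
  have hn := (S.θ0_loc hδ).small_normal hk hsmall
  refine (S.mem_NJ0 (c := ⟨g, S.mem_C0.2 hg⟩)).1 ?_
  show _ ∈ normalizer (S.θ0.range : Set S.Y0)
  rw [normalizer_eq_top_iff.2 hn]
  exact mem_top _

end Setting

end Cfsg.Agent.O8Three
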