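import Cfsg.Agent.Lib.O8Three.Lifts

/-!
S3372: tools for the centralisers of several torus elements, and the maps induced on the torus by the centraliser of
`z`: eighteen when the quotient is `SL(2,3)`, all thirty-six isometries fixing `z` otherwise.
-/

set_option autoImplicit false
set_option linter.style.haveILetI false
set_option linter.unusedSectionVars false
set_option linter.unusedSimpArgs false
set_option maxRecDepth 20000
set_option synthInstance.maxSize 5000

namespace Cfsg.Agent.O8Three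

open Subgroup
open Cfsg.Agent.HeisSLThree (pw pw_add pw_zero pw_one)

/-- The transposition of the last two coordinates. -/
def MS : M4 := ((1, 0, 0, 0), (0, 1, 0, 0), (0, 0, 2, 0), (0, 0, 0, 1))

/-- The maps of the smaller stabiliser of `z`. -/
def S18 : List M4 :=
  (List.finRange 3).flatMap fun i => (List.finRange 3).flatMap fun j =>
    [mulM (powM MW i.val) (powM MU j.val), mulM (mulM (powM MW i.val) (powM MU j.val)) MT]

/-- The isometries fixing `z`. -/
def S36 : List M4 := S18 ++ S18.map (mulM MS)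

theorem S18_nodup : S18.Nodup ∧ S18.length = 18 ∧ S36.Nodup ∧ S36.length = 36 ∧ MS ∈ S36 ∧ MS ∉ S18 := by
  decide +kernel

theorem S36_all : ∀ c2 : V4, qf c2 = 1 → bf b1 c2 = 0 → ∀ c3 : V4, qf c3 = 2 → bf b1 c3 = 0 → bf c2 c3 = 0 →
    ∀ c4 : V4, qf c4 = 0 → bf b1 c4 = 1 → bf c2 c4 = 0 → bf c3 c4 = 0 → (b1, c2, c3, c4) ∈ S36 := by
  decide +kernel

theorem norms_b : qf b2 = 1 ∧ qf b3 = 2 ∧ qf b4 = 0 ∧ bf b1 b2 = 0 ∧ bf b1 b3 = 0 ∧ bf b2 b3 = 0 ∧
    bf b1 b4 = 1 ∧ bf b2 b4 = 0 ∧ bf b3 b4 = 0 := by decide +kernel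

theorem M4_ext {M M' : M4} (h1 : app M b1 = app M' b1) (h2 : app M b2 = app M' b2) (h3 : app M b3 = app M' b3)
    (h4 : app M b4 = app M' b4) : M = M' := by
  obtain ⟨x1, x2, x3, x4⟩ := app_cols M
  obtain ⟨y1, y2, y3, y4⟩ := app_cols M'
  exact Prod.ext (x1.symm.trans (h1.trans y1)) (Prod.ext (x2.symm.trans (h2.trans y2))
    (Prod.ext (x3.symm.trans (h3.trans y3)) (x4.symm.trans (h4.trans y4))))

namespace Setting

variable {G : Type*} [Group G] [Finite G] (S : Setting G)

/-- The maps induced by the centraliser of `z`, as a list of the candidates. -/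
theorem cand {n : G} (hn : n ∈ S.F.toPair.toConf.Cz) {M : M4} (hM : S.K.Acts n M) : M ∈ S36 := by
  obtain ⟨c1, c2, c3, c4⟩ := app_cols M
  have h1 : app M b1 = b1 := S.K.φ_inj (by rw [← hM, S.K.φ_b1, S.F.toPair.toConf.fix_Z hn S.p1_mem])
  obtain ⟨n2, n3, n4, p12, p13, p23, p14, p24, p34⟩ := norms_b
  have hb := S.bf_pres hM
  have h := S36_all (app M b2) (by rw [S.qf_pres hM, n2]) (by rw [← h1, hb, p12])
    (app M b3) (by rw [S.qf_pres hM, n3]) (by rw [← h1, hb, p13]) (by rw [hb, p23])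
    (app M b4) (by rw [S.qf_pres hM, n4]) (by rw [← h1, hb, p14]) (by rw [hb, p24]) (by rw [hb, p34])
  have e : M = (b1, app M b2, app M b3, app M b4) :=
    Prod.ext (c1.symm.trans h1) (Prod.ext c2.symm (Prod.ext c3.symm c4.symm))
  rw [e]
  exact h

theorem acts_pow {g : G} {M : M4} (h : S.K.Acts g M) (n : ℕ) : S.K.Acts (g ^ n) (powM M n) := by
  induction n with
  | zero => rw [pow_zero]; exact S.K.acts_one
  | succ n ih => rw [pow_succ]; exact ih.mul h

/-- The order of the part in the normaliser of the centraliser of `z`. -/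
theorem card_NCz_eq : Nat.card ↥(S.N ⊓ S.F.toPair.toConf.Cz) = 1458 * S.δ := by
  classical
  set C := S.F.toPair.toConf
  set T := S.N ⊓ C.Cz with hT
  haveI := Fintype.ofFinite ↥C.Cz
  let f : S.R × T → C.Cz := fun p => ⟨p.1 * p.2, mul_mem (S.R_le p.1.2) p.2.2.2⟩
  have hfib : ∀ y, Nat.card {p // f p = y} = 2 := by
    intro y
    obtain ⟨r, hr, hn⟩ := S.decomp y.2
    have htT : ∀ x : G, x = 1 ∨ x = S.F.t → x ∈ T := by
      rintro x (rfl | rfl)
      exacts [one_mem _, ⟨S.mem_N_of_acts S.acts_t, S.F.t_mem⟩]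
    have e : Nat.card {p // f p = y} = Nat.card ({1, S.F.t} : Set G) := by
      refine Nat.card_congr
        { toFun := fun p => ⟨r⁻¹ * (p.1.1 : G), ?_⟩
          invFun := fun x => ⟨(⟨r * (x : G), mul_mem hr (by
            rcases x.2 with h | h <;> rw [h]
            exacts [one_mem _, S.t_mem_R])⟩, ⟨(x : G)⁻¹ * (r⁻¹ * y),
              mul_mem (inv_mem (htT _ x.2)) (mem_inf.2 ⟨hn, mul_mem (inv_mem (S.R_le hr)) y.2⟩)⟩),
            Subtype.ext (by show r * (x : G) * ((x : G)⁻¹ * (r⁻¹ * y)) = _; group)⟩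
          left_inv := fun p => ?_
          right_inv := fun x => Subtype.ext (by show r⁻¹ * (r * (x : G)) = _; group) }
      · have h : (p.1.1 : G) * p.1.2 = y := congrArg Subtype.val p.2
        refine S.R_inf_N (mul_mem (inv_mem hr) p.1.1.2) ?_
        rw [show r⁻¹ * (p.1.1 : G) = r⁻¹ * y * (p.1.2 : G)⁻¹ by rw [← h]; group]
        exact mul_mem hn (inv_mem p.1.2.2.1)
      · have h : (p.1.1 : G) * p.1.2 = y := congrArg Subtype.val p.2
        refine Subtype.ext (Prod.ext (Subtype.ext ?_) (Subtype.ext ?_))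
        · show r * (r⁻¹ * (p.1.1 : G)) = p.1.1
          group
        · show (r⁻¹ * (p.1.1 : G))⁻¹ * (r⁻¹ * y) = p.1.2
          rw [← h]; group
    rw [e, Nat.card_coe_set_eq, Set.ncard_pair (Ne.symm S.t_not_one)]
  have h := Nat.card_congr (Equiv.sigmaFiberEquiv f)
  rw [Nat.card_sigma] at h
  simp only [hfib, Finset.sum_const, Finset.card_univ, smul_eq_mul] at h
  rw [← Nat.card_eq_fintype_card, Nat.card_prod, S.card_R, S.card_Cz] at h
  omega

/-- The number of maps induced by the centraliser of `z`. -/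
theorem image_NCz : ∃ s : Finset M4, s.card = 18 * S.δ ∧
    ∀ M, M ∈ s ↔ ∃ n ∈ S.F.toPair.toConf.Cz, S.K.Acts n M := by
  classical
  set T := S.N ⊓ S.F.toPair.toConf.Cz with hT
  haveI := Fintype.ofFinite ↥T
  choose f hf using fun n : T => S.acts_N n.2.1
  refine ⟨Finset.univ.image f, ?_, fun M => ⟨fun h => ?_, ?_⟩⟩
  · have key : ∀ M ∈ Finset.univ.image f, (Finset.univ.filter fun n => f n = M).card = 81 := by
      intro M hM
      obtain ⟨n, -, rfl⟩ := Finset.mem_image.1 hM
      rw [← Fintype.card_subtype, ← Nat.card_eq_fintype_card, ← S.K.card]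
      refine Nat.card_congr
        { toFun := fun m => ⟨(n : G)⁻¹ * (m.1 : G), S.cent_A fun x hx => ?_⟩
          invFun := fun a => ⟨⟨(n : G) * a, mul_mem n.2.1 (S.A_le_N a.2), mul_mem n.2.2 (S.A_le_Cz a.2)⟩, ?_⟩
          left_inv := fun m => Subtype.ext (Subtype.ext (by simp))
          right_inv := fun a => Subtype.ext (by simp) }
      · obtain ⟨v, rfl⟩ := S.K.φ_surj hx
        have e1 := hf m.1 v
        rw [m.2, ← hf n v] at e1
        refine mul_inv_eq_iff_eq_mul.1 ?_
        calc (n : G)⁻¹ * m.1 * S.K.φ v * ((n : G)⁻¹ * m.1)⁻¹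
            = (n : G)⁻¹ * ((m.1 : G) * S.K.φ v * (m.1 : G)⁻¹) * n := by group
          _ = S.K.φ v := by rw [e1]; group
      · refine S.K.acts_unique (hf _) ?_
        have := (hf n).mul (S.K.acts_of_mem a.2)
        rwa [mulM_oneM] at this
    have h := Finset.card_eq_sum_card_image f (Finset.univ : Finset T)
    rw [Finset.sum_congr rfl key, Finset.sum_const, smul_eq_mul, Finset.card_univ, ← Nat.card_eq_fintype_card,
      show Nat.card T = _ from S.card_NCz_eq] at h
    omega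
  · obtain ⟨n, -, rfl⟩ := Finset.mem_image.1 h
    exact ⟨n, n.2.2, hf n⟩
  · rintro ⟨n, hn, hM⟩
    exact Finset.mem_image.2 ⟨⟨n, S.mem_N_of_acts hM, hn⟩, Finset.mem_univ _, S.K.acts_unique (hf _) hM⟩

/-- The eighteen maps are induced. -/
theorem lift_S18 {M : M4} (h : M ∈ S18) : ∃ n ∈ S.F.toPair.toConf.Cz, S.K.Acts n M := by
  simp only [S18, List.mem_flatMap, List.mem_finRange, true_and, List.mem_cons, List.not_mem_nil, or_false] at h
  obtain ⟨i, j, rfl | rfl⟩ := h
  · exact ⟨_, mul_mem (pow_mem (S.F.Q_le S.qw_mem.1) _) (pow_mem (S.F.Q_le S.qu_mem.1) _),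
      (S.acts_pow S.acts_w _).mul (S.acts_pow S.acts_u _)⟩
  · exact ⟨_, mul_mem (mul_mem (pow_mem (S.F.Q_le S.qw_mem.1) _) (pow_mem (S.F.Q_le S.qu_mem.1) _)) S.F.t_mem,
      ((S.acts_pow S.acts_w _).mul (S.acts_pow S.acts_u _)).mul S.acts_t⟩

/-- If the quotient is `SL(2,3)` only eighteen maps are induced. -/
theorem maps_one (hδ : S.δ = 1) {n : G} (hn : n ∈ S.F.toPair.toConf.Cz) {M : M4} (hM : S.K.Acts n M) : M ∈ S18 := by
  classical
  obtain ⟨s, hs, hmem⟩ := S.image_NCz
  have hsub : S18.toFinset ⊆ s := fun X hX => (hmem X).2 (S.lift_S18 (List.mem_toFinset.1 hX))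
  have heq := Finset.eq_of_subset_of_card_le hsub (by
    rw [hs, hδ, List.toFinset_card_of_nodup S18_nodup.1, S18_nodup.2.1])
  exact List.mem_toFinset.1 (heq ▸ (hmem M).2 ⟨n, hn, hM⟩)

/-- Otherwise the transposition is induced by an element commuting with the involution. -/
theorem lift_swap (hδ : S.δ = 2) : ∃ n, S.K.Acts n MS ∧ Commute n S.F.t := by
  classical
  obtain ⟨s, hs, hmem⟩ := S.image_NCz
  have hsub : s ⊆ S36.toFinset := fun X hX => by
    obtain ⟨n, hn, hM⟩ := (hmem X).1 hX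
    exact List.mem_toFinset.2 (S.cand hn hM)
  have heq := Finset.eq_of_subset_of_card_le hsub (by
    rw [hs, hδ, List.toFinset_card_of_nodup S18_nodup.2.2.1, S18_nodup.2.2.2.1])
  obtain ⟨n, -, hM⟩ := (hmem MS).1 (heq ▸ List.mem_toFinset.2 S18_nodup.2.2.2.2.1)
  exact S.lift_t hM (by decide +kernel)

/-- Conjugation inside the torus preserves the norms. -/
theorem qf_fusion {g : G} {v v' : V4} (h : g * S.K.φ v * g⁻¹ = S.K.φ v') : qf v' = qf v := by
  obtain ⟨n, hn, e⟩ := S.fusion (g := g) (S.K.φ_mem v) (by rw [h]; exact S.K.φ_mem v')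
  obtain ⟨M, hM⟩ := S.acts_N hn
  rw [h, hM] at e
  rw [← S.K.φ_inj e, S.qf_pres hM]

/-- An element whose images of some torus elements have their centraliser in the normaliser is in it. -/
theorem mem_N_of_cent {g : G} {T : Set G} (hT : T ⊆ S.K.A)
    (h : ∀ c, (∀ a ∈ T, Commute c (g * a * g⁻¹)) → c ∈ S.N) : g ∈ S.N := by
  haveI : Fact (Nat.Prime 3) := ⟨Nat.prime_three⟩
  set J := S.K.A.map (MulAut.conj g).toMonoidHom with hJ
  have hJN : J ≤ normalizer (S.K.A : Set G) := by
    rintro _ ⟨x, hx, rfl⟩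
    exact h _ fun a ha => (S.K.comm x hx a (hT ha)).map (MulAut.conj g)
  have hAp : IsPGroup 3 S.K.A := fun a => ⟨1, Subtype.ext (by simpa using S.K.exp _ a.2)⟩
  have hP := (hAp.map (MulAut.conj g).toMonoidHom).to_sup_of_normal_right' hAp hJN
  have heq := S.A_unique hP le_sup_right (H := J) le_sup_left
    (by rintro _ ⟨x, hx, rfl⟩ _ ⟨y, hy, rfl⟩; exact (S.K.comm x hx y hy).map (MulAut.conj g))
    (by rw [hJ, card_map_of_injective (MulAut.conj g).injective, S.K.card])
  exact S.mem_N fun x hx => heq.le ⟨x, hx, rfl⟩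

theorem commute_comb2 {g : G} {x y : V4} (hx : Commute g (S.K.φ x)) (hy : Commute g (S.K.φ y)) (a b : ZMod 3) :
    Commute g (S.K.φ (smulV a x + smulV b y)) := by
  rw [S.K.φ_add, S.K.φ_smul, S.K.φ_smul]
  exact (hx.pow_right _).mul_right (hy.pow_right _)

theorem commute_comb3 {g : G} {x y w : V4} (hx : Commute g (S.K.φ x)) (hy : Commute g (S.K.φ y))
    (hw : Commute g (S.K.φ w)) (a b c : ZMod 3) :
    Commute g (S.K.φ (smulV a x + smulV b y + smulV c w)) := by
  rw [S.K.φ_add, S.K.φ_smul c w]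
  exact (S.commute_comb2 hx hy a b).mul_right (hw.pow_right _)

end Setting

/-- A singular vector in the span of two, not orthogonal to both of them. -/
def Good2 (x y : V4) : Prop := ∃ a b : ZMod 3, smulV a x + smulV b y ≠ 0 ∧ qf (smulV a x + smulV b y) = 0 ∧
  (bf (smulV a x + smulV b y) x ≠ 0 ∨ bf (smulV a x + smulV b y) y ≠ 0)

/-- A singular vector in the span of three, not orthogonal to all of them. -/
def Good3 (x y w : V4) : Prop := ∃ a b c : ZMod 3, smulV a x + smulV b y + smulV c w ≠ 0 ∧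
  qf (smulV a x + smulV b y + smulV c w) = 0 ∧
  (bf (smulV a x + smulV b y + smulV c w) x ≠ 0 ∨ bf (smulV a x + smulV b y + smulV c w) y ≠ 0 ∨
    bf (smulV a x + smulV b y + smulV c w) w ≠ 0)

instance (x y : V4) : Decidable (Good2 x y) := by unfold Good2; infer_instance

instance (x y w : V4) : Decidable (Good3 x y w) := by unfold Good3; infer_instance

namespace Setting

variable {G : Type*} [Group G] [Finite G] (S : Setting G)

theorem cent2 {x y : V4} (h : Good2 x y) {g : G} (hx : Commute g (S.K.φ x)) (hy : Commute g (S.K.φ y)) :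
    g ∈ S.N := by
  obtain ⟨a, b, hne, hq, hb | hb⟩ := h
  · exact S.cent_good hne hq hb (S.commute_comb2 hx hy a b) hx
  · exact S.cent_good hne hq hb (S.commute_comb2 hx hy a b) hy

theorem cent3 {x y w : V4} (h : Good3 x y w) {g : G} (hx : Commute g (S.K.φ x)) (hy : Commute g (S.K.φ y))
    (hw : Commute g (S.K.φ w)) : g ∈ S.N := by
  obtain ⟨a, b, c, hne, hq, hb | hb | hb⟩ := h
  · exact S.cent_good hne hq hb (S.commute_comb3 hx hy hw a b c) hx
  · exact S.cent_good hne hq hb (S.commute_comb3 hx hy hw a b c) hy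
  · exact S.cent_good hne hq hb (S.commute_comb3 hx hy hw a b c) hw

/-- An element carrying two torus elements to a good pair normalises the torus. -/
theorem norm2 {g : G} {x y x' y' : V4} (h : Good2 x' y') (hx : g * S.K.φ x * g⁻¹ = S.K.φ x')
    (hy : g * S.K.φ y * g⁻¹ = S.K.φ y') : g ∈ S.N :=
  S.mem_N_of_cent (T := {S.K.φ x, S.K.φ y}) (by rintro _ (rfl | rfl) <;> exact S.K.φ_mem _) fun _ hc =>
    S.cent2 h (hx ▸ hc _ (Or.inl rfl)) (hy ▸ hc _ (Or.inr rfl))

/-- An element carrying three torus elements to a good triple normalises the torus. -/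
theorem norm3 {g : G} {x y w x' y' w' : V4} (h : Good3 x' y' w') (hx : g * S.K.φ x * g⁻¹ = S.K.φ x')
    (hy : g * S.K.φ y * g⁻¹ = S.K.φ y') (hw : g * S.K.φ w * g⁻¹ = S.K.φ w') : g ∈ S.N :=
  S.mem_N_of_cent (T := {S.K.φ x, S.K.φ y, S.K.φ w}) (by rintro _ (rfl | rfl | rfl) <;> exact S.K.φ_mem _)
    fun _ hc => S.cent3 h (hx ▸ hc _ (Or.inl rfl)) (hy ▸ hc _ (Or.inr (Or.inl rfl)))
      (hw ▸ hc _ (Or.inr (Or.inr rfl)))

theorem bad_spec : app (evW [3, 2, 1, 1, 3]) b1 = evv 1 + evv 2 + b2 ∧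
    (app (evW [3, 2, 1, 1, 3]) b2 = evv 0 ∨ app (evW [3, 2, 1, 1, 3]) b2 = -evv 0) := by decide +kernel

/-- The centraliser of `e₀` and the singular vector orthogonal to it normalises the torus. -/
theorem cent_bad {g : G} (h0 : Commute g (S.e 0)) (hv : Commute g (S.K.φ (evv 1 + evv 2 + b2))) : g ∈ S.N := by
  obtain ⟨m, hm⟩ := S.lift_word [3, 2, 1, 1, 3]
  have hmN := S.mem_N_of_acts hm
  obtain ⟨s1, s2⟩ := bad_spec
  have back : ∀ v : V4, m⁻¹ * S.K.φ (app (evW [3, 2, 1, 1, 3]) v) * m = S.K.φ v := fun v => by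
    rw [← hm v]; group
  have k1 : Commute (m⁻¹ * g * m) S.K.p1 := by
    have h1 := hv.map (MulAut.conj m⁻¹)
    have h2 := back b1
    rw [s1, S.K.φ_b1] at h2
    simpa [MulAut.conj_apply, h2] using h1
  have k2 : Commute (m⁻¹ * g * m) S.K.p2 := by
    have h2 := back b2
    rcases s2 with s | s <;> rw [s, S.K.φ_b2] at h2
    · have h1 := h0.map (MulAut.conj m⁻¹)
      simpa [MulAut.conj_apply, Setting.e, h2] using h1
    · rw [S.φ_neg] at h2
      have h1 := h0.inv_right.map (MulAut.conj m⁻¹)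
      simpa [MulAut.conj_apply, Setting.e, h2] using h1
  have h := S.cent_zw (S.mem_Cz.2 k1) k2
  have := mul_mem (mul_mem hmN h) (inv_mem hmN)
  rwa [show m * (m⁻¹ * g * m) * m⁻¹ = g by group] at this

end Setting

end Cfsg.Agent.O8Three
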