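import Cfsg.Agent.Lib.O8Three.One
import Cfsg.Agent.Lib.O8Three.Cores
import Cfsg.Agent.Lib.GridBlock.OfReps
import Cfsg.Agent.Lib.GridBlock.Center

/-!
S3372: the centraliser of `u` and the involution modulo both satisfies the hypotheses of the block theorem, with the
four-group of `z` as one core and an arbitrary core of a pair of coordinates as the other.
-/

set_option autoImplicit false
set_option linter.style.haveILetI false
set_option linter.unusedSectionVars false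
set_option linter.unusedSimpArgs false
set_option maxRecDepth 20000
set_option synthInstance.maxSize 5000

namespace Cfsg.Agent.O8Three

open Subgroup
open Cfsg.Agent.HeisSLThree (pw pw_add pw_zero pw_one)
open Cfsg.Agent.ThreeTI.Grid (Mod rep)
open Cfsg.Agent.GridBlock (cubes mem_cubes cube_conj cube_self six_all cube_cube)

theorem axes_cases : ∀ x : V4, qf x = 1 → x.2.1 = 0 → ∀ y : V4, qf y = 1 → y.2.1 = 0 →
    bf x y = 0 → (x + -y = b3 ∨ x + -y = -b3) →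
      (x = evv 1 ∨ x = evv 2 ∨ x = -evv 1 ∨ x = -evv 2) ∧
      ∀ z : V4, qf z = 1 → z.2.1 = 0 → bf z x = 0 → bf z y = 0 → z = evv 0 ∨ z = -evv 0 := by decide +kernel

theorem shift_cases : ∀ k s : ZMod 3, s ≠ 0 → qf (evv 1 + -smulV k b3) = 1 →
    qf (evv 1 + -smulV k b3 + -smulV s b3) = 1 →
    (evv 1 + -smulV k b3 = evv 1 ∧ evv 1 + -smulV k b3 + -smulV s b3 = evv 2 ∧ s = 1) ∨
    (evv 1 + -smulV k b3 = evv 2 ∧ evv 1 + -smulV k b3 + -smulV s b3 = evv 1 ∧ s = 2) := by decide +kernel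

theorem good_e0u : ∀ k s : ZMod 3, s ≠ 0 → Good2 (evv 0 + smulV k b3) (smulV s b3) := by decide +kernel

theorem b1_shift : ∀ k : ZMod 3, qf (b1 + smulV k b3) = 0 → k = 0 := by decide +kernel

theorem cube_gen : ∀ h : Mod, h * h * h = 1 →
    ∃ i j : Fin 3, h = rep (1, 0) ^ i.val * rep (0, 1) ^ j.val := by decide +kernel

theorem b3_facts : b3 = evv 1 + -evv 2 ∧ b3.2.1 = 0 ∧ -b3 = smulV 2 b3 ∧ b3 = smulV 1 b3 ∧ b3 + b3 = smulV 2 b3 ∧
    evv 0 + -evv 1 + smulV 2 b3 = b1 := by decide +kernel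

theorem comb_indep : ∀ i j k : ZMod 3, smulV i (evv 0) + smulV j (-evv 1) = smulV k b3 → i = 0 ∧ j = 0 := by
  decide +kernel

theorem smul_two : ∀ (k : ZMod 3) (x : V4), smulV (k + k) x = smulV k x + smulV k x ∧
    (smulV (k + k) x = 0 → x = 0 ∨ k = 0) := by decide +kernel

namespace Setting

variable {G : Type*} [Group G] [Finite G] (S : Setting G)

/-- The square of an element of the group of order eight. -/
theorem R_square {r : G} (hr : r ∈ S.R) : r * r = 1 ∨ r * r = S.F.t := by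
  classical
  by_contra hcon
  push Not at hcon
  obtain ⟨h1, h2⟩ := hcon
  have hd : orderOf r ∣ 8 := S.card_R ▸ Subgroup.orderOf_dvd_natCard _ hr
  have h8 : r ^ (8 : ℕ) = 1 := orderOf_dvd_iff_pow_eq_one.1 hd
  obtain ⟨a, ha, b, hb, hab⟩ := S.R_nonab
  set J := zpowers r ⊔ zpowers S.F.t with hJdef
  have hcc : ∀ x ∈ J, ∀ y ∈ J, x * y = y * x := by
    have key : ∀ x ∈ ({r, S.F.t} : Set G), ∀ y ∈ ({r, S.F.t} : Set G), x * y = y * x := by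
      rintro x (rfl | rfl) y (rfl | rfl)
      exacts [rfl, (S.R_comm_t hr).eq, (S.R_comm_t hr).eq.symm, rfl]
    haveI := Subgroup.isMulCommutative_closure key
    have hle : J ≤ Subgroup.closure ({r, S.F.t} : Set G) :=
      sup_le (zpowers_le.2 (Subgroup.subset_closure (Or.inl rfl)))
        (zpowers_le.2 (Subgroup.subset_closure (Or.inr rfl)))
    exact fun x hx y hy => congrArg Subtype.val (mul_comm' (⟨x, hle hx⟩ : Subgroup.closure ({r, S.F.t} : Set G))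
      ⟨y, hle hy⟩)
  have hJle : J ≤ S.R := sup_le (zpowers_le.2 hr) (zpowers_le.2 S.t_mem_R)
  have h4 : 4 ≤ Nat.card (zpowers r) := by
    rw [Nat.card_zpowers]
    have hn2 : ¬ orderOf r ∣ 2 := fun h => h1 (by rw [← pow_two]; exact orderOf_dvd_iff_pow_eq_one.1 h)
    rcases dvd_eight hd with e | e | e | e <;> rw [e] at hn2 ⊢ <;> omega
  have hall : J = S.R := by
    by_cases ht : S.F.t ∈ zpowers r
    · refine eq_of_le_of_card_ge hJle ?_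
      rw [S.card_R]
      refine le_trans ?_ (card_le_of_le (le_sup_left : zpowers r ≤ J))
      rw [Nat.card_zpowers] at h4 ⊢
      rcases dvd_eight hd with e | e | e | e
      · rw [e] at h4; omega
      · rw [e] at h4; omega
      · exfalso
        obtain ⟨n, hn⟩ := (isOfFinOrder_of_finite r).mem_powers_iff_mem_zpowers.2 ht
        change r ^ n = S.F.t at hn
        have hn' : r ^ (n % 4) = S.F.t := by rw [← e, pow_mod_orderOf, hn]
        have ht2 := S.t_sq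
        rcases (show n % 4 = 0 ∨ n % 4 = 1 ∨ n % 4 = 2 ∨ n % 4 = 3 by omega) with q | q | q | q <;> rw [q] at hn'
        · exact S.t_not_one (by rw [← hn', pow_zero])
        · rw [pow_one] at hn'; exact h1 (by rw [hn', ht2])
        · rw [pow_two] at hn'; exact h2 hn'
        · refine h1 ?_
          have h6 : r ^ 3 * r ^ 3 = 1 := by rw [hn', ht2]
          rw [← pow_add, show 3 + 3 = orderOf r + 2 by rw [e], pow_add, pow_orderOf_eq_one, one_mul, pow_two] at h6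
          exact h6
      · rw [e]
    · refine eq_of_le_of_card_ge hJle ?_
      have hlt : Nat.card (zpowers r) < Nat.card J := Set.Finite.card_lt_card (Set.toFinite _)
        (lt_of_le_of_ne (fun x hx => (mem_sup_left hx : x ∈ J)) fun e =>
          ht ((SetLike.coe_injective e).symm ▸ (mem_sup_right (mem_zpowers S.F.t) : S.F.t ∈ J)))
      have hdj := card_dvd_of_le hJle
      rw [S.card_R] at hdj ⊢
      rcases dvd_eight hdj with e | e | e | e <;> omega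
  exact hab (hcc a (hall.symm ▸ ha) b (hall.symm ▸ hb))

/-- The elements commuting with the involution which centralise `u`, or invert it if no transposition is induced. -/
def Gam : Subgroup G where
  carrier := {g | Commute g S.F.t ∧ (g * S.K.p3 * g⁻¹ = S.K.p3 ∨ (S.δ = 1 ∧ g * S.K.p3 * g⁻¹ = S.K.p3⁻¹))}
  one_mem' := ⟨Commute.one_left _, Or.inl (by group)⟩
  mul_mem' := fun {a b} ha hb => ⟨ha.1.mul_left hb.1, by
    have e : a * b * S.K.p3 * (a * b)⁻¹ = a * (b * S.K.p3 * b⁻¹) * a⁻¹ := by group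
    have e' : a * S.K.p3⁻¹ * a⁻¹ = (a * S.K.p3 * a⁻¹)⁻¹ := by group
    rcases hb.2 with hb2 | ⟨hd, hb2⟩ <;> rw [e, hb2]
    · exact ha.2
    · rw [e']
      rcases ha.2 with ha2 | ⟨-, ha2⟩ <;> rw [ha2]
      · exact Or.inr ⟨hd, rfl⟩
      · exact Or.inl (inv_inv _)⟩
  inv_mem' := fun {a} ha => ⟨ha.1.inv_left, by
    rcases ha.2 with h | ⟨hd, h⟩
    · refine Or.inl ?_
      nth_rw 1 [← h]; group
    · refine Or.inr ⟨hd, ?_⟩
      have h' : S.K.p3 = (a * S.K.p3 * a⁻¹)⁻¹ := by rw [h, inv_inv]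
      nth_rw 1 [h']; group⟩

theorem mem_Gam {g : G} : g ∈ S.Gam ↔
    Commute g S.F.t ∧ (g * S.K.p3 * g⁻¹ = S.K.p3 ∨ (S.δ = 1 ∧ g * S.K.p3 * g⁻¹ = S.K.p3⁻¹)) := Iff.rfl

theorem p3_eq : S.K.p3 = S.K.φ b3 := S.K.φ_b3.symm

theorem Gam_of_cent {g : G} (ht : Commute g S.F.t) (hu : Commute g S.K.p3) : g ∈ S.Gam :=
  ⟨ht, Or.inl (mul_inv_eq_iff_eq_mul.2 hu.eq)⟩

theorem E_le_Gam {x : G} (hx : x ∈ S.E) : x ∈ S.Gam :=
  S.Gam_of_cent (S.E_comm_t hx).symm (S.K.comm _ (S.E_le hx) _ S.K.m3)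

theorem Gam_u {g : G} (hg : g ∈ S.Gam) :
    ∃ s : ZMod 3, (s = 1 ∨ (s = 2 ∧ S.δ = 1)) ∧ g * S.K.φ b3 * g⁻¹ = S.K.φ (smulV s b3) := by
  rcases hg.2 with h | ⟨hd, h⟩
  · exact ⟨1, Or.inl rfl, by rw [← S.p3_eq, h, ← b3_facts.2.2.2.1, S.p3_eq]⟩
  · exact ⟨2, Or.inr ⟨rfl, hd⟩, by rw [← S.p3_eq, h, ← b3_facts.2.2.1, S.φ_neg, S.p3_eq]⟩

/-- The subgroup factored out. -/
def ZU : Subgroup S.Gam := (Subgroup.closure ({S.K.p3, S.F.t} : Set G)).subgroupOf S.Gam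

theorem mem_ZUG {x : G} : x ∈ Subgroup.closure ({S.K.p3, S.F.t} : Set G) ↔
    ∃ k : ZMod 3, x = S.K.φ (smulV k b3) ∨ x = S.F.t * S.K.φ (smulV k b3) := by
  constructor
  · have hc : ∀ a : ZMod 3, Commute S.F.t (S.K.φ (smulV a b3)) := fun a => by
      rw [S.K.φ_smul]
      exact (S.commute_t_iff.2 b3_facts.2.1).pow_right _
    intro hx
    induction hx using Subgroup.closure_induction with
    | mem y hy =>
      rcases hy with rfl | rfl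
      · exact ⟨1, Or.inl (by rw [← b3_facts.2.2.2.1, S.p3_eq])⟩
      · exact ⟨0, Or.inr (by rw [(smul_facts 0 0 b3).2.2.1, S.K.φ_zero, mul_one])⟩
    | one => exact ⟨0, Or.inl (by rw [(smul_facts 0 0 b3).2.2.1, S.K.φ_zero])⟩
    | mul a b _ _ ha hb =>
      obtain ⟨a1, ha⟩ := ha
      obtain ⟨c1, hb⟩ := hb
      refine ⟨a1 + c1, ?_⟩
      rw [(smul_facts a1 c1 b3).1, S.K.φ_add]
      rcases ha with rfl | rfl <;> rcases hb with rfl | rfl
      · exact Or.inl rfl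
      · exact Or.inr (by rw [← mul_assoc, ← (hc a1).eq, mul_assoc])
      · exact Or.inr (mul_assoc _ _ _)
      · refine Or.inl ?_
        rw [mul_assoc, ← mul_assoc (S.K.φ _) S.F.t, ← (hc a1).eq, mul_assoc, ← mul_assoc, S.t_sq, one_mul]
    | inv a _ ha =>
      obtain ⟨a1, ha⟩ := ha
      refine ⟨-a1, ?_⟩
      rw [(smul_facts a1 0 b3).2.1, S.φ_neg]
      rcases ha with rfl | rfl
      · exact Or.inl rfl
      · refine Or.inr ?_
        rw [mul_inv_rev, S.F.toPair.toConf.inv_t, (hc a1).inv_right.eq]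
  · rintro ⟨k, rfl | rfl⟩
    · rw [S.K.φ_smul, ← S.p3_eq]
      exact pow_mem (Subgroup.subset_closure (Or.inl rfl) : S.K.p3 ∈ Subgroup.closure {S.K.p3, S.F.t}) _
    · rw [S.K.φ_smul, ← S.p3_eq]
      exact mul_mem (Subgroup.subset_closure (Or.inr rfl))
        (pow_mem (Subgroup.subset_closure (Or.inl rfl) : S.K.p3 ∈ Subgroup.closure {S.K.p3, S.F.t}) _)

instance ZU_normal : S.ZU.Normal := ⟨fun z hz g => by
  rw [ZU, mem_subgroupOf, S.mem_ZUG] at hz ⊢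
  obtain ⟨k, hk⟩ := hz
  obtain ⟨s, -, hs⟩ := S.Gam_u g.2
  have e : ∀ k : ZMod 3, (g : G) * S.K.φ (smulV k b3) * (g : G)⁻¹ = S.K.φ (smulV k (smulV s b3)) := fun k => by
    rw [S.K.φ_smul, S.K.φ_smul k (smulV s b3), pw, pw, ← hs, conj_pow]
  refine ⟨k * s, ?_⟩
  have key : ∀ k s : ZMod 3, smulV k (smulV s b3) = smulV (k * s) b3 := by decide +kernel
  have hk' := key k s
  rcases hk with hk | hk
  · left; rw [Subgroup.coe_mul, Subgroup.coe_mul, Subgroup.coe_inv, hk, e, hk']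
  · right
    rw [Subgroup.coe_mul, Subgroup.coe_mul, Subgroup.coe_inv, hk,
      show (g : G) * (S.F.t * S.K.φ (smulV k b3)) * (g : G)⁻¹ =
        ((g : G) * S.F.t * (g : G)⁻¹) * ((g : G) * S.K.φ (smulV k b3) * (g : G)⁻¹) by group,
      g.2.1.eq, mul_inv_cancel_right, e, hk']⟩

/-- The quotient. -/
abbrev YU : Type _ := S.Gam ⧸ S.ZU

/-- The projection. -/
abbrev πU : S.Gam →* S.YU := QuotientGroup.mk' S.ZU

theorem πU_eq_one {c : S.Gam} : S.πU c = 1 ↔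
    ∃ k : ZMod 3, (c : G) = S.K.φ (smulV k b3) ∨ (c : G) = S.F.t * S.K.φ (smulV k b3) :=
  ((QuotientGroup.eq_one_iff (N := S.ZU) c).trans mem_subgroupOf).trans S.mem_ZUG

theorem πU_t (h : S.F.t ∈ S.Gam) : S.πU ⟨S.F.t, h⟩ = 1 :=
  S.πU_eq_one.2 ⟨0, Or.inr (by rw [(smul_facts 0 0 b3).2.2.1, S.K.φ_zero, mul_one])⟩

theorem t_cube {y : G} (hy : y ∈ S.K.A) (hc : Commute S.F.t y) {x : G} (hx : x ^ 3 = 1) : x ≠ S.F.t * y := by
  intro h
  rw [h, hc.mul_pow, S.K.exp _ hy, mul_one, pow_succ, pow_two, S.t_sq, one_mul] at hx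
  exact S.t_not_one hx

/-- The image of a torus element fixed modulo the factor. -/
theorem mod_image {g : S.Gam} {x : V4} (hx : x.2.1 = 0) (hgx : Commute (S.πU g)
    (S.πU ⟨S.K.φ x, S.E_le_Gam (S.φ_mem_E hx)⟩)) :
    ∃ k : ZMod 3, (g : G) * S.K.φ x * (g : G)⁻¹ = S.K.φ (x + smulV k b3) := by
  have h1 : S.πU (g * ⟨S.K.φ x, S.E_le_Gam (S.φ_mem_E hx)⟩ * g⁻¹ * ⟨S.K.φ x, S.E_le_Gam (S.φ_mem_E hx)⟩⁻¹) = 1 := by
    rw [map_mul, map_mul, map_mul, map_inv, map_inv, hgx.eq]; group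
  obtain ⟨k, hk⟩ := S.πU_eq_one.1 h1
  simp only [Subgroup.coe_mul, Subgroup.coe_inv, mul_inv_eq_iff_eq_mul] at hk
  refine ⟨k, ?_⟩
  rcases hk with hk | hk
  · rw [add_comm, S.K.φ_add]; exact mul_inv_eq_iff_eq_mul.2 hk
  · refine absurd ?_ (S.t_cube (S.K.φ_mem (smulV k b3 + x)) (S.commute_t_iff.2 (by
      revert k; intro k _
      have key : ∀ (k : ZMod 3) (x : V4), x.2.1 = 0 → (smulV k b3 + x).2.1 = 0 := by decide +kernel
      exact key k x hx)) (x := (g : G) * S.K.φ x * (g : G)⁻¹) (by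
        rw [conj_pow, S.K.exp _ (S.K.φ_mem _), mul_one, mul_inv_cancel]))
    rw [S.K.φ_add, ← mul_assoc]
    exact mul_inv_eq_iff_eq_mul.2 hk

/-- An element of the group fixing `e₁` modulo `u` centralises both coordinates of the pair. -/
theorem pair_fix {g : G} (hg : g ∈ S.Gam) {k : ZMod 3}
    (h : g * S.K.φ (-evv 1) * g⁻¹ = S.K.φ (-evv 1 + smulV k b3)) : Commute g (S.e 1) ∧ Commute g (S.e 2) := by
  obtain ⟨s, hs, hu⟩ := S.Gam_u hg
  have h1 : g * S.K.φ (evv 1) * g⁻¹ = S.K.φ (evv 1 + -smulV k b3) := by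
    have h' := congrArg (fun x => x⁻¹) h
    simp only [← S.φ_neg, neg_add_rev, neg_neg] at h'
    rw [show (g * S.K.φ (-evv 1) * g⁻¹)⁻¹ = g * (S.K.φ (-evv 1))⁻¹ * g⁻¹ by group, ← S.φ_neg, neg_neg] at h'
    rw [h', add_comm]
  have h2 : g * S.K.φ (evv 2) * g⁻¹ = S.K.φ (evv 1 + -smulV k b3 + -smulV s b3) := by
    rw [show evv 2 = evv 1 + -b3 by decide +kernel, S.K.φ_add, S.φ_neg,
      show g * (S.K.φ (evv 1) * (S.K.φ b3)⁻¹) * g⁻¹ = (g * S.K.φ (evv 1) * g⁻¹) * (g * S.K.φ b3 * g⁻¹)⁻¹ by group,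
      h1, hu, ← S.φ_neg, ← S.K.φ_add]
  have hs0 : s ≠ 0 := by rcases hs with rfl | ⟨rfl, -⟩ <;> decide
  rcases shift_cases k s hs0 ((S.qf_fusion h1).trans (evv_norm 1).1) ((S.qf_fusion h2).trans (evv_norm 2).1)
    with ⟨a, b, -⟩ | ⟨a, b, rfl⟩
  · rw [a] at h1; rw [b] at h2
    exact ⟨mul_inv_eq_iff_eq_mul.1 h1, mul_inv_eq_iff_eq_mul.1 h2⟩
  exfalso
  have hδ : S.δ = 1 := (hs.resolve_left (by decide)).2
  rw [a] at h1; rw [b] at h2
  have hN : g ∈ S.N := S.mem_N_of_cent (T := {S.K.φ (evv 1), S.K.φ (evv 2)})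
    (by rintro _ (rfl | rfl) <;> exact S.K.φ_mem _) fun c hc =>
      S.cent_two_one hδ (show Commute c (S.K.φ (evv 1)) by rw [← h2]; exact hc _ (Or.inr rfl))
        (show Commute c (S.K.φ (evv 2)) by rw [← h1]; exact hc _ (Or.inl rfl))
  obtain ⟨M, hM⟩ := S.acts_N hN
  obtain ⟨⟨σ, hσ⟩, hw⟩ := S.monoM hM hg.1
  have m1 : app M (evv 1) = evv 2 := S.K.φ_inj ((hM _).symm.trans h1)
  have m2 : app M (evv 2) = evv 1 := S.K.φ_inj ((hM _).symm.trans h2)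
  have s1 : σ 1 = 2 := (evv_distinct 2 (σ 1) (m1 ▸ hσ 1)).symm
  have s2 : σ 2 = 1 := (evv_distinct 1 (σ 2) (m2 ▸ hσ 2)).symm
  have s0 : σ 0 = 0 := by
    have key : ∀ σ : Equiv.Perm (Fin 3), σ 1 = 2 → σ 2 = 1 → σ 0 = 0 := by decide +kernel
    exact key σ s1 s2
  have h0 := hσ 0
  rw [s0] at h0
  rcases h0 with h0 | h0
  · exact S.no_swap hδ hM hw h0 (Or.inl m1) (Or.inl m2)
  · obtain ⟨f, hf⟩ := S.lift_word (flipW 0)
    have hf0 : app (evW (flipW 0)) (-evv 0) = evv 0 ∧ app (evW (flipW 0)) (evv 1) = evv 1 ∧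
        app (evW (flipW 0)) (evv 2) = evv 2 ∧ app (evW (flipW 0)) b2 = b2 ∧
        app (evW (flipW 0)) (-b2) = -b2 := by decide +kernel
    refine S.no_swap hδ (hf.mul hM) ?_ (by rw [app_mulM, h0]; exact hf0.1)
      (Or.inl (by rw [app_mulM, m1]; exact hf0.2.2.1)) (Or.inl (by rw [app_mulM, m2]; exact hf0.2.1))
    rcases hw with h | h
    · exact Or.inl (by rw [app_mulM, h]; exact hf0.2.2.2.1)
    · exact Or.inr (by rw [app_mulM, h]; exact hf0.2.2.2.2)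

/-- An involutive map of the normaliser commuting with the involution is induced by such an involution. -/
theorem lift_invol {M : M4} {n : G} (hn : S.K.Acts n M) (ht : Commute n S.F.t) (hM : mulM M M = oneM) :
    ∃ m, S.K.Acts m M ∧ Commute m S.F.t ∧ m * m = 1 := by
  have hnn := hn.mul hn
  rw [hM] at hnn
  have h2 : n * n ∈ S.K.A := S.cent_A fun a ha => S.K.commute_of_acts_one hnn ha
  refine ⟨n * n * n, ?_, (ht.mul_left ht).mul_left ht, ?_⟩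
  · intro v
    rw [show n * n * n * S.K.φ v * (n * n * n)⁻¹ = (n * n) * (n * S.K.φ v * n⁻¹) * (n * n)⁻¹ by group, hn,
      (S.K.comm _ h2 _ (S.K.φ_mem _)), mul_inv_cancel_right]
  · have h3 := S.K.exp _ h2
    rw [show n * n * n * (n * n * n) = (n * n) ^ 3 by rw [pow_succ, pow_two]; group, h3]

theorem nf_maps : (mulM (mulM (evW (flipW 1)) (evW (flipW 2))) (mulM (evW (flipW 1)) (evW (flipW 2))) = oneM ∧
      mulM MT (mulM (evW (flipW 1)) (evW (flipW 2))) = mulM (mulM (evW (flipW 1)) (evW (flipW 2))) MT) ∧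
    (app (mulM (evW (flipW 1)) (evW (flipW 2))) (evv 0) = evv 0 ∧
      app (mulM (evW (flipW 1)) (evW (flipW 2))) (evv 1) = -evv 1 ∧
      app (mulM (evW (flipW 1)) (evW (flipW 2))) (evv 2) = -evv 2 ∧
      app (mulM (evW (flipW 1)) (evW (flipW 2))) b3 = -b3) ∧
    (app MS (evv 0) = evv 0 ∧ app MS (-evv 1) = -evv 2 ∧ app MS (-evv 2) = -evv 1 ∧ app MS (-b3) = b3 ∧
      mulM MT MS = mulM MS MT) ∧
    (mulM (mulM MS (mulM (evW (flipW 1)) (evW (flipW 2)))) (mulM MS (mulM (evW (flipW 1)) (evW (flipW 2)))) = oneM ∧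
      mulM MT (mulM MS (mulM (evW (flipW 1)) (evW (flipW 2)))) =
        mulM (mulM MS (mulM (evW (flipW 1)) (evW (flipW 2)))) MT) := by decide +kernel

/-- The element inverting the second coordinate modulo `u`. -/
theorem exists_nf : ∃ n, n ∈ S.Gam ∧ n * n = 1 ∧ n * S.e 0 * n⁻¹ = S.e 0 ∧
    (n * S.e 1 * n⁻¹ = (S.e 1)⁻¹ ∧ n * S.e 2 * n⁻¹ = (S.e 2)⁻¹ ∨
      n * S.e 1 * n⁻¹ = (S.e 2)⁻¹ ∧ n * S.e 2 * n⁻¹ = (S.e 1)⁻¹) := by
  obtain ⟨⟨hsq, hc⟩, ⟨k0, k1, k2, k3⟩, ⟨s0, s1, s2, s3, sc⟩, hsq', hc'⟩ := nf_maps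
  obtain ⟨a, ha⟩ := S.lift_word (flipW 1)
  obtain ⟨b, hb⟩ := S.lift_word (flipW 2)
  obtain ⟨n, hn, hnt⟩ := S.lift_t (ha.mul hb) hc
  rcases S.δ_cases with hδ | hδ
  · obtain ⟨m, hm, hmt, hm2⟩ := S.lift_invol hn hnt hsq
    refine ⟨m, S.mem_Gam.2 ⟨hmt, Or.inr ⟨hδ, ?_⟩⟩, hm2, ?_, Or.inl ⟨?_, ?_⟩⟩
    · rw [S.p3_eq, hm, k3, S.φ_neg]
    · rw [e, hm, k0]
    · rw [e, hm, k1, S.φ_neg]
    · rw [e, hm, k2, S.φ_neg]
  · obtain ⟨s, hs, hst⟩ := S.lift_swap hδ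
    obtain ⟨m, hm, hmt, hm2⟩ := S.lift_invol (hs.mul hn) (hst.mul_left hnt) hsq'
    refine ⟨m, S.mem_Gam.2 ⟨hmt, Or.inl ?_⟩, hm2, ?_, Or.inr ⟨?_, ?_⟩⟩
    · rw [S.p3_eq, hm, app_mulM, k3, s3]
    · rw [e, hm, app_mulM, k0, s0]
    · rw [e, e, hm, app_mulM, k1, s1, S.φ_neg]
    · rw [e, e, hm, app_mulM, k2, s2, S.φ_neg]

/-- The element inverting the first coordinate. -/
theorem exists_f0 : ∃ f, f ∈ S.Gam ∧ f * f = 1 ∧ f * S.e 0 * f⁻¹ = (S.e 0)⁻¹ ∧ Commute f (S.e 1) ∧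
    Commute f (S.e 2) := by
  obtain ⟨hsq, hfix, h0, h1, h2⟩ : mulM (evW (flipW 0)) (evW (flipW 0)) = oneM ∧
      app (evW (flipW 0)) b3 = b3 ∧ app (evW (flipW 0)) (evv 0) = -evv 0 ∧
      app (evW (flipW 0)) (evv 1) = evv 1 ∧ app (evW (flipW 0)) (evv 2) = evv 2 := by decide +kernel
  obtain ⟨n, hn, hnt⟩ := S.lift_word_t (flipW_spec 0).1
  obtain ⟨m, hm, hmt, hm2⟩ := S.lift_invol hn hnt hsq
  refine ⟨m, S.mem_Gam.2 ⟨hmt, Or.inl (by rw [S.p3_eq, hm, hfix])⟩, hm2, ?_, ?_, ?_⟩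
  · rw [e, hm, h0, S.φ_neg]
  · exact mul_inv_eq_iff_eq_mul.1 (by rw [e, hm, h1])
  · exact mul_inv_eq_iff_eq_mul.1 (by rw [e, hm, h2])

/-- The vectors of the model. -/
theorem exists_model_u : ∃ ι : Mod →* S.YU, Function.Injective ι ∧
    ι (rep (1, 0)) = S.πU ⟨S.K.φ (evv 0), S.E_le_Gam (S.φ_mem_E (evv_norm 0).2)⟩ ∧
    ι (rep (0, 1)) = S.πU ⟨S.K.φ (-evv 1), S.E_le_Gam (S.φ_mem_E (by decide))⟩ ∧
    (∀ h : Mod, h * h * h = 1 → ∃ x, ∃ hx : x ∈ S.E, ι h = S.πU ⟨x, S.E_le_Gam hx⟩) ∧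
    (∀ x, ∀ hx : x ∈ S.E, ∃ h : Mod, h * h * h = 1 ∧ ι h = S.πU ⟨x, S.E_le_Gam hx⟩) ∧
    ∀ g : S.Gam, ((g : G) ∈ S.N ↔ S.πU g ∈ ι.range) := by
  classical
  obtain ⟨f, hf, hf2, hf0, hf1, hf2e⟩ := S.exists_f0
  obtain ⟨n, hn, hn2, hn0, hn12⟩ := S.exists_nf
  set a := S.πU ⟨S.K.φ (evv 0), S.E_le_Gam (S.φ_mem_E (evv_norm 0).2)⟩ with ha
  set b := S.πU ⟨S.K.φ (-evv 1), S.E_le_Gam (S.φ_mem_E (by decide))⟩ with hb
  set x := S.πU ⟨f, hf⟩ with hx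
  set y := S.πU ⟨n, hn⟩ with hy
  have hπE : ∀ v : V4, ∀ hv : v.2.1 = 0, ∀ c : S.Gam, ∀ w : V4, ∀ hw : w.2.1 = 0,
      (∃ k, (c : G) * S.K.φ v * (c : G)⁻¹ = S.K.φ (w + smulV k b3)) →
      S.πU c * S.πU ⟨S.K.φ v, S.E_le_Gam (S.φ_mem_E hv)⟩ * (S.πU c)⁻¹ =
        S.πU ⟨S.K.φ w, S.E_le_Gam (S.φ_mem_E hw)⟩ := by
    rintro v hv c w hw ⟨k, hk⟩
    rw [← map_inv, ← map_mul, ← map_mul, ← mul_inv_eq_one, ← map_inv, ← map_mul, S.πU_eq_one]
    refine ⟨k, Or.inl ?_⟩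
    simp only [Subgroup.coe_mul, Subgroup.coe_inv, hk]
    rw [add_comm, S.K.φ_add, mul_inv_cancel_right]
  have hneg1 : (-evv 1 : V4).2.1 = 0 ∧ (-evv 0 : V4).2.1 = 0 ∧ (evv 1).2.1 = 0 := by decide +kernel
  have z0 : ∀ w : V4, S.K.φ (w + smulV 0 b3) = S.K.φ w := fun w => by rw [(smul_facts 0 0 b3).2.2.1, add_zero]
  have φinv : ∀ v hv hv', (S.πU ⟨S.K.φ v, S.E_le_Gam (S.φ_mem_E hv)⟩)⁻¹ =
      S.πU ⟨S.K.φ (-v), S.E_le_Gam (S.φ_mem_E hv')⟩ := fun v hv hv' => by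
    rw [← map_inv]; exact congrArg S.πU (Subtype.ext (S.φ_neg v).symm)
  have hcub : ∀ (v : V4) (hv : v.2.1 = 0), S.πU ⟨S.K.φ v, S.E_le_Gam (S.φ_mem_E hv)⟩ ^ 3 = 1 := fun v hv => by
    rw [← map_pow]
    exact S.πU_eq_one.2 ⟨0, Or.inl (by rw [(smul_facts 0 0 b3).2.2.1, S.K.φ_zero, SubgroupClass.coe_pow]; exact S.K.exp _ (S.K.φ_mem v))⟩
  have ha3 : a ^ 3 = 1 := hcub _ (evv_norm 0).2
  have hb3 : b ^ 3 = 1 := hcub _ hneg1.1
  have hx2 : x * x = 1 := by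
    rw [hx, ← map_mul]; exact (congrArg S.πU (Subtype.ext hf2 : _ = (1 : S.Gam))).trans (map_one _)
  have hy2 : y * y = 1 := by
    rw [hy, ← map_mul]; exact (congrArg S.πU (Subtype.ext hn2 : _ = (1 : S.Gam))).trans (map_one _)
  have hxa : x * a * x⁻¹ = a⁻¹ := by
    rw [ha, φinv _ (evv_norm 0).2 hneg1.2.1]
    refine hπE _ (evv_norm 0).2 ⟨f, hf⟩ _ hneg1.2.1 ⟨0, ?_⟩
    rw [z0, S.φ_neg]; exact hf0
  have hxb : Commute x b := by
    refine mul_inv_eq_iff_eq_mul.1 (hπE _ hneg1.1 ⟨f, hf⟩ _ hneg1.1 ⟨0, ?_⟩)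
    rw [z0, S.φ_neg]
    exact mul_inv_eq_iff_eq_mul.2 hf1.inv_right.eq
  have hya : Commute y a := by
    refine mul_inv_eq_iff_eq_mul.1 (hπE _ (evv_norm 0).2 ⟨n, hn⟩ _ (evv_norm 0).2 ⟨0, ?_⟩)
    rw [z0]; exact hn0
  have hyb : y * b * y⁻¹ = b⁻¹ := by
    have hneg : (-(-evv 1) : V4).2.1 = 0 := by decide
    rw [hb, φinv _ hneg1.1 hneg]
    rcases hn12 with ⟨h1, -⟩ | ⟨h1, -⟩
    · refine hπE _ hneg1.1 ⟨n, hn⟩ _ hneg ⟨0, ?_⟩
      rw [z0, neg_neg, S.φ_neg, show n * (S.K.φ (evv 1))⁻¹ * n⁻¹ = (n * S.e 1 * n⁻¹)⁻¹ by rw [e]; group, h1,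
        inv_inv]
      rfl
    · refine hπE _ hneg1.1 ⟨n, hn⟩ _ hneg ⟨2, ?_⟩
      rw [neg_neg, S.φ_neg, show n * (S.K.φ (evv 1))⁻¹ * n⁻¹ = (n * S.e 1 * n⁻¹)⁻¹ by rw [e]; group, h1, inv_inv]
      exact congrArg S.K.φ (by decide +kernel)
  have hab : Commute a b := by
    show a * b = b * a
    rw [ha, hb, ← map_mul, ← map_mul]
    exact congrArg S.πU (Subtype.ext (S.K.comm _ (S.K.φ_mem _) _ (S.K.φ_mem _)))
  have hinE : ∀ v : V4, ∀ hv : v.2.1 = 0, ∀ i j : ℕ, (v = smulV (i : ZMod 3) (evv 0) + smulV (j : ZMod 3) (-evv 1)) →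
      S.πU ⟨S.K.φ v, S.E_le_Gam (S.φ_mem_E hv)⟩ = a ^ i * b ^ j := by
    intro v hv i j hvij
    rw [ha, hb, ← map_pow, ← map_pow, ← map_mul]
    refine congrArg S.πU (Subtype.ext ?_)
    show S.K.φ v = S.K.φ (evv 0) ^ i * S.K.φ (-evv 1) ^ j
    have hp : ∀ (w : V4) (m : ℕ), S.K.φ (smulV (m : ZMod 3) w) = S.K.φ w ^ m := fun w m => by
      rw [S.K.φ_smul, pw, ZMod.val_natCast]
      exact (pow_eq_pow_mod m (S.K.exp _ (S.K.φ_mem w))).symm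
    rw [hvij, S.K.φ_add, hp, hp]
  have hindep : ∀ i j : Fin 3, a ^ i.val * b ^ j.val = 1 → i = 0 ∧ j = 0 := by
    intro i j h
    have hv : (smulV (i.val : ZMod 3) (evv 0) + smulV (j.val : ZMod 3) (-evv 1)).2.1 = 0 := by
      revert i j; intro i j _
      have key : ∀ i j : ZMod 3, (smulV i (evv 0) + smulV j (-evv 1)).2.1 = 0 := by decide +kernel
      exact key _ _
    rw [← hinE _ hv i.val j.val rfl] at h
    obtain ⟨k, hk | hk⟩ := S.πU_eq_one.1 h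
    · obtain ⟨p, q⟩ := comb_indep _ _ k (S.K.φ_inj hk)
      have key : ∀ i : Fin 3, ((i.val : ℕ) : ZMod 3) = 0 → i = 0 := by decide +kernel
      exact ⟨key _ p, key _ q⟩
    · exact absurd hk (S.t_cube (S.K.φ_mem _) (S.commute_t_iff.2 ((by decide +kernel : ∀ k : ZMod 3, (smulV k b3).2.1 = 0) k))
        (S.K.exp _ (S.K.φ_mem _)))
  have hTd : ∀ c : S.Gam, (∀ i, Commute (c : G) (S.e i)) → ∃ i j : Fin 3, S.πU c = a ^ i.val * b ^ j.val := by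
    intro c hc
    obtain ⟨w, hw, hcw⟩ : ∃ w, ∃ hw : w ∈ S.E, S.πU c = S.πU ⟨w, S.E_le_Gam hw⟩ := by
      rcases S.cent_E hc c.2.1 with h | h
      · exact ⟨c, h, rfl⟩
      · refine ⟨_, h, ?_⟩
        have e : (⟨S.F.t * c, S.E_le_Gam h⟩ : S.Gam) =
            ⟨S.F.t, S.Gam_of_cent (Commute.refl _) (mul_inv_eq_iff_eq_mul.1 S.p3_mem.2)⟩ * c := rfl
        rw [e, map_mul, S.πU_t, one_mul]
    obtain ⟨v, rfl⟩ := S.K.φ_surj (S.E_le hw)
    have hv : v.2.1 = 0 := S.commute_t_iff.1 (S.E_comm_t hw)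
    obtain ⟨p, q, r, hpqr⟩ := evv_span v hv
    have key : ∀ p q r : ZMod 3, smulV p (evv 0) + smulV q (evv 1) + smulV r (evv 2) + smulV r b3 =
        smulV p (evv 0) + smulV (-(q + r)) (-evv 1) := by decide +kernel
    refine ⟨⟨p.val, ZMod.val_lt p⟩, ⟨(-(q + r)).val, ZMod.val_lt _⟩, ?_⟩
    have hv' : (smulV p (evv 0) + smulV (-(q + r)) (-evv 1)).2.1 = 0 := by
      have key2 : ∀ p q : ZMod 3, (smulV p (evv 0) + smulV q (-evv 1)).2.1 = 0 := by decide +kernel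
      exact key2 _ _
    rw [hcw, ← hinE _ hv' _ _ (by rw [ZMod.natCast_val, ZMod.natCast_val, ZMod.cast_id, ZMod.cast_id])]
    rw [← mul_inv_eq_one, ← map_inv, ← map_mul, S.πU_eq_one]
    refine ⟨-r, Or.inl ?_⟩
    show S.K.φ v * (S.K.φ (smulV p (evv 0) + smulV (-(q + r)) (-evv 1)))⁻¹ = _
    rw [← key, hpqr, ← S.φ_neg, ← S.K.φ_add, (smul_facts r 0 b3).2.1]
    congr 1
    abel
  -- the two reflections commute
  have hxy : Commute x y := by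
    set c : S.Gam := ⟨f, hf⟩ * ⟨n, hn⟩ * ⟨f, hf⟩⁻¹ * ⟨n, hn⟩⁻¹ with hcdef
    obtain ⟨i, j, hij⟩ := hTd c (fun k => mul_inv_eq_iff_eq_mul.1 (by
      have i0 : f * (S.e 0)⁻¹ * f⁻¹ = S.e 0 := by
        rw [show f * (S.e 0)⁻¹ * f⁻¹ = (f * S.e 0 * f⁻¹)⁻¹ by group, hf0, inv_inv]
      have iv : ∀ {g : G} {p q : G}, g * p * g⁻¹ = q → g⁻¹ * q * g = p := fun {g p q} h => by rw [← h]; group
      show f * n * f⁻¹ * n⁻¹ * S.e k * (f * n * f⁻¹ * n⁻¹)⁻¹ = S.e k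
      rw [show f * n * f⁻¹ * n⁻¹ * S.e k * (f * n * f⁻¹ * n⁻¹)⁻¹ =
        f * (n * (f⁻¹ * (n⁻¹ * S.e k * n) * f) * n⁻¹) * f⁻¹ by group]
      have nneg : ∀ p : G, n * p⁻¹ * n⁻¹ = (n * p * n⁻¹)⁻¹ := fun p => by group
      have f1i : f * S.e 1 * f⁻¹ = S.e 1 := mul_inv_eq_iff_eq_mul.2 hf1.eq
      have f2i : f * S.e 2 * f⁻¹ = S.e 2 := mul_inv_eq_iff_eq_mul.2 hf2e.eq
      have fneg : ∀ p : G, f⁻¹ * p⁻¹ * f = (f⁻¹ * p * f)⁻¹ := fun p => by group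
      fin_cases k
      · show f * (n * (f⁻¹ * (n⁻¹ * S.e 0 * n) * f) * n⁻¹) * f⁻¹ = S.e 0
        rw [iv hn0, iv i0, nneg, hn0, i0]
      · show f * (n * (f⁻¹ * (n⁻¹ * S.e 1 * n) * f) * n⁻¹) * f⁻¹ = S.e 1
        rcases hn12 with ⟨h1, -⟩ | ⟨-, h2⟩
        · rw [iv (show n * (S.e 1)⁻¹ * n⁻¹ = S.e 1 by rw [nneg, h1, inv_inv]), fneg, iv f1i, nneg, h1, inv_inv, f1i]
        · rw [iv (show n * (S.e 2)⁻¹ * n⁻¹ = S.e 1 by rw [nneg, h2, inv_inv]), fneg, iv f2i, nneg, h2, inv_inv, f1i]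
      · show f * (n * (f⁻¹ * (n⁻¹ * S.e 2 * n) * f) * n⁻¹) * f⁻¹ = S.e 2
        rcases hn12 with ⟨-, h2⟩ | ⟨h1, -⟩
        · rw [iv (show n * (S.e 2)⁻¹ * n⁻¹ = S.e 2 by rw [nneg, h2, inv_inv]), fneg, iv f2i, nneg, h2, inv_inv, f2i]
        · rw [iv (show n * (S.e 1)⁻¹ * n⁻¹ = S.e 2 by rw [nneg, h1, inv_inv]), fneg, iv f1i, nneg, h1, inv_inv, f2i]))
    have hd : x * y * x⁻¹ * y⁻¹ = a ^ i.val * b ^ j.val := by
      rw [← hij, hcdef, map_mul, map_mul, map_mul, map_inv, map_inv]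
    have xi : x⁻¹ = x := inv_eq_of_mul_eq_one_right hx2
    have yi : y⁻¹ = y := inv_eq_of_mul_eq_one_right hy2
    have e1 : x * (x * y * x⁻¹ * y⁻¹) * x⁻¹ = (x * y * x⁻¹ * y⁻¹)⁻¹ := by
      calc x * (x * y * x⁻¹ * y⁻¹) * x⁻¹ = x * x * y * x⁻¹ * y⁻¹ * x⁻¹ := by group
        _ = y * x * y * x := by rw [hx2, one_mul, xi, yi]
        _ = (x * y * x⁻¹ * y⁻¹)⁻¹ := by
          simp only [mul_inv_rev, inv_inv]
          rw [xi, yi]
          group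
    have e2 : y * (x * y * x⁻¹ * y⁻¹) * y⁻¹ = (x * y * x⁻¹ * y⁻¹)⁻¹ := by
      calc y * (x * y * x⁻¹ * y⁻¹) * y⁻¹ = y * x * y * x⁻¹ * (y * y)⁻¹ := by group
        _ = y * x * y * x := by rw [hy2, inv_one, mul_one, xi]
        _ = (x * y * x⁻¹ * y⁻¹)⁻¹ := by
          simp only [mul_inv_rev, inv_inv]
          rw [xi, yi]
          group
    rw [hd] at e1 e2
    have key : ∀ (p : S.YU), p ^ 3 = 1 → p * p = 1 → p = 1 := fun p h3 h2 => by
      rw [pow_succ, pow_two, h2, one_mul] at h3; exact h3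
    have hj : b ^ j.val = 1 := by
      rw [show x * (a ^ i.val * b ^ j.val) * x⁻¹ = (x * a ^ i.val * x⁻¹) * (x * b ^ j.val * x⁻¹) by group,
        ← conj_pow, hxa, (hxb.pow_right _).eq, mul_inv_cancel_right, mul_inv_rev, inv_pow,
        ((hab.pow_pow i.val j.val).inv_inv).symm.eq] at e1
      refine key _ (by rw [← pow_mul, mul_comm, pow_mul, hb3, one_pow]) ?_
      have := mul_left_cancel e1
      calc b ^ j.val * b ^ j.val = (b ^ j.val)⁻¹ * b ^ j.val := by rw [← this]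
        _ = 1 := inv_mul_cancel _
    have hi : a ^ i.val = 1 := by
      rw [hj, mul_one, ← conj_pow, show y * a * y⁻¹ = a from mul_inv_eq_iff_eq_mul.2 hya.eq] at e2
      refine key _ (by rw [← pow_mul, mul_comm, pow_mul, ha3, one_pow]) ?_
      calc a ^ i.val * a ^ i.val = (a ^ i.val)⁻¹ * a ^ i.val := by rw [← e2]
        _ = 1 := inv_mul_cancel _
    rw [hi, hj, one_mul, mul_inv_eq_one, mul_inv_eq_iff_eq_mul] at hd
    exact hd
  -- the homomorphism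
  set φa := TwoLift.dHom 3 ha3 hx2 hxa with hφa
  set φb := TwoLift.dHom 3 hb3 hy2 hyb with hφb
  have hcom : ∀ p q, Commute (φa p) (φb q) := by
    intro p q
    have hp : φa p ∈ Subgroup.closure ({a, x} : Set S.YU) := TwoLift.dHom_range ha3 hx2 hxa ▸ ⟨p, rfl⟩
    have hq : φb q ∈ Subgroup.closure ({b, y} : Set S.YU) := TwoLift.dHom_range hb3 hy2 hyb ▸ ⟨q, rfl⟩
    have h1 : Subgroup.closure ({a, x} : Set S.YU) ≤ centralizer ({b, y} : Set S.YU) := by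
      rw [Subgroup.closure_le]
      rintro z (rfl | rfl) <;> rw [SetLike.mem_coe, mem_centralizer_iff] <;> rintro w (rfl | rfl)
      exacts [hab.eq.symm, hya.eq, hxb.eq.symm, hxy.eq.symm]
    have h2 := h1 hp
    rw [← centralizer_closure, mem_centralizer_iff] at h2
    exact (h2 _ hq).symm
  set ι : Mod →* S.YU := MonoidHom.noncommCoprod φa φb hcom with hι
  have hr : ∀ {g r : S.YU} (hg : r ^ 3 = 1) (h2 : g * g = 1) (h : g * r * g⁻¹ = r⁻¹),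
      TwoLift.dHom 3 hg h2 h (.r 1) = r ∧ TwoLift.dHom 3 hg h2 h (.sr 0) = g := by
    intro g r hg h2 h
    refine ⟨?_, ?_⟩
    · show Additive.toMul (TwoLift.pw 3 hg 1) = r
      have := TwoLift.pw_intCast 3 hg 1
      rwa [Int.cast_one, zpow_one] at this
    · show g * Additive.toMul (TwoLift.pw 3 hg 0) = g
      simp
  have v10 : ι (rep (1, 0)) = a := by
    rw [hι, MonoidHom.noncommCoprod_apply]
    show φa (.r 1) * φb 1 = a
    rw [map_one, mul_one, (hr ha3 hx2 hxa).1]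
  have v01 : ι (rep (0, 1)) = b := by
    rw [hι, MonoidHom.noncommCoprod_apply]
    show φa 1 * φb (.r 1) = b
    rw [map_one, one_mul, (hr hb3 hy2 hyb).1]
  have v20 : ι (rep (2, 0)) = x := by
    rw [hι, MonoidHom.noncommCoprod_apply]
    show φa (.sr 0) * φb 1 = x
    rw [map_one, mul_one, (hr ha3 hx2 hxa).2]
  have v02 : ι (rep (0, 2)) = y := by
    rw [hι, MonoidHom.noncommCoprod_apply]
    show φa 1 * φb (.sr 0) = y
    rw [map_one, one_mul, (hr hb3 hy2 hyb).2]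
  have hcube : ∀ h : Mod, h * h * h = 1 → ι h = 1 → h = 1 := by
    intro h hh h1
    obtain ⟨i, j, rfl⟩ := cube_gen h hh
    rw [map_mul, map_pow, map_pow, v10, v01] at h1
    obtain ⟨rfl, rfl⟩ := hindep i j h1
    simp
  have hinj : Function.Injective ι := (injective_iff_map_eq_one _).2 fun h h1 => hcube h
    (cube_self h fun t ht => hcube _ (cube_conj h t ht).2 (by
      simp only [map_mul, map_inv, h1]; group)) h1
  have hEim : ∀ p q : Fin 3, (smulV (p.val : ZMod 3) (evv 0) + smulV (q.val : ZMod 3) (-evv 1)).2.1 = 0 := by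
    decide +kernel
  have himg : ∀ w, ∀ hw : w ∈ S.E, ∃ h : Mod, h * h * h = 1 ∧ ι h = S.πU ⟨w, S.E_le_Gam hw⟩ := fun w hw => by
    obtain ⟨i, j, hij⟩ := hTd ⟨w, S.E_le_Gam hw⟩ fun k =>
      S.K.comm _ (S.E_le hw) _ (S.K.φ_mem _)
    refine ⟨rep (1, 0) ^ i.val * rep (0, 1) ^ j.val, ?_, by rw [map_mul, map_pow, map_pow, v10, v01, hij]⟩
    have key : ∀ i j : Fin 3, rep (1, 0) ^ i.val * rep (0, 1) ^ j.val * (rep (1, 0) ^ i.val * rep (0, 1) ^ j.val) *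
        (rep (1, 0) ^ i.val * rep (0, 1) ^ j.val) = 1 := by decide +kernel
    exact key i j
  refine ⟨ι, hinj, v10, v01, fun h hh => ?_, himg, fun g => ⟨fun hgN => ?_, fun hg => ?_⟩⟩
  · obtain ⟨i, j, rfl⟩ := cube_gen h hh
    exact ⟨_, S.φ_mem_E (hEim i j), by
      rw [map_mul, map_pow, map_pow, v10, v01]; exact (hinE _ (hEim i j) i.val j.val rfl).symm⟩
  swap
  · -- the image lies in the normaliser
    set M := (S.N.subgroupOf S.Gam).map S.πU with hMdef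
    have memM : ∀ (c : S.Gam), (c : G) ∈ S.N → S.πU c ∈ M := fun c hc => ⟨c, mem_subgroupOf.2 hc, rfl⟩
    have hmE : ∀ i, S.e i ∈ S.E := fun i => Subgroup.subset_closure ⟨i, rfl⟩
    have hfN : f ∈ S.N := S.norm_E hf.1 fun i => by
      fin_cases i
      · show f * S.e 0 * f⁻¹ ∈ S.E
        rw [hf0]; exact inv_mem (hmE 0)
      · show f * S.e 1 * f⁻¹ ∈ S.E
        rw [hf1.eq, mul_inv_cancel_right]; exact hmE 1
      · show f * S.e 2 * f⁻¹ ∈ S.E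
        rw [hf2e.eq, mul_inv_cancel_right]; exact hmE 2
    have hnN : n ∈ S.N := S.norm_E hn.1 fun i => by
      fin_cases i
      · show n * S.e 0 * n⁻¹ ∈ S.E
        rw [hn0]; exact hmE 0
      · show n * S.e 1 * n⁻¹ ∈ S.E
        rcases hn12 with ⟨h1, -⟩ | ⟨h1, -⟩ <;> rw [h1]
        exacts [inv_mem (hmE 1), inv_mem (hmE 2)]
      · show n * S.e 2 * n⁻¹ ∈ S.E
        rcases hn12 with ⟨-, h2⟩ | ⟨-, h2⟩ <;> rw [h2]
        exacts [inv_mem (hmE 2), inv_mem (hmE 1)]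
    have hle : ι.range ≤ M := by
      rintro _ ⟨h, rfl⟩
      rw [hι, MonoidHom.noncommCoprod_apply]
      have h1 : φa h.1 ∈ Subgroup.closure ({a, x} : Set S.YU) := TwoLift.dHom_range ha3 hx2 hxa ▸ ⟨_, rfl⟩
      have h2 : φb h.2 ∈ Subgroup.closure ({b, y} : Set S.YU) := TwoLift.dHom_range hb3 hy2 hyb ▸ ⟨_, rfl⟩
      refine mul_mem ((Subgroup.closure_le M).2 ?_ h1) ((Subgroup.closure_le M).2 ?_ h2)
      · rintro z (rfl | rfl)
        exacts [memM _ (S.A_le_N (S.K.φ_mem _)), memM _ hfN]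
      · rintro z (rfl | rfl)
        exacts [memM _ (S.A_le_N (S.K.φ_mem _)), memM _ hnN]
    obtain ⟨d, hd, e'⟩ := hle hg
    have h1 : S.πU (d⁻¹ * g) = 1 := by rw [map_mul, map_inv, e', inv_mul_cancel]
    obtain ⟨k, hk⟩ := S.πU_eq_one.1 h1
    have hm : (((d⁻¹ * g : S.Gam)) : G) ∈ S.N := by
      rcases hk with hk | hk <;> rw [hk]
      exacts [S.A_le_N (S.K.φ_mem _), mul_mem (S.mem_N_of_acts S.acts_t) (S.A_le_N (S.K.φ_mem _))]
    have := mul_mem (mem_subgroupOf.1 hd) hm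
    rwa [Subgroup.coe_mul, Subgroup.coe_inv, mul_inv_cancel_left] at this
  -- the normaliser
  have key : ∀ g : S.Gam, (g : G) * S.e 0 * (g : G)⁻¹ = S.e 0 →
      ((g : G) * S.e 1 * (g : G)⁻¹ = S.e 1 ∨ (g : G) * S.e 1 * (g : G)⁻¹ = S.e 2) → S.πU g ∈ ι.range := by
    intro g g0 g1
    obtain ⟨c1, c2⟩ : Commute (g : G) (S.e 1) ∧ Commute (g : G) (S.e 2) := by
      rcases g1 with h | h
      · refine S.pair_fix g.2 (k := 0) ?_
        rw [z0, S.φ_neg]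
        exact mul_inv_eq_iff_eq_mul.2 (Commute.inv_right (mul_inv_eq_iff_eq_mul.1 h)).eq
      · refine S.pair_fix g.2 (k := 1) ?_
        rw [S.φ_neg, show (g : G) * (S.K.φ (evv 1))⁻¹ * (g : G)⁻¹ = ((g : G) * S.e 1 * (g : G)⁻¹)⁻¹ by rw [e]; group, h,
          e, ← S.φ_neg]
        exact congrArg S.K.φ (by decide +kernel)
    obtain ⟨i, j, hij⟩ := hTd g (fun k => by
      fin_cases k
      exacts [mul_inv_eq_iff_eq_mul.1 g0, c1, c2])
    exact ⟨rep (1, 0) ^ i.val * rep (0, 1) ^ j.val, by rw [map_mul, map_pow, map_pow, v10, v01, hij]⟩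
  obtain ⟨M, hM⟩ := S.acts_N hgN
  obtain ⟨s, hs, hu⟩ := S.Gam_u g.2
  have hEt : ∀ i, (app M (evv i)).2.1 = 0 := fun i => S.commute_t_iff.1 (by
    rw [← hM]
    exact ((g.2.1.symm).mul_right (S.commute_t_iff.2 (evv_norm i).2)).mul_right g.2.1.symm.inv_right)
  have hb' := S.bf_pres hM
  obtain ⟨g1', hz'⟩ := axes_cases (app M (evv 1)) ((S.qf_pres hM _).trans (evv_norm 1).1) (hEt 1)
    (app M (evv 2)) ((S.qf_pres hM _).trans (evv_norm 2).1) (hEt 2)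
    (by rw [hb']; decide +kernel) (by
      rw [← app_neg, ← app_add, ← b3_facts.1, S.K.φ_inj ((hM b3).symm.trans hu)]
      rcases hs with rfl | ⟨rfl, -⟩
      · exact Or.inl b3_facts.2.2.2.1.symm
      · exact Or.inr b3_facts.2.2.1.symm)
  have g0' := hz' (app M (evv 0)) ((S.qf_pres hM _).trans (evv_norm 0).1) (hEt 0)
    (by rw [hb']; decide +kernel) (by rw [hb']; decide +kernel)
  have i0 : (g : G) * S.e 0 * (g : G)⁻¹ = S.e 0 ∨ (g : G) * S.e 0 * (g : G)⁻¹ = (S.e 0)⁻¹ := by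
    rw [e, hM]
    rcases g0' with h | h <;> rw [h]
    exacts [Or.inl rfl, Or.inr (S.φ_neg _)]
  have i1 : (g : G) * S.e 1 * (g : G)⁻¹ = S.e 1 ∨ (g : G) * S.e 1 * (g : G)⁻¹ = S.e 2 ∨
      (g : G) * S.e 1 * (g : G)⁻¹ = (S.e 1)⁻¹ ∨ (g : G) * S.e 1 * (g : G)⁻¹ = (S.e 2)⁻¹ := by
    rw [e, e, hM]
    rcases g1' with h | h | h | h <;> rw [h]
    exacts [Or.inl rfl, Or.inr (Or.inl rfl), Or.inr (Or.inr (Or.inl (S.φ_neg _))),
      Or.inr (Or.inr (Or.inr (S.φ_neg _)))]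
  have fneg : ∀ p : G, f * p⁻¹ * f⁻¹ = (f * p * f⁻¹)⁻¹ := fun p => by group
  have nneg : ∀ p : G, n * p⁻¹ * n⁻¹ = (n * p * n⁻¹)⁻¹ := fun p => by group
  have f1i : f * S.e 1 * f⁻¹ = S.e 1 := mul_inv_eq_iff_eq_mul.2 hf1.eq
  have f2i : f * S.e 2 * f⁻¹ = S.e 2 := mul_inv_eq_iff_eq_mul.2 hf2e.eq
  have step1 : ∀ g : S.Gam, (g : G) * S.e 0 * (g : G)⁻¹ = S.e 0 →
      ((g : G) * S.e 1 * (g : G)⁻¹ = S.e 1 ∨ (g : G) * S.e 1 * (g : G)⁻¹ = S.e 2 ∨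
        (g : G) * S.e 1 * (g : G)⁻¹ = (S.e 1)⁻¹ ∨ (g : G) * S.e 1 * (g : G)⁻¹ = (S.e 2)⁻¹) →
      S.πU g ∈ ι.range := by
    intro g g0 g1
    have hprod : ∀ p, ((⟨n, hn⟩ * g : S.Gam) : G) * p * ((⟨n, hn⟩ * g : S.Gam) : G)⁻¹ =
        n * ((g : G) * p * (g : G)⁻¹) * n⁻¹ := fun p => by rw [Subgroup.coe_mul]; group
    rcases g1 with h | h | h
    · exact key g g0 (Or.inl h)
    · exact key g g0 (Or.inr h)
    have h' := key (⟨n, hn⟩ * g) (by rw [hprod, g0, hn0]) (by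
      rw [hprod]
      rcases h with h | h <;> rw [h, nneg]
      · rcases hn12 with ⟨h1, -⟩ | ⟨h1, -⟩ <;> rw [h1, inv_inv]
        exacts [Or.inl rfl, Or.inr rfl]
      · rcases hn12 with ⟨-, h2⟩ | ⟨-, h2⟩ <;> rw [h2, inv_inv]
        exacts [Or.inr rfl, Or.inl rfl])
    rw [map_mul] at h'
    have := mul_mem (inv_mem (⟨_, v02⟩ : y ∈ ι.range)) h'
    rwa [inv_mul_cancel_left] at this
  rcases i0 with h0 | h0
  · exact step1 g h0 i1
  · have hprod : ∀ p, ((⟨f, hf⟩ * g : S.Gam) : G) * p * ((⟨f, hf⟩ * g : S.Gam) : G)⁻¹ =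
        f * ((g : G) * p * (g : G)⁻¹) * f⁻¹ := fun p => by rw [Subgroup.coe_mul]; group
    have h' := step1 (⟨f, hf⟩ * g) (by rw [hprod, h0, fneg, hf0, inv_inv]) (by
      rw [hprod]
      rcases i1 with h | h | h | h <;> rw [h]
      · exact Or.inl f1i
      · exact Or.inr (Or.inl f2i)
      · rw [fneg, f1i]; exact Or.inr (Or.inr (Or.inl rfl))
      · rw [fneg, f2i]; exact Or.inr (Or.inr (Or.inr rfl)))
    rw [map_mul] at h'
    have := mul_mem (inv_mem (⟨_, v20⟩ : x ∈ ι.range)) h'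
    rwa [inv_mul_cancel_left] at this

end Setting

end Cfsg.Agent.O8Three
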