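import Cfsg.Agent.Lib.O8Three.Grid

/-!
S3372: the block theorem in the centraliser of `u` and the involution. The cores of a pair of coordinates commute
with the group of order eight of `z` modulo the involution, and if there is no such core the centraliser is a group
of order thirty-two times its part in the normaliser of the torus.
-/

set_option autoImplicit false
set_option linter.style.haveILetI false
set_option linter.unusedSectionVars false
set_option linter.unusedSimpArgs false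
set_option maxRecDepth 20000
set_option synthInstance.maxSize 5000

namespace Cfsg.Agent.O8Three

open Subgroup
open Cfsg.Agent.HeisSLThree (pw pw_add pw_zero pw_one)
open Cfsg.Agent.ThreeTI.Grid (Mod rep)
open Cfsg.Agent.GridBlock (cubes mem_cubes cube_cube six_all)

theorem cube_of_six : ∀ h : Mod, ∀ k : ℕ, h ^ 3 ^ k = 1 → h * h * h = 1 := fun h k hk => by
  have hd := Nat.dvd_gcd (orderOf_dvd_of_pow_eq_one hk) (orderOf_dvd_of_pow_eq_one (six_all h))
  have h3 : Nat.gcd (3 ^ k) 6 ∣ 3 := by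
    rcases Nat.eq_zero_or_pos k with rfl | hk0
    · simp
    · rw [show (6 : ℕ) = 2 * 3 from rfl,
        Nat.Coprime.gcd_mul_left_cancel_right 3 ((by norm_num : Nat.Coprime 2 3).pow_right k)]
      exact Nat.gcd_dvd_right _ _
  rw [← pow_two, ← pow_succ]
  exact orderOf_dvd_iff_pow_eq_one.1 (hd.trans h3)

theorem small_facts : ((1 : ZMod 3) ≠ 0 ∧ (2 : ZMod 3) ≠ 0) ∧ (-evv 1 : V4).2.1 = 0 ∧
    evv 0 + -evv 1 + -b1 = smulV (-2) b3 ∧ qf b1 = 0 := by decide +kernel

theorem rep11 : rep (1, 1) = rep (1, 0) * rep (0, 1) ∧ Nat.card cubes = 9 := by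
  refine ⟨by decide +kernel, ?_⟩
  rw [Nat.card_congr (Equiv.subtypeEquivRight fun h : Mod => mem_cubes), Nat.card_eq_fintype_card,
    Fintype.card_subtype]
  exact Cfsg.Agent.ThreeTI.Grid.card_cube

namespace Setting

variable {G : Type*} [Group G] [Finite G] (S : Setting G)

theorem b3_line (k : ZMod 3) : (smulV k b3).2.1 = 0 := by revert k; decide +kernel

theorem line_pow_one {k : ZMod 3} {n : ℕ} (hn : Nat.Coprime n 3) (h : S.K.φ (smulV k b3) ^ n = 1) :
    S.K.φ (smulV k b3) = 1 := by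
  have hd := Nat.dvd_gcd (orderOf_dvd_of_pow_eq_one h) (orderOf_dvd_of_pow_eq_one (S.K.exp _ (S.K.φ_mem (smulV k b3))))
  rw [hn.gcd_eq_one, Nat.dvd_one, orderOf_eq_one_iff] at hd
  exact hd

theorem t_Gam : S.F.t ∈ S.Gam := S.Gam_of_cent (Commute.refl _) (mul_inv_eq_iff_eq_mul.1 S.p3_mem.2)

theorem R_Gam : S.R ≤ S.Gam := fun _ hr => S.Gam_of_cent (S.R_comm_t hr) (S.R_comm_U hr S.p3_mem)

theorem pair_p3 {p : G} (h1 : Commute p (S.e 1)) (h2 : Commute p (S.e 2)) : Commute p S.K.p3 := by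
  rw [S.p3_eq, b3_facts.1, S.K.φ_add, S.φ_neg]
  exact h1.mul_right h2.inv_right

theorem core_Gam {P : Subgroup G} (hP : S.PairCore 1 2 P) : P ≤ S.Gam := fun _ hp =>
  S.Gam_of_cent (hP.le _ hp).2.2 (S.pair_p3 (hP.le _ hp).1 (hP.le _ hp).2.1)

/-- The image of a group in the quotient. -/
def img (X : Subgroup G) : Subgroup S.YU := (X.subgroupOf S.Gam).map S.πU

theorem mem_img {X : Subgroup G} (hX : X ≤ S.Gam) {x : G} (hx : x ∈ X) : S.πU ⟨x, hX hx⟩ ∈ S.img X :=
  ⟨⟨x, hX hx⟩, mem_subgroupOf.2 hx, rfl⟩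

theorem card_img {X : Subgroup G} (hX : X ≤ S.Gam) (ht : S.F.t ∈ X) :
    ∃ k, 2 ≤ k ∧ k * Nat.card (S.img X) = Nat.card X ∧
      ((∀ x ∈ X, ∀ c : ZMod 3, (x = S.K.φ (smulV c b3) ∨ x = S.F.t * S.K.φ (smulV c b3)) → x = 1 ∨ x = S.F.t) →
        k = 2) := by
  classical
  set ψ : ↥(X.subgroupOf S.Gam) →* S.YU := S.πU.comp (X.subgroupOf S.Gam).subtype with hψ
  have hr : ψ.range = S.img X := by
    rw [hψ, MonoidHom.range_comp, Subgroup.range_subtype]; rfl
  have h := Subgroup.card_eq_card_quotient_mul_card_subgroup ψ.ker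
  rw [Nat.card_congr (QuotientGroup.quotientKerEquivRange ψ).toEquiv, hr,
    Nat.card_congr (subgroupOfEquivOfLe hX).toEquiv] at h
  let one' : ψ.ker := 1
  have htk : (⟨⟨S.F.t, S.t_Gam⟩, mem_subgroupOf.2 ht⟩ : X.subgroupOf S.Gam) ∈ ψ.ker := S.πU_t _
  refine ⟨Nat.card ψ.ker, ?_, by rw [h, mul_comm], fun hX1 => ?_⟩
  · refine Finite.one_lt_card_iff_nontrivial.2 ⟨⟨⟨_, htk⟩, 1, fun e => S.t_not_one ?_⟩⟩
    exact congrArg (fun z : ψ.ker => ((z : X.subgroupOf S.Gam) : G)) e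
  · have hb : Function.Bijective (fun b : Bool => if b then (⟨_, htk⟩ : ψ.ker) else 1) := by
      refine ⟨fun p q e => ?_, fun z => ?_⟩
      · have e' := congrArg (fun z : ψ.ker => (((z : X.subgroupOf S.Gam) : S.Gam) : G)) e
        cases p <;> cases q
        · rfl
        · exact absurd (by simpa using e'.symm) S.t_not_one
        · exact absurd (by simpa using e') S.t_not_one
        · rfl
      · obtain ⟨c, hc⟩ := S.πU_eq_one.1 (MonoidHom.mem_ker.1 z.2 : S.πU ((z : X.subgroupOf S.Gam) : S.Gam) = 1)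
        rcases hX1 _ (mem_subgroupOf.1 (z : X.subgroupOf S.Gam).2) c hc with h | h
        · exact ⟨false, Subtype.ext (Subtype.ext (Subtype.ext (by simp [h])))⟩
        · exact ⟨true, Subtype.ext (Subtype.ext (Subtype.ext (by simp [h])))⟩
    rw [← Nat.card_congr (Equiv.ofBijective _ hb)]
    simp

theorem cop_of_two {Q : Subgroup S.YU} (h : ∀ n ∈ Q, n * n = 1) : ¬ 3 ∣ Nat.card Q := fun hd => by
  haveI : Fact (Nat.Prime 3) := ⟨Nat.prime_three⟩
  obtain ⟨x, hx⟩ := exists_prime_orderOf_dvd_card' (G := Q) 3 hd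
  have h2 : orderOf x ∣ 2 := orderOf_dvd_of_pow_eq_one (Subtype.ext (by rw [pow_two]; exact h _ x.2))
  rw [hx] at h2
  norm_num at h2

theorem φ_b1_mem : S.K.φ b1 ∈ S.E := S.φ_mem_E rfl

set_option maxHeartbeats 2000000 in
/-- The block theorem applies. -/
theorem grid_split {P : Subgroup G} (hP : S.PairCore 1 2 P) :
    ∃ (ι : Mod →* S.YU) (Q : Mod → Subgroup S.YU) (O : Subgroup S.YU),
      GridBlock.Loc ι Q ∧ GridBlock.Fours ι Q ∧ GridBlock.Split ι Q O ∧
      Q (rep (0, 1)) = S.img P ∧ Q (rep (1, 1)) = S.img S.R ∧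
      ∀ g : S.Gam, S.πU g ∈ ι.range → (g : G) ∈ S.N := by
  classical
  haveI : Fact (Nat.Prime 3) := ⟨Nat.prime_three⟩
  obtain ⟨ι, hinj, v10, v01, hcubeE, hEcube, hrange⟩ := S.exists_model_u
  set T0 := cubes.map ι with hT0
  have hT0c : ∀ {z : S.YU}, z ∈ T0 ↔ ∃ h : Mod, h * h * h = 1 ∧ ι h = z := fun {z} => Iff.rfl
  have hN : Subgroup.normalizer (T0 : Set S.YU) ≤ ι.range := by
    intro z hz
    obtain ⟨g, rfl⟩ := QuotientGroup.mk'_surjective S.ZU z
    refine (hrange g).1 (S.norm_E g.2.1 fun i => ?_)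
    obtain ⟨h, hh, he⟩ := hEcube (S.e i) (Subgroup.subset_closure ⟨i, rfl⟩)
    obtain ⟨h', hh', he'⟩ := hT0c.1 ((mem_normalizer_iff.1 hz (ι h)).1 (hT0c.2 ⟨h, hh, rfl⟩))
    obtain ⟨w, hw, hwe⟩ := hcubeE h' hh'
    rw [he, hwe, ← map_inv, ← map_mul, ← map_mul, ← mul_inv_eq_one, ← map_inv, ← map_mul, S.πU_eq_one] at he'
    obtain ⟨k, hk⟩ := he'
    simp only [Subgroup.coe_mul, Subgroup.coe_inv, mul_inv_eq_iff_eq_mul] at hk
    rcases hk with hk | hk
    · have e1 : (g : G) * S.e i * (g : G)⁻¹ = (S.K.φ (smulV k b3))⁻¹ * w := by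
        rw [hk]; group
      rw [e1]
      exact mul_mem (inv_mem (S.φ_mem_E (b3_line k))) hw
    · exfalso
      refine S.t_cube (S.K.A.mul_mem (inv_mem (S.K.φ_mem (smulV k b3))) (S.E_le hw))
        ((S.commute_t_iff.2 (b3_line k)).inv_right.mul_right (S.E_comm_t hw))
        (x := (g : G) * S.e i * (g : G)⁻¹) (by
          rw [conj_pow, show S.e i ^ 3 = 1 from S.K.exp _ (S.K.φ_mem _), mul_one, mul_inv_cancel]) ?_
      have hc := S.commute_t_iff.2 (b3_line k)
      have key : ∀ X : G, S.F.t * ((S.K.φ (smulV k b3))⁻¹ * (S.F.t * S.K.φ (smulV k b3) * X)) = X := fun X => by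
        calc S.F.t * ((S.K.φ (smulV k b3))⁻¹ * (S.F.t * S.K.φ (smulV k b3) * X))
            = (S.F.t * (S.K.φ (smulV k b3))⁻¹ * S.F.t) * S.K.φ (smulV k b3) * X := by group
          _ = (S.K.φ (smulV k b3))⁻¹ * S.K.φ (smulV k b3) * X := by
            rw [hc.inv_right.eq, mul_assoc _ S.F.t S.F.t, S.t_sq, mul_one]
          _ = X := by group
      rw [hk]
      refine Eq.trans (key _).symm ?_
      group
  have hT9 : Nat.card T0 = 9 := by rw [hT0, card_map_of_injective hinj, rep11.2]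
  have hpT : IsPGroup 3 T0 := IsPGroup.of_card (n := 2) (by rw [hT9]; norm_num)
  obtain ⟨T, hle⟩ := hpT.exists_le_sylow
  have hTeq : (T : Subgroup S.YU) = T0 := by
    by_contra hne
    have hlt : T0.subgroupOf T < ⊤ := lt_top_iff_ne_top.2 fun h => hne (le_antisymm (subgroupOf_eq_top.1 h) hle)
    haveI := T.isPGroup'.isNilpotent
    obtain ⟨g, hg, hgT⟩ := SetLike.exists_of_lt (Group.normalizerCondition_of_isNilpotent _ hlt)
    have hgN : (g : S.YU) ∈ Subgroup.normalizer (T0 : Set S.YU) := mem_normalizer_iff.2 fun z => by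
      constructor
      · intro hz
        exact (mem_normalizer_iff.1 hg ⟨z, hle hz⟩).1 hz
      · intro hz
        have hzP : z ∈ (T : Subgroup S.YU) := by
          have := mul_mem (mul_mem (inv_mem g.2) (hle hz)) g.2
          rwa [show (g : S.YU)⁻¹ * ((g : S.YU) * z * (g : S.YU)⁻¹) * g = z by group] at this
        exact (mem_normalizer_iff.1 hg ⟨z, hzP⟩).2 hz
    obtain ⟨h, hh⟩ := hN hgN
    obtain ⟨k, hk⟩ := T.isPGroup' g
    have hh' : h ^ 3 ^ k = 1 := hinj (by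
      rw [map_pow, hh, map_one]; exact congrArg Subtype.val hk)
    exact hgT (mem_subgroupOf.2 (hT0c.2 ⟨h, cube_of_six h k hh', hh⟩))
  -- the centraliser of the first coordinate
  have hp : Subgroup.centralizer ({ι (rep (1, 0))} : Set S.YU) ≤ ι.range := by
    intro z hz
    obtain ⟨g, rfl⟩ := QuotientGroup.mk'_surjective S.ZU z
    rw [v10] at hz
    obtain ⟨k, hk⟩ := S.mod_image (evv_norm 0).2 (mem_centralizer_singleton_iff.1 hz)
    obtain ⟨s, hs, hu⟩ := S.Gam_u g.2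
    have hs0 : s ≠ 0 := by
      rcases hs with rfl | ⟨rfl, -⟩
      exacts [small_facts.1.1, small_facts.1.2]
    exact (hrange g).1 (S.norm2 (good_e0u k s hs0) hk hu)
  -- the core of the pair
  have hPG := S.core_Gam hP
  have hf : GridBlock.Loc1 ι (rep (0, 1)) (S.img P) := by
    have hpre : ∀ z ∈ Subgroup.centralizer ({ι (rep (0, 1))} : Set S.YU), ∃ g : S.Gam,
        z = S.πU g ∧ Commute (g : G) (S.e 1) ∧ Commute (g : G) (S.e 2) := by
      intro z hz
      obtain ⟨g, rfl⟩ := QuotientGroup.mk'_surjective S.ZU z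
      rw [v01] at hz
      obtain ⟨k, hk⟩ := S.mod_image (x := -evv 1) small_facts.2.1 (mem_centralizer_singleton_iff.1 hz)
      exact ⟨g, rfl, S.pair_fix g.2 hk⟩
    refine ⟨?_, ?_, S.cop_of_two ?_, ?_⟩
    · rintro _ ⟨p, hp', rfl⟩
      rw [v01]
      refine mem_centralizer_singleton_iff.2 ?_
      rw [← map_mul, ← map_mul]
      refine congrArg S.πU (Subtype.ext ?_)
      show (p : G) * S.K.φ (-evv 1) = S.K.φ (-evv 1) * (p : G)
      rw [S.φ_neg]
      exact (hP.le _ (mem_subgroupOf.1 hp')).1.inv_right.eq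
    · rintro c hc _ ⟨p, hp', rfl⟩
      obtain ⟨g, rfl, c1, c2⟩ := hpre c hc
      rw [← map_inv, ← map_mul, ← map_mul]
      exact ⟨_, mem_subgroupOf.2 (hP.nor _ c1 c2 g.2.1 _ (mem_subgroupOf.1 hp')), rfl⟩
    · rintro _ ⟨p, hp', rfl⟩
      rw [← map_mul, show p * p = 1 from Subtype.ext (hP.two _ (mem_subgroupOf.1 hp')), map_one]
    · intro c hc
      obtain ⟨g, rfl, c1, c2⟩ := hpre c hc
      obtain ⟨p, hp', hn⟩ := hP.dec _ c1 c2 g.2.1
      obtain ⟨k, hk⟩ := (hrange (⟨p, hPG hp'⟩⁻¹ * g)).1 hn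
      exact ⟨_, S.mem_img hPG hp', k, by rw [hk, map_mul, map_inv, mul_inv_cancel_left]⟩
  -- the group of order eight
  have hRG := S.R_Gam
  have v11 : ι (rep (1, 1)) = S.πU ⟨S.K.φ b1, S.E_le_Gam S.φ_b1_mem⟩ := by
    rw [rep11.1, map_mul, v10, v01, ← map_mul, ← mul_inv_eq_one, ← map_inv, ← map_mul, S.πU_eq_one]
    refine ⟨-2, Or.inl ?_⟩
    show S.K.φ (evv 0) * S.K.φ (-evv 1) * (S.K.φ b1)⁻¹ = _
    rw [← S.φ_neg, ← S.K.φ_add, ← S.K.φ_add]
    exact congrArg S.K.φ small_facts.2.2.1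
  have hRsq : ∀ n ∈ S.img S.R, n * n = 1 := by
    rintro _ ⟨r, hr, rfl⟩
    rw [← map_mul]
    rcases S.R_square (mem_subgroupOf.1 hr) with h | h
    · rw [show r * r = 1 from Subtype.ext h, map_one]
    · rw [show r * r = ⟨S.F.t, S.t_Gam⟩ from Subtype.ext h, S.πU_t]
  have he : GridBlock.Loc1 ι (rep (1, 1)) (S.img S.R) := by
    have hpre : ∀ z ∈ Subgroup.centralizer ({ι (rep (1, 1))} : Set S.YU), ∃ g : S.Gam,
        z = S.πU g ∧ (g : G) ∈ S.F.toPair.toConf.Cz := by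
      intro z hz
      obtain ⟨g, rfl⟩ := QuotientGroup.mk'_surjective S.ZU z
      rw [v11] at hz
      obtain ⟨k, hk⟩ := S.mod_image (x := b1) rfl (mem_centralizer_singleton_iff.1 hz)
      obtain rfl := b1_shift k ((S.qf_fusion hk).trans small_facts.2.2.2)
      rw [(smul_facts 0 0 b3).2.2.1, add_zero, S.K.φ_b1] at hk
      exact ⟨g, rfl, S.mem_Cz.2 (mul_inv_eq_iff_eq_mul.1 hk)⟩
    refine ⟨?_, ?_, S.cop_of_two hRsq, ?_⟩
    · rintro _ ⟨r, hr, rfl⟩
      rw [v11]
      refine mem_centralizer_singleton_iff.2 ?_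
      rw [← map_mul, ← map_mul]
      refine congrArg S.πU (Subtype.ext ?_)
      show (r : G) * S.K.φ b1 = S.K.φ b1 * (r : G)
      rw [S.K.φ_b1]
      exact (S.mem_Cz.1 (S.R_le (mem_subgroupOf.1 hr))).eq
    · rintro c hc _ ⟨r, hr, rfl⟩
      obtain ⟨g, rfl, hg⟩ := hpre c hc
      rw [← map_inv, ← map_mul, ← map_mul]
      exact ⟨_, mem_subgroupOf.2 (S.R_norm hg g.2.1 (mem_subgroupOf.1 hr)), rfl⟩
    · intro c hc
      obtain ⟨g, rfl, hg⟩ := hpre c hc
      obtain ⟨r, hr, hn⟩ := S.decomp hg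
      obtain ⟨k, hk⟩ := (hrange (⟨r, hRG hr⟩⁻¹ * g)).1 hn
      exact ⟨_, S.mem_img hRG hr, k, by rw [hk, map_mul, map_inv, mul_inv_cancel_left]⟩
  obtain ⟨L, compat, hQf, hQe⟩ := GridBlock.loc_spread hinj T hTeq (by rw [hTeq]; exact hN) hp hf he hRsq
  obtain ⟨O, hO⟩ := L.exists_split T hTeq
  refine ⟨ι, _, O, L, ⟨compat, ?_, ?_⟩, hO, hQf, hQe, fun g hg => (hrange g).2 hg⟩
  · intro h hh n hn
    simp only [List.mem_cons, List.not_mem_nil, or_false] at hh
    rcases hh with rfl | rfl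
    · rw [hQf] at hn
      obtain ⟨p, hp', rfl⟩ := hn
      rw [← map_mul, show p * p = 1 from Subtype.ext (hP.two _ (mem_subgroupOf.1 hp')), map_one]
    · exact hRsq n (hQe ▸ hn)
  · intro h hh
    simp only [List.mem_cons, List.not_mem_nil, or_false] at hh
    rcases hh with rfl | rfl
    · rw [hQf]
      obtain ⟨k, hk, he', -⟩ := S.card_img hPG hP.t_mem
      have := hP.small
      nlinarith
    · rw [hQe]
      obtain ⟨k, hk, he', -⟩ := S.card_img hRG S.t_mem_R
      have := S.card_R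
      nlinarith

/-- The cores of a pair commute with the group of order eight modulo the involution. -/
theorem core_comm : S.CoreComm := by
  intro P hP p hp r hr
  obtain ⟨ι, Q, O, L, F4, hO, hQf, hQe, -⟩ := S.grid_split hP
  have hPG := S.core_Gam hP
  have hRG := S.R_Gam
  have hc := GridBlock.central L hO F4 (hQf ▸ S.mem_img hPG hp)
    (GridBlock.le_O L hO F4 GridBlock.rep_facts.2.2.2.2.2.2.2.2.1 GridBlock.rep_facts.2.2.2.2.1
      (hQe ▸ S.mem_img hRG hr))
  have h1 : S.πU (⟨p, hPG hp⟩ * ⟨r, hRG hr⟩ * ⟨p, hPG hp⟩⁻¹ * ⟨r, hRG hr⟩⁻¹) = 1 := by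
    rw [map_mul, map_mul, map_mul, map_inv, map_inv, mul_inv_eq_one, mul_inv_eq_iff_eq_mul]
    exact hc
  obtain ⟨k, hk⟩ := S.πU_eq_one.1 h1
  obtain ⟨d, hd⟩ : ∃ d, d = p * r * p⁻¹ * r⁻¹ := ⟨_, rfl⟩
  have hk' : d = S.K.φ (smulV k b3) ∨ d = S.F.t * S.K.φ (smulV k b3) := hd ▸ hk
  have hct := S.commute_t_iff.2 (b3_line k)
  have hpd : Commute p d := by
    have hpk : Commute p (S.K.φ (smulV k b3)) := by
      rw [S.K.φ_smul, ← S.p3_eq]
      exact (S.pair_p3 (hP.le _ hp).1 (hP.le _ hp).2.1).pow_right _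
    rcases hk' with rfl | rfl
    exacts [hpk, (hP.le _ hp).2.2.mul_right hpk]
  have hdd : d * d = 1 := by
    have h2 := hP.two _ hp
    have e1 : p * r * p⁻¹ = d * r := by rw [hd, inv_mul_cancel_right]
    have e2 : r = d * (d * r) := by
      calc r = (p * p) * r * (p * p)⁻¹ := by rw [h2]; group
        _ = p * (p * r * p⁻¹) * p⁻¹ := by group
        _ = p * (d * r) * p⁻¹ := by rw [e1]
        _ = (p * d * p⁻¹) * (p * r * p⁻¹) := by group
        _ = d * (d * r) := by rw [hpd.eq, mul_inv_cancel_right, e1]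
    calc d * d = d * (d * r) * r⁻¹ := by group
      _ = 1 := by rw [← e2, mul_inv_cancel]
  have hk0 : S.K.φ (smulV k b3) = 1 := by
    refine S.line_pow_one (n := 2) (by norm_num) ?_
    rw [pow_two]
    rcases hk' with rfl | rfl
    · exact hdd
    · rwa [mul_assoc, ← mul_assoc (S.K.φ _) S.F.t, ← hct.eq, mul_assoc, ← mul_assoc, S.t_sq, one_mul] at hdd
  rw [← hd]
  rcases hk' with h | h <;> rw [h, hk0]
  exacts [one_mem _, by rw [mul_one]; exact mem_zpowers _]

set_option maxHeartbeats 1000000 in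
/-- Without cores of the pair the centraliser of `u` and the involution has a normal group of order thirty-two. -/
theorem two_core (hC : ∀ c, Commute c (S.e 1) → Commute c (S.e 2) → Commute c S.F.t → c ∈ S.N) : S.TwoCore := by
  classical
  haveI : Fact (Nat.Prime 2) := ⟨Nat.prime_two⟩
  obtain ⟨ι, Q, O, L, F4, hO, hQf, hQe, hrN⟩ := S.grid_split (S.trivial_core hC)
  have hrf := GridBlock.rep_facts
  have c11 := hrf.2.2.2.2.2.2.2.2.1
  have n11 := hrf.2.2.2.2.1
  have hRG := S.R_Gam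
  have hQ1 : Q (rep (0, 1)) = ⊥ := by
    rw [hQf, eq_bot_iff]
    rintro _ ⟨p, hp, rfl⟩
    obtain ⟨k, hk⟩ := mem_zpowers_iff.1 (mem_subgroupOf.1 hp)
    refine mem_bot.2 ?_
    rw [show p = ⟨S.F.t, S.t_Gam⟩ ^ k from Subtype.ext (by rw [SubgroupClass.coe_zpow]; exact hk.symm), map_zpow,
      S.πU_t, one_zpow]
  have hR4 : Nat.card (Q (rep (1, 1))) = 4 := by
    rw [hQe]
    obtain ⟨k, -, hk, hk2⟩ := S.card_img hRG S.t_mem_R
    rw [hk2 fun x hx c hc => ?_, S.card_R] at hk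
    · omega
    · have h8 : x ^ 8 = 1 := by
        have h := pow_card_eq_one' (G := S.R) (x := ⟨x, hx⟩)
        rw [S.card_R] at h
        exact congrArg Subtype.val h
      have h0 : S.K.φ (smulV c b3) = 1 := by
        refine S.line_pow_one (n := 8) (by norm_num) ?_
        rcases hc with rfl | rfl
        · exact h8
        · rwa [(S.commute_t_iff.2 (b3_line c)).mul_pow, show S.F.t ^ 8 = 1 by
            rw [show 8 = 2 * 4 from rfl, pow_mul, pow_two, S.t_sq, one_pow], one_mul] at h8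
      rcases hc with rfl | rfl <;> rw [h0]
      exacts [Or.inl rfl, Or.inr (mul_one _)]
  have hR4' : Nat.card (Q GridBlock.rep') = 4 := by
    rw [← hrf.1, F4.compat _ _ c11 n11, card_map_of_injective (MulAut.conj _).injective, hR4]
  have hO16 : Nat.card O = 16 := by
    rw [GridBlock.card_O L hO F4, hQ1, hR4, hR4', Subgroup.card_bot]
  -- the part centralising `u`
  set CP : Subgroup S.Gam := (centralizer ({S.K.p3} : Set G)).subgroupOf S.Gam with hCP
  haveI hCPn : CP.Normal := ⟨fun z hz g => by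
    rw [hCP, mem_subgroupOf, mem_centralizer_singleton_iff] at hz ⊢
    have hz' : Commute (z : G) S.K.p3 := hz
    have : Commute (z : G) ((g : G)⁻¹ * S.K.p3 * g) := by
      rcases (inv_mem g.2 : (g : G)⁻¹ ∈ S.Gam).2 with h | ⟨-, h⟩ <;> rw [inv_inv] at h <;> rw [h]
      exacts [hz', hz'.inv_right]
    have h2 := this.map (MulAut.conj (g : G))
    simp only [MulAut.conj_apply] at h2
    rw [show (g : G) * ((g : G)⁻¹ * S.K.p3 * g) * (g : G)⁻¹ = S.K.p3 by group] at h2
    exact h2.eq⟩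
  have hOle : O ≤ CP.map S.πU := by
    refine GridBlock.le_of_cores L hO F4 (fun k x hx => ?_) (by rw [hQ1]; exact bot_le) ?_
    · exact (hCPn.map S.πU (QuotientGroup.mk'_surjective _)).conj_mem x hx _
    · rw [hQe]
      rintro _ ⟨r, hr, rfl⟩
      exact ⟨r, mem_subgroupOf.2 (mem_centralizer_singleton_iff.2 (S.R_comm_U (mem_subgroupOf.1 hr) S.p3_mem).eq), rfl⟩
  set O' := O.comap S.πU with hO'
  have hline : ∀ k : ZMod 3, S.K.φ (smulV k b3) ∈ S.Gam := fun k => S.E_le_Gam (S.φ_mem_E (b3_line k))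
  have hO'c : ∀ g ∈ O', Commute (g : G) S.K.p3 := by
    intro g hg
    obtain ⟨c, hc, e'⟩ := hOle hg
    have h1 : S.πU (c⁻¹ * g) = 1 := by rw [map_mul, map_inv, e', inv_mul_cancel]
    obtain ⟨k, hk⟩ := S.πU_eq_one.1 h1
    have hz : Commute ((c⁻¹ * g : S.Gam) : G) S.K.p3 := by
      have hk3 : Commute (S.K.φ (smulV k b3)) S.K.p3 := S.K.comm _ (S.K.φ_mem _) _ S.K.m3
      rcases hk with hk | hk <;> rw [hk]
      exacts [hk3, (show Commute S.F.t S.K.p3 from mul_inv_eq_iff_eq_mul.1 S.p3_mem.2).mul_left hk3]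
    have := (show Commute (c : G) S.K.p3 from mem_centralizer_singleton_iff.1 (mem_subgroupOf.1 hc)).mul_left hz
    rwa [Subgroup.coe_mul, Subgroup.coe_inv, mul_inv_cancel_left] at this
  have hcardZ : Nat.card S.ZU = 6 := by
    let f : ZMod 3 × Bool → S.ZU := fun p => if p.2 then
      ⟨⟨S.F.t, S.t_Gam⟩ * ⟨_, hline p.1⟩, mem_subgroupOf.2 (S.mem_ZUG.2 ⟨p.1, Or.inr rfl⟩)⟩
      else ⟨⟨_, hline p.1⟩, mem_subgroupOf.2 (S.mem_ZUG.2 ⟨p.1, Or.inl rfl⟩)⟩
    have hb : Function.Bijective f := by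
      have key : ∀ k l : ZMod 3, smulV k b3 = smulV l b3 → k = l := by decide +kernel
      have htA : ∀ k l : ZMod 3, S.F.t * S.K.φ (smulV k b3) ≠ S.K.φ (smulV l b3) := fun k l h =>
        S.t_cube (S.K.φ_mem _) (S.commute_t_iff.2 (b3_line k)) (S.K.exp _ (S.K.φ_mem (smulV l b3))) h.symm
      refine ⟨fun p q h => ?_, fun z => ?_⟩
      · obtain ⟨k, b⟩ := p
        obtain ⟨l, c⟩ := q
        have h' := congrArg (fun z : S.ZU => ((z : S.Gam) : G)) h
        cases b <;> cases c <;> simp [f] at h'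
        · rw [key k l (S.K.φ_inj h')]
        · exact absurd h'.symm (htA _ _)
        · exact absurd h' (htA _ _)
        · rw [key k l (S.K.φ_inj h')]
      · obtain ⟨k, hk | hk⟩ := S.mem_ZUG.1 (mem_subgroupOf.1 z.2)
        · exact ⟨(k, false), Subtype.ext (Subtype.ext (by simp [f, hk]))⟩
        · exact ⟨(k, true), Subtype.ext (Subtype.ext (by simp [f, hk]))⟩
    rw [← Nat.card_congr (Equiv.ofBijective f hb)]
    simp
  have hcard : Nat.card O' = 96 := by
    let ψ : O' →* O := (S.πU.comp O'.subtype).codRestrict O fun g => g.2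
    have hsur : Function.Surjective ψ := fun ⟨z, hz⟩ => by
      obtain ⟨g, rfl⟩ := QuotientGroup.mk'_surjective S.ZU z
      exact ⟨⟨g, hz⟩, rfl⟩
    have hk : Nat.card ψ.ker = 6 := by
      rw [← hcardZ]
      refine Nat.card_congr
        { toFun := fun g => ⟨((g : O') : S.Gam), (QuotientGroup.eq_one_iff _).1 (congrArg Subtype.val g.2)⟩
          invFun := fun z => ⟨⟨z, by
            show S.πU z ∈ O
            rw [show S.πU z = 1 from (QuotientGroup.eq_one_iff _).2 z.2]; exact one_mem _⟩,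
            Subtype.ext ((QuotientGroup.eq_one_iff _).2 z.2)⟩
          left_inv := fun g => rfl
          right_inv := fun z => rfl }
    rw [Subgroup.card_eq_card_quotient_mul_card_subgroup ψ.ker,
      Nat.card_congr (QuotientGroup.quotientKerEquivOfSurjective ψ hsur).toEquiv, hO16, hk]
  obtain ⟨P2, hP2⟩ := Sylow.exists_subgroup_card_pow_prime 2 (show 2 ^ 5 ∣ Nat.card O' by rw [hcard]; norm_num)
  have h32 : ∀ p : P2, (((p : O') : S.Gam) : G) ^ 32 = 1 := fun p => by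
    have h := pow_card_eq_one' (G := P2) (x := p)
    rw [hP2] at h
    exact congrArg (fun p : P2 => (((p : O') : S.Gam) : G)) h
  have hkO' : ∀ k : ZMod 3, (⟨_, hline k⟩ : S.Gam) ∈ O' := fun k => by
    show S.πU _ ∈ O
    rw [S.πU_eq_one.2 ⟨k, Or.inl rfl⟩]; exact one_mem _
  have hsplit : ∀ g : O', ∃ k : ZMod 3, ∃ p : P2, ((g : S.Gam) : G) = S.K.φ (smulV k b3) * (((p : O') : S.Gam) : G) := by
    let f : ZMod 3 × P2 → O' := fun x => ⟨⟨_, hline x.1⟩, hkO' x.1⟩ * (x.2 : O')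
    have hinj : Function.Injective f := by
      rintro ⟨k, p⟩ ⟨l, q⟩ h
      have h' : S.K.φ (smulV k b3) * (((p : O') : S.Gam) : G) = S.K.φ (smulV l b3) * (((q : O') : S.Gam) : G) :=
        congrArg (fun g : O' => ((g : S.Gam) : G)) h
      have hd : S.K.φ (smulV (-l + k) b3) = ((((q * p⁻¹ : P2) : O') : S.Gam) : G) := by
        rw [(smul_facts (-l) k b3).1, S.K.φ_add, (smul_facts l 0 b3).2.1, S.φ_neg]
        simp only [Subgroup.coe_mul, Subgroup.coe_inv]
        rw [eq_mul_inv_iff_mul_eq, mul_assoc, h', inv_mul_cancel_left]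
      have h0 := S.line_pow_one (k := -l + k) (n := 32) (by norm_num) (by rw [hd]; exact h32 _)
      have key : ∀ k l : ZMod 3, smulV (-l + k) b3 = 0 → k = l := by decide +kernel
      obtain rfl := key k l (S.K.φ_eq_one.1 h0)
      exact Prod.ext rfl (Subtype.ext (Subtype.ext (Subtype.ext (mul_left_cancel h'))))
    haveI := Fintype.ofFinite O'
    haveI := Fintype.ofFinite P2
    have hb : Function.Bijective f := (Fintype.bijective_iff_injective_and_card f).2 ⟨hinj, by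
      rw [← Nat.card_eq_fintype_card, ← Nat.card_eq_fintype_card, Nat.card_prod, hP2, hcard, Nat.card_zmod]
      norm_num⟩
    intro g
    obtain ⟨⟨k, p⟩, hkp⟩ := hb.2 g
    exact ⟨k, p, congrArg (fun g : O' => ((g : S.Gam) : G)) hkp.symm⟩
  set R32 : Subgroup G := (P2.map O'.subtype).map S.Gam.subtype with hR32
  have memR : ∀ r ∈ R32, ∃ p : P2, (((p : O') : S.Gam) : G) = r := by
    rintro _ ⟨_, ⟨x, hx, rfl⟩, rfl⟩
    exact ⟨⟨x, hx⟩, rfl⟩
  have Rmem : ∀ p : P2, (((p : O') : S.Gam) : G) ∈ R32 := fun p => ⟨_, ⟨p.1, p.2, rfl⟩, rfl⟩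
  have hone : ∀ g : O', ((g : S.Gam) : G) ^ 32 = 1 → ((g : S.Gam) : G) ∈ R32 := by
    intro g hg
    obtain ⟨k, p, e'⟩ := hsplit g
    have hc : Commute (S.K.φ (smulV k b3)) (((p : O') : S.Gam) : G) := by
      rw [S.K.φ_smul, ← S.p3_eq]
      exact ((hO'c _ (p : O').2).pow_right _).symm
    have hk : S.K.φ (smulV k b3) ^ 32 = 1 := by
      rw [e', hc.mul_pow, h32, mul_one] at hg
      exact hg
    rw [e', S.line_pow_one (by norm_num) hk, one_mul]
    exact Rmem p
  refine ⟨R32, ?_, ?_, ?_, ?_, ?_⟩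
  · rw [hR32, card_map_of_injective S.Gam.subtype_injective, card_map_of_injective O'.subtype_injective, hP2]
    norm_num
  · refine hone ⟨⟨S.F.t, S.t_Gam⟩, by show S.πU _ ∈ O; rw [S.πU_t]; exact one_mem _⟩ ?_
    show S.F.t ^ 32 = 1
    rw [show 32 = 2 * 16 from rfl, pow_mul, pow_two, S.t_sq, one_pow]
  · intro r hr
    obtain ⟨p, rfl⟩ := memR r hr
    exact ⟨(p : O').1.2.1, hO'c _ (p : O').2⟩
  · intro c hct hcu r hr
    obtain ⟨p, rfl⟩ := memR r hr
    obtain ⟨cc, hcc⟩ : ∃ cc : S.Gam, (cc : G) = c := ⟨⟨c, S.Gam_of_cent hct hcu⟩, rfl⟩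
    subst hcc
    refine hone ⟨cc * ((p : O') : S.Gam) * cc⁻¹, ?_⟩ ?_
    · show S.πU _ ∈ O
      rw [map_mul, map_mul, map_inv]
      exact hO.normal.conj_mem _ (p : O').2 _
    · show ((cc : G) * (((p : O') : S.Gam) : G) * (cc : G)⁻¹) ^ 32 = 1
      rw [conj_pow, h32, mul_one, mul_inv_cancel]
  · intro c hct hcu
    obtain ⟨o, ho, h, he⟩ := hO.prod (S.πU ⟨c, S.Gam_of_cent hct hcu⟩)
    obtain ⟨d, rfl⟩ := QuotientGroup.mk'_surjective S.ZU o
    obtain ⟨k, p, e'⟩ := hsplit ⟨d, ho⟩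
    refine ⟨_, Rmem p, ?_⟩
    have hm : ((d⁻¹ * ⟨c, S.Gam_of_cent hct hcu⟩ : S.Gam) : G) ∈ S.N := hrN _ ⟨h, by
      rw [map_mul, map_inv, he, inv_mul_cancel_left]⟩
    have hd : (d : G) = S.K.φ (smulV k b3) * (((p : O') : S.Gam) : G) := e'
    have hc : Commute (S.K.φ (smulV k b3)) (((p : O') : S.Gam) : G) := by
      rw [S.K.φ_smul, ← S.p3_eq]
      exact ((hO'c _ (p : O').2).pow_right _).symm
    have hfin := mul_mem (S.A_le_N (S.K.φ_mem (smulV k b3))) hm
    rw [Subgroup.coe_mul, Subgroup.coe_inv, hd, hc.eq] at hfin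
    rwa [show S.K.φ (smulV k b3) * (((((p : O') : S.Gam) : G) * S.K.φ (smulV k b3))⁻¹ * c) =
      (((p : O') : S.Gam) : G)⁻¹ * c by group] at hfin

/-- With quotient `SL(2,3)` there are no cores of pairs. -/
theorem two_core_one (hδ : S.δ = 1) : S.TwoCore := S.two_core fun _ h1 h2 _ => S.cent_two_one hδ h1 h2

/-- With quotient `SL(2,3)` the centraliser of a coordinate and the involution is in the normaliser. -/
theorem one_norm_one (hδ : S.δ = 1) : S.OneNorm := fun _ ht h0 => S.cent_one_one hδ ht h0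

/-- If the centraliser of a coordinate and the involution is in the normaliser there are no cores of pairs. -/
theorem two_core_of_one (h : S.OneNorm) : S.TwoCore := by
  refine S.two_core fun c h1 _ ht => ?_
  obtain ⟨n, hn, hnt⟩ := S.lift_word_t cycle_spec.1
  have hmv : n * S.e 0 * n⁻¹ = S.e 1 := by rw [e, e, hn, cycle_spec.2]; rfl
  have hNn := S.mem_N_of_acts hn
  have h' := h (n⁻¹ * c * n) ((hnt.inv_left.mul_left ht).mul_left hnt) (by
    rw [show S.e 0 = n⁻¹ * S.e 1 * n by rw [← hmv]; group]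
    simpa [MulAut.conj_apply] using h1.map (MulAut.conj n⁻¹))
  have := mul_mem (mul_mem hNn h') (inv_mem hNn)
  rwa [show n * (n⁻¹ * c * n) * n⁻¹ = c by group] at this

end Setting

end Cfsg.Agent.O8Three
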