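import Cfsg.Agent.Lib.O8Three.Local

/-!
S3372: the elements of the normaliser of the torus commuting with the involution, the centraliser of the
coordinates, and the elements outside the torus are not fused into it.
-/

set_option autoImplicit false
set_option linter.style.haveILetI false
set_option linter.unusedSectionVars false
set_option linter.unusedSimpArgs false
set_option maxRecDepth 20000
set_option synthInstance.maxSize 5000

namespace Cfsg.Agent.O8Three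

open Subgroup
open Cfsg.Agent.HeisSLThree (pw pw_add pw_zero pw_one)
open scoped commutatorElement Pointwise

/-- The word changing one sign. -/
def flipW : Fin 3 → List (Fin 4)
  | 0 => [0, 3, 3, 2, 3, 0, 0]
  | 1 => [3, 3, 2, 0, 3]
  | 2 => [3, 0, 2, 3, 3]

/-- The word changing the signs of the last two coordinates. -/
def signW : Bool → Bool → List (Fin 4)
  | false, false => []
  | true, false => flipW 1
  | false, true => flipW 2
  | true, true => flipW 1 ++ flipW 2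

/-- The sign as a scalar. -/
def sg : Bool → ZMod 3
  | false => 1
  | true => 2

theorem flipW_spec : ∀ i : Fin 3, mulM MT (evW (flipW i)) = mulM (evW (flipW i)) MT ∧
    ∀ j : Fin 3, app (evW (flipW i)) (evv j) = if j = i then -evv j else evv j := by decide +kernel

theorem cycle_spec : mulM MT (evW [1]) = mulM (evW [1]) MT ∧ ∀ i : Fin 3, app (evW [1]) (evv i) = evv (i + 1) := by
  decide +kernel

theorem signW_spec : ∀ s t : Bool, mulM MT (evW (signW s t)) = mulM (evW (signW s t)) MT ∧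
    app (evW (signW s t)) (evv 0) = evv 0 ∧ app (evW (signW s t)) (evv 1) = smulV (sg s) (evv 1) ∧
    app (evW (signW s t)) (evv 2) = smulV (sg t) (evv 2) ∧
    app (evW (signW s t)) b1 = evv 0 + smulV (sg s) (evv 1) + smulV (sg t) (evv 2) := by decide +kernel

theorem MT_sq : mulM MT MT = oneM := by decide +kernel

theorem fix_E_maps : ∀ c : V4, (∀ v : V4, qf (app ((1, 0, 0, 0), c, (0, 0, 1, 0), (0, 0, 0, 1)) v) = qf v) →
    ((1, 0, 0, 0), c, (0, 0, 1, 0), (0, 0, 0, 1)) = oneM ∨ ((1, 0, 0, 0), c, (0, 0, 1, 0), (0, 0, 0, 1)) = MT := by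
  decide +kernel

theorem U_maps : ∀ (c : ZMod 3) (n : V4),
    (∀ v : V4, qf (app ((1, 0, 0, 0), (0, 1, 0, 0), (c, 0, 1, 0), n) v) = qf v) →
    ∃ i : Fin 3, powM MU i.val = ((1, 0, 0, 0), (0, 1, 0, 0), (c, 0, 1, 0), n) := by decide +kernel

theorem evv_distinct : ∀ i j : Fin 3, (evv i = evv j ∨ evv i = -evv j) → i = j := by decide +kernel

theorem evv_basis : b1 = evv 0 + evv 1 + evv 2 ∧ b3 = evv 1 + -evv 2 ∧ b4 = evv 0 + b1 := by decide +kernel

theorem app_neg (M : M4) (v : V4) : app M (-v) = -app M v := by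
  rw [eq_neg_iff_add_eq_zero, ← app_add, neg_add_cancel, app_zero]

/-- The map with given images of the coordinates and of `w`. -/
def mkM (i j k : Fin 3) (p q r s : Bool) : M4 :=
  (smulV (sg p) (evv i) + smulV (sg q) (evv j) + smulV (sg r) (evv k), smulV (sg s) b2,
    smulV (sg q) (evv j) + -smulV (sg r) (evv k),
    smulV (sg p) (evv i) + (smulV (sg p) (evv i) + smulV (sg q) (evv j) + smulV (sg r) (evv k)))

theorem mkM_fixed : ∀ i j k : Fin 3, ∀ p q r s : Bool, i ≠ j → i ≠ k → j ≠ k →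
    mulM (mkM i j k p q r s) (mulM (mkM i j k p q r s) (mkM i j k p q r s)) = oneM →
    mkM i j k p q r s ≠ oneM →
      ∃ a b : Bool, app (mkM i j k p q r s) (app (evW (signW a b)) b1) = app (evW (signW a b)) b1 := by
  decide +kernel

theorem sum_cube : ∀ i : Fin 3, i ≠ 0 → ∀ v : V4, v.2.1 = 0 →
    v + app (powM MU i.val) v + app (powM MU i.val) (app (powM MU i.val) v) = 0 → v.2.2.2 = 0 := by decide +kernel

theorem powM_MU_cube : ∀ i : Fin 3, powM MU i.val = oneM → i = 0 := by decide +kernel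

namespace Setting

variable {G : Type*} [Group G] [Finite G] (S : Setting G)

theorem φ_neg (v : V4) : S.K.φ (-v) = (S.K.φ v)⁻¹ :=
  (inv_eq_of_mul_eq_one_right (by rw [← S.K.φ_add, add_neg_cancel, S.K.φ_zero])).symm

/-- An induced map commuting with the involution is induced by an element commuting with it. -/
theorem lift_t {n : G} {M : M4} (h : S.K.Acts n M) (hc : mulM MT M = mulM M MT) :
    ∃ n', S.K.Acts n' M ∧ Commute n' S.F.t := by
  obtain ⟨a, ha⟩ : ∃ a, a = n⁻¹ * (S.F.t * n * S.F.t) := ⟨_, rfl⟩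
  have haA : a ∈ S.K.A := S.cent_A fun x hx => by
    obtain ⟨v, rfl⟩ := S.K.φ_surj hx
    have h1 : S.K.Acts (S.F.t * n * S.F.t) M := by
      have := (S.acts_t.mul h).mul S.acts_t
      rwa [hc, show mulM (mulM M MT) MT = M by
        have e : ∀ v, app (mulM (mulM M MT) MT) v = app M v := fun v => by
          rw [app_mulM, app_mulM, ← app_mulM MT MT, MT_sq, app_oneM]
        obtain ⟨x1, x2, x3, x4⟩ := app_cols M
        obtain ⟨y1, y2, y3, y4⟩ := app_cols (mulM (mulM M MT) MT)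
        rw [e] at y1 y2 y3 y4
        exact Prod.ext (y1.symm.trans x1) (Prod.ext (y2.symm.trans x2) (Prod.ext (y3.symm.trans x3) (y4.symm.trans x4)))] at this
    refine mul_inv_eq_iff_eq_mul.1 ?_
    rw [ha]
    calc n⁻¹ * (S.F.t * n * S.F.t) * S.K.φ v * (n⁻¹ * (S.F.t * n * S.F.t))⁻¹
        = n⁻¹ * ((S.F.t * n * S.F.t) * S.K.φ v * (S.F.t * n * S.F.t)⁻¹) * n := by group
      _ = S.K.φ v := by rw [h1, ← h]; group
  have hainv : S.F.t * a * S.F.t = a⁻¹ := by
    rw [ha, show S.F.t * (n⁻¹ * (S.F.t * n * S.F.t)) * S.F.t = S.F.t * n⁻¹ * S.F.t * n * (S.F.t * S.F.t) by group,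
      S.t_sq, mul_one, mul_inv_rev, inv_inv, mul_inv_rev, mul_inv_rev, S.F.toPair.toConf.inv_t]
    group
  refine ⟨n * (a * a), ?_, ?_⟩
  · have := h.mul (S.K.acts_of_mem (mul_mem haA haA))
    rwa [mulM_oneM] at this
  · have h3 : a * a * a = 1 := by
      have := S.K.exp _ haA
      rwa [pow_succ, pow_two] at this
    have e : S.F.t * (n * (a * a)) * S.F.t = n * (a * a) := by
      calc S.F.t * (n * (a * a)) * S.F.t
          = S.F.t * n * (S.F.t * S.F.t) * a * (S.F.t * S.F.t) * a * S.F.t := by rw [S.t_sq]; group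
        _ = S.F.t * n * S.F.t * ((S.F.t * a * S.F.t) * (S.F.t * a * S.F.t)) := by group
        _ = n * a * (a⁻¹ * a⁻¹) := by rw [hainv, ha]; group
        _ = n * (a * a) := by
          rw [show a⁻¹ = a * a from inv_eq_of_mul_eq_one_right (by rw [← mul_assoc, h3]),
            show n * a * (a * a * (a * a)) = n * (a * a * a) * (a * a) by group, h3, mul_one]
    show n * (a * a) * S.F.t = S.F.t * (n * (a * a))
    nth_rw 1 [← e]
    rw [mul_assoc, S.t_sq, mul_one]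

theorem lift_word_t {l : List (Fin 4)} (hc : mulM MT (evW l) = mulM (evW l) MT) :
    ∃ n, S.K.Acts n (evW l) ∧ Commute n S.F.t := by
  obtain ⟨n, hn⟩ := S.lift_word l
  exact S.lift_t hn hc

/-- The span of the coordinates. -/
def E : Subgroup G := closure (Set.range S.e)

theorem φ_mem_E {v : V4} (hv : v.2.1 = 0) : S.K.φ v ∈ S.E := by
  obtain ⟨a, b, c, rfl⟩ := evv_span v hv
  have hm : ∀ i, S.e i ∈ S.E := fun i => subset_closure (Set.mem_range_self i)
  rw [S.K.φ_add, S.K.φ_add, S.K.φ_smul, S.K.φ_smul, S.K.φ_smul]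
  exact mul_mem (mul_mem (pow_mem (hm 0) _) (pow_mem (hm 1) _)) (pow_mem (hm 2) _)

theorem E_le : S.E ≤ S.K.A := (closure_le _).2 (by rintro _ ⟨i, rfl⟩; exact S.K.φ_mem _)

theorem E_comm_t {x : G} (hx : x ∈ S.E) : Commute S.F.t x := by
  have hle : S.E ≤ centralizer ({S.F.t} : Set G) := (closure_le _).2 (by
    rintro _ ⟨i, rfl⟩
    exact mem_centralizer_singleton_iff.2 (S.commute_t_iff.2 (evv_norm i).2).eq.symm)
  exact (mem_centralizer_singleton_iff.1 (hle hx)).symm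

theorem mem_E {x : G} (hx : x ∈ S.K.A) (ht : Commute S.F.t x) : x ∈ S.E := by
  obtain ⟨v, rfl⟩ := S.K.φ_surj hx
  exact S.φ_mem_E (S.commute_t_iff.1 ht)

theorem commute_E {g : G} (h : ∀ i, Commute g (S.e i)) {v : V4} (hv : v.2.1 = 0) : Commute g (S.K.φ v) := by
  have hle : S.E ≤ centralizer ({g} : Set G) := (closure_le _).2 (by
    rintro _ ⟨i, rfl⟩
    exact mem_centralizer_singleton_iff.2 (h i).eq.symm)
  exact (mem_centralizer_singleton_iff.1 (hle (S.φ_mem_E hv))).symm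

/-- The centraliser of the coordinates. -/
theorem cent_E' {g : G} (h : ∀ i, Commute g (S.e i)) : g ∈ S.K.A ∨ S.F.t * g ∈ S.K.A := by
  have hC : g ∈ S.F.toPair.toConf.Cz := S.mem_Cz.2 (by rw [← S.K.φ_b1]; exact S.commute_E h rfl)
  obtain ⟨M, hM⟩ := S.acts_N (S.cent_out hC (v := b4) (by decide) (S.commute_E h rfl))
  have hfix : ∀ v : V4, v.2.1 = 0 → app M v = v := fun v hv => S.K.φ_inj (by
    rw [← hM, mul_inv_eq_iff_eq_mul]
    exact (S.commute_E h hv).eq)
  obtain ⟨c1, c2, c3, c4⟩ := app_cols M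
  have e : M = ((1, 0, 0, 0), M.2.1, (0, 0, 1, 0), (0, 0, 0, 1)) := by
    refine Prod.ext ?_ (Prod.ext rfl (Prod.ext ?_ ?_))
    · exact c1.symm.trans (hfix b1 rfl)
    · exact c3.symm.trans (hfix b3 rfl)
    · exact c4.symm.trans (hfix b4 rfl)
  have hq := S.qf_pres hM
  rw [e] at hq hM
  rcases fix_E_maps _ hq with e1 | e1 <;> rw [e1] at hM
  · exact Or.inl (S.cent_A fun a ha => S.K.commute_of_acts_one hM ha)
  · refine Or.inr (S.cent_A fun a ha => S.K.commute_of_acts_one (g := S.F.t * g) ?_ ha)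
    have := S.acts_t.mul hM
    rwa [MT_sq] at this

theorem cent_E {g : G} (h : ∀ i, Commute g (S.e i)) (ht : Commute g S.F.t) : g ∈ S.E ∨ S.F.t * g ∈ S.E := by
  rcases S.cent_E' h with h1 | h1
  · exact Or.inl (S.mem_E h1 ht.symm)
  · exact Or.inr (S.mem_E h1 ((Commute.refl S.F.t).mul_right ht.symm))

/-- An element commuting with the involution and normalising the coordinates normalises the torus. -/
theorem norm_E {g : G} (ht : Commute g S.F.t) (h : ∀ i, g * S.e i * g⁻¹ ∈ S.E) : g ∈ S.N := by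
  have hle : S.E.map (MulAut.conj g).toMonoidHom ≤ S.E := by
    rw [E, MonoidHom.map_closure, closure_le]
    rintro _ ⟨_, ⟨i, rfl⟩, rfl⟩
    exact h i
  have heq := eq_of_le_of_card_ge hle (by rw [card_map_of_injective (MulAut.conj g).injective])
  refine S.mem_N fun a ha => ?_
  obtain ⟨x, hx⟩ : ∃ x, x = g * a * g⁻¹ := ⟨_, rfl⟩
  have h3 : x * x * x = 1 := by
    have := S.K.exp _ ha
    rw [pow_succ, pow_two] at this
    rw [hx, show g * a * g⁻¹ * (g * a * g⁻¹) * (g * a * g⁻¹) = g * (a * a * a) * g⁻¹ by group, this]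
    group
  rw [← hx]
  have hc : ∀ i, Commute x (S.e i) := fun i => by
    obtain ⟨y, hy, e⟩ : S.e i ∈ S.E.map (MulAut.conj g).toMonoidHom := by
      rw [heq]; exact subset_closure (Set.mem_range_self i)
    rw [← e, hx]
    exact (S.K.comm a ha y (S.E_le hy)).map (MulAut.conj g)
  rcases S.cent_E' hc with h1 | h1
  · exact h1
  · have h2 : x * x ∈ S.K.A := by
      have hm : S.F.t * (S.F.t * x) * S.F.t⁻¹ ∈ S.K.A := S.acts_t.map_A h1
      rw [S.F.toPair.toConf.inv_t, ← mul_assoc, S.t_sq, one_mul] at hm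
      have := mul_mem hm h1
      rwa [show x * S.F.t * (S.F.t * x) = x * (S.F.t * S.F.t) * x by group, S.t_sq, mul_one] at this
    rw [show x = x * x * (x * x) by rw [← mul_assoc, h3, one_mul]]
    exact mul_mem h2 h2

/-- A map induced on the torus is monomial on the coordinates fixed by the involution. -/
theorem monoM {n : G} {M : M4} (hM : S.K.Acts n M) (ht : Commute n S.F.t) :
    (∃ σ : Equiv.Perm (Fin 3), ∀ i, app M (evv i) = evv (σ i) ∨ app M (evv i) = -evv (σ i)) ∧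
      (app M b2 = b2 ∨ app M b2 = -b2) := by
  classical
  have hmove : ∀ v, app MT (app M v) = app M (app MT v) := fun v => S.K.φ_inj (by
    rw [← S.acts_t, ← hM, ← hM, ← S.acts_t,
      show S.F.t * (n * S.K.φ v * n⁻¹) * S.F.t⁻¹ = S.F.t * n * S.K.φ v * (S.F.t * n)⁻¹ by group, ← ht.eq]
    group)
  constructor
  · have h : ∀ i, ∃ j, app M (evv i) = evv j ∨ app M (evv i) = -evv j := fun i => by
      have key : ∀ v : V4, app MT v = v ↔ v.2.1 = 0 := by decide
      refine evv_one _ ((key _).1 ?_) (by rw [S.qf_pres hM]; exact (evv_norm i).1)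
      rw [hmove, (key _).2 (evv_norm i).2]
    choose f hf using h
    have hinj : Function.Injective f := fun i j e => by
      refine evv_distinct i j ?_
      have hinjM : ∀ u v, app M u = app M v → u = v := fun u v e => S.K.φ_inj (by
        have h1 := hM u
        rw [e, ← hM v] at h1
        exact mul_left_cancel (mul_right_cancel h1))
      rcases hf i with h1 | h1 <;> rcases hf j with h2 | h2 <;> rw [e] at h1
      · exact Or.inl (hinjM _ _ (h1.trans h2.symm))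
      · exact Or.inr (hinjM _ _ (by rw [app_neg, h2, neg_neg, h1]))
      · exact Or.inr (hinjM _ _ (by rw [app_neg, h2, h1]))
      · exact Or.inl (hinjM _ _ (h1.trans h2.symm))
    exact ⟨Equiv.ofBijective f (Finite.injective_iff_bijective.1 hinj), hf⟩
  · have hq := S.qf_pres hM b2
    have hm := hmove b2
    rw [show app MT b2 = -b2 by decide, app_neg] at hm
    have key : ∀ v : V4, app MT v = -v → qf v = qf b2 → v = b2 ∨ v = -b2 := by decide +kernel
    exact key _ hm hq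

theorem mono {n : G} (ht : Commute n S.F.t) (h : ∀ i, n * S.e i * n⁻¹ ∈ S.E) :
    ∃ σ : Equiv.Perm (Fin 3), ∀ i, n * S.e i * n⁻¹ = S.e (σ i) ∨ n * S.e i * n⁻¹ = (S.e (σ i))⁻¹ := by
  obtain ⟨M, hM⟩ := S.acts_N (S.norm_E ht h)
  obtain ⟨⟨σ, hσ⟩, -⟩ := S.monoM hM ht
  refine ⟨σ, fun i => ?_⟩
  rw [e, e, hM, ← S.φ_neg]
  rcases hσ i with h1 | h1 <;> rw [h1]
  · exact Or.inl rfl
  · exact Or.inr rfl

/-- The elements of the fixed part of the core outside the torus are not fused into it. -/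
theorem outer {u : G} (hu : u ∈ S.F.toPair.toConf.U) (huA : u ∉ S.K.A) {a : G} (ha : a ∈ S.K.A) (h : G) :
    h * a * h⁻¹ ≠ u := by
  classical
  haveI : Fact (Nat.Prime 3) := ⟨Nat.prime_three⟩
  intro e
  set F := S.F
  set C := centralizer ({u} : Set G) with hC
  have huz : u ∉ zpowers F.z := fun hz => huA (by
    rw [← S.zpowers_p1] at hz; exact zpowers_le.2 S.K.m1 hz)
  set D := F.Q ⊓ C with hD
  have hD81 : Nat.card D = 81 := F.toPair.toConf.card_inf_centralizer hu.1 huz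
  have hDC : D ≤ C := inf_le_right
  obtain ⟨P, hP⟩ := ((F.toPair.toConf.isPGroup_Q.to_le (inf_le_left : D ≤ F.Q)).comap_of_injective C.subtype
    C.subtype_injective).exists_le_sylow
  set PG := (P : Subgroup C).map C.subtype with hPG
  have hDP : D ≤ PG := fun x hx => ⟨⟨x, hDC hx⟩, hP hx, rfl⟩
  have hHC : S.K.A.map (MulAut.conj h).toMonoidHom ≤ C := by
    rintro _ ⟨x, hx, rfl⟩
    rw [hC, ← e]
    exact mem_centralizer_singleton_iff.2 ((S.K.comm x hx a ha).map (MulAut.conj h)).eq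
  have hAp : IsPGroup 3 S.K.A := fun a => ⟨1, Subtype.ext (by simpa using S.K.exp _ a.2)⟩
  obtain ⟨P2, hP2⟩ := ((hAp.map (MulAut.conj h).toMonoidHom).comap_of_injective C.subtype
    C.subtype_injective).exists_le_sylow
  obtain ⟨d, hd⟩ := MulAction.exists_smul_eq C P2 P
  set J := (S.K.A.map (MulAut.conj h).toMonoidHom).map (MulAut.conj (d : G)).toMonoidHom with hJ
  have hJP : J ≤ PG := by
    rintro _ ⟨_, ⟨x, hx, rfl⟩, rfl⟩
    refine ⟨d * ⟨_, hHC ⟨x, hx, rfl⟩⟩ * d⁻¹, ?_, by simp⟩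
    rw [← hd, Sylow.coe_subgroup_smul]
    exact Subgroup.smul_mem_pointwise_smul _ (MulAut.conj d) _ (hP2 ⟨x, hx, rfl⟩)
  have hJ81 : Nat.card J = 81 := by
    rw [hJ, card_map_of_injective (MulAut.conj (d : G)).injective, card_map_of_injective (MulAut.conj h).injective,
      S.K.card]
  obtain ⟨a', ha', b', hb', hab⟩ : ∃ a ∈ D, ∃ b ∈ D, ⁅a, b⁆ ≠ 1 := by
    by_contra hn
    push Not at hn
    have := F.toPair.toConf.abel_le (H := D) inf_le_left
      fun a ha b hb => commutatorElement_eq_one_iff_commute.1 (hn a ha b hb)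
    omega
  have hne : D ≠ PG := by
    intro heq
    have hJD : J = D := eq_of_le_of_card_ge (heq ▸ hJP) (by rw [hJ81, hD81])
    refine hab (commutatorElement_eq_one_iff_commute.2 ?_)
    rw [← hJD] at ha' hb'
    obtain ⟨_, ⟨x, hx, rfl⟩, rfl⟩ := ha'
    obtain ⟨_, ⟨y, hy, rfl⟩, rfl⟩ := hb'
    exact ((S.K.comm x hx y hy).map (MulAut.conj h)).map (MulAut.conj (d : G))
  have hPGp : IsPGroup 3 PG := P.isPGroup'.map _
  haveI : Group.IsNilpotent ↥PG := hPGp.isNilpotent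
  have hlt : D.subgroupOf PG < ⊤ := lt_top_iff_ne_top.2 fun e =>
    hne (le_antisymm hDP (subgroupOf_eq_top.1 e))
  obtain ⟨⟨g, hgP⟩, hg, hgD⟩ := SetLike.exists_of_lt (Group.normalizerCondition_of_isNilpotent _ hlt)
  have hgconj : ∀ x ∈ D, g * x * g⁻¹ ∈ D := fun x hx =>
    (mem_normalizer_iff.1 hg ⟨x, hDP hx⟩).1 hx
  have hgen : zpowers ⁅a', b'⁆ = zpowers F.z := eq_of_le_of_card_ge
    (zpowers_le.2 (F.comm_mem _ ha'.1 _ hb'.1)) (by
      rw [F.toPair.toConf.card_Z, Nat.card_zpowers, orderOf_eq_prime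
        (F.exp_Q _ (F.toPair.toConf.Z_le_Q (F.comm_mem _ ha'.1 _ hb'.1))) hab])
  have hgz : g * F.z * g⁻¹ ∈ zpowers F.z := by
    obtain ⟨k, hk⟩ := mem_zpowers_iff.1 (hgen.symm ▸ mem_zpowers F.z : F.z ∈ zpowers ⁅a', b'⁆)
    rw [← hk, ← conj_zpow, show g * ⁅a', b'⁆ * g⁻¹ = ⁅g * a' * g⁻¹, g * b' * g⁻¹⁆ by
      simp only [commutatorElement_def]; group, hk]
    exact zpow_mem (F.comm_mem _ (hgconj a' ha').1 _ (hgconj b' hb').1) k
  obtain ⟨j, hj⟩ := hPGp ⟨g, hgP⟩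
  have hj' : g ^ 3 ^ j = 1 := congrArg Subtype.val hj
  have hgC : g ∈ F.toPair.toConf.Cz := by
    obtain ⟨i, hi⟩ := mem_zpowers_iff.1 hgz
    have hz3 : F.z ^ (3 : ℕ) = 1 := F.toPair.toConf.z3
    have hsq : (g * g) * F.z * (g * g)⁻¹ = F.z ^ (i * i) := by
      rw [show g * g * F.z * (g * g)⁻¹ = g * (g * F.z * g⁻¹) * g⁻¹ by group, ← hi, ← conj_zpow, ← hi, zpow_mul]
    have hred : F.z ^ (i * i) = F.z ∨ F.z ^ (i * i) = 1 := by
      have h3 : ∀ k : ℤ, F.z ^ k = F.z ^ (k % 3) := fun k => by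
        conv_lhs => rw [← Int.emod_add_mul_ediv k 3, zpow_add, zpow_mul,
          show (3 : ℤ) = ((3 : ℕ) : ℤ) from rfl, zpow_natCast, hz3, one_zpow, mul_one]
        rfl
      have key : ∀ r : ℤ, r = 0 ∨ r = 1 ∨ r = 2 → r * r % 3 = 0 ∨ r * r % 3 = 1 := by
        rintro r (rfl | rfl | rfl) <;> decide
      rw [h3, Int.mul_emod]
      rcases key (i % 3) (by omega) with e | e <;> rw [e]
      · exact Or.inr (zpow_zero _)
      · exact Or.inl (zpow_one _)
    have hgg : (g * g) * F.z * (g * g)⁻¹ = F.z := by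
      rcases hred with e | e
      · rw [hsq, e]
      · rw [e] at hsq
        exact absurd (mul_eq_left.1 (mul_inv_eq_one.1 hsq)) F.z_ne
    have hm : g * g ∈ F.toPair.toConf.Cz := F.toPair.toConf.mem_Cz.2 (mul_inv_eq_iff_eq_mul.1 hgg)
    obtain ⟨k, hk⟩ : ∃ k, 2 * k = 3 ^ j + 1 := ⟨(3 ^ j + 1) / 2, by
      have : 3 ^ j % 2 = 1 := by rw [Nat.pow_mod]; simp
      omega⟩
    have := pow_mem hm k
    rwa [← pow_two, ← pow_mul, hk, pow_succ, hj', one_mul] at this
  have hgu : Commute g u := mem_centralizer_singleton_iff.1 (map_subtype_le _ hgP)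
  have hgQ : g ∉ F.Q := fun hq => hgD ⟨hq, mem_centralizer_singleton_iff.2 hgu⟩
  -- the element in a Sylow subgroup of the centraliser of `z`
  set Cz := F.toPair.toConf.Cz
  have hgp : IsPGroup 3 (zpowers g) := hPGp.to_le (zpowers_le.2 hgP)
  obtain ⟨P3, hP3⟩ := (hgp.comap_of_injective Cz.subtype Cz.subtype_injective).exists_le_sylow
  obtain ⟨P4, hP4⟩ := (F.isPGroup_S.comap_of_injective Cz.subtype Cz.subtype_injective).exists_le_sylow
  obtain ⟨c, hc⟩ := MulAction.exists_smul_eq Cz P4 P3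
  have hP4eq : (P4 : Subgroup Cz).map Cz.subtype = F.S := by
    have hle : F.S ≤ (P4 : Subgroup Cz).map Cz.subtype := fun x hx => ⟨⟨x, F.S_le hx⟩, hP4 hx, rfl⟩
    exact (eq_of_le_of_card_ge hle (by rw [S.card_FS]; exact S.three _ (P4.isPGroup'.map _))).symm
  have hg' : (c : G)⁻¹ * g * c ∈ F.S := by
    have hm : (⟨g, hgC⟩ : Cz) ∈ ((c • P4 : Sylow 3 Cz) : Subgroup Cz) := hc.symm ▸ hP3 (mem_zpowers g)
    rw [Sylow.coe_subgroup_smul, Subgroup.mem_pointwise_smul_iff_inv_smul_mem] at hm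
    rw [← hP4eq]
    exact ⟨_, hm, by simp⟩
  obtain ⟨r, hr, hn⟩ := S.decomp c.2
  have hnS : ∀ x ∈ F.S, (r⁻¹ * c) * x * (r⁻¹ * c)⁻¹ ∈ F.S := by
    intro x hx
    have hnC : r⁻¹ * (c : G) ∈ Cz := mul_mem (inv_mem (S.R_le hr)) c.2
    have hsA : F.s ∈ S.K.A := S.hA.symm ▸ F.s_mem_A
    obtain ⟨k, q, hq, rfl⟩ := F.toPair.toConf.exists_zpow F.S_le F.isPGroup_S (mem_sup_right (mem_zpowers _)) hx F.s_not
    rw [show r⁻¹ * (c : G) * (q * F.s ^ k) * (r⁻¹ * (c : G))⁻¹ = r⁻¹ * (c : G) * q * (r⁻¹ * (c : G))⁻¹ *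
      (r⁻¹ * (c : G) * F.s ^ k * (r⁻¹ * (c : G))⁻¹) by group]
    exact mul_mem (mem_sup_left (F.normal _ hnC q hq))
      (F.A_le_S (S.hA ▸ (mem_normalizer_iff.1 hn _).1 (zpow_mem hsA k)))
  have hg'' : r⁻¹ * g * r ∈ F.S := by
    have := hnS _ hg'
    rwa [show r⁻¹ * (c : G) * ((c : G)⁻¹ * g * c) * (r⁻¹ * (c : G))⁻¹ = r⁻¹ * g * r by group] at this
  have hg''u : Commute (r⁻¹ * g * r) u :=
    ((S.R_comm_U hr hu).inv_left.mul_left hgu).mul_left (S.R_comm_U hr hu)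
  have hg''Q : r⁻¹ * g * r ∉ F.Q := fun hq => hgQ (by
    have := F.normal _ (S.R_le hr) _ hq
    rwa [show r * (r⁻¹ * g * r) * r⁻¹ = g by group] at this)
  obtain ⟨k, q, hq, hsq⟩ := F.toPair.toConf.exists_zpow F.S_le F.isPGroup_S hg''
    (mem_sup_right (mem_zpowers F.s)) hg''Q
  refine huA (S.hA.symm ▸ F.B_le_A (F.mem_B_of hu.1 ?_))
  rw [hsq, show ⁅q * (r⁻¹ * g * r) ^ k, u⁆ = q * ⁅(r⁻¹ * g * r) ^ k, u⁆ * q⁻¹ * ⁅q, u⁆ by
    simp only [commutatorElement_def]; group, commutatorElement_eq_one_iff_commute.2 (hg''u.zpow_left k),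
    mul_one, mul_inv_cancel, one_mul]
  exact F.comm_mem _ hq _ hu.1

/-- The elements of order three normalising the coordinates outside their span are not fused into the torus. -/
theorem outside {b : G} (hb : Commute b S.F.t) (hN : ∀ i, b * S.e i * b⁻¹ ∈ S.E) (hb3 : b ^ 3 = 1)
    (hbE : b ∉ S.E) {a : G} (ha : a ∈ S.K.A) (h : G) : h * a * h⁻¹ ≠ b := by
  classical
  intro e
  obtain ⟨M, hM⟩ := S.acts_N (S.norm_E hb hN)
  obtain ⟨⟨σ, hσ⟩, hw⟩ := S.monoM hM hb
  have h3 : mulM M (mulM M M) = oneM := S.K.acts_unique (by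
    have := hM.mul (hM.mul hM)
    rwa [show b * (b * b) = b ^ 3 by rw [pow_succ, pow_two, mul_assoc], hb3] at this) S.K.acts_one
  have hMne : M ≠ oneM := fun e1 => hbE (S.mem_E (S.cent_A fun a ha =>
    S.K.commute_of_acts_one (e1 ▸ hM) ha) hb.symm)
  have hsg : ∀ i, ∃ p : Bool, app M (evv i) = smulV (sg p) (evv (σ i)) := fun i => by
    rcases hσ i with h1 | h1
    · exact ⟨false, by rw [h1]; simp [sg, smulV]⟩
    · refine ⟨true, ?_⟩
      rw [h1]
      have key : ∀ v : V4, -v = smulV 2 v := by decide +kernel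
      exact key _
  obtain ⟨p, hp⟩ := hsg 0
  obtain ⟨q, hq⟩ := hsg 1
  obtain ⟨r, hr⟩ := hsg 2
  obtain ⟨s, hs⟩ : ∃ s, app M b2 = smulV (sg s) b2 := by
    rcases hw with h1 | h1
    · exact ⟨false, by rw [h1]; simp [sg, smulV]⟩
    · exact ⟨true, by rw [h1]; decide⟩
  obtain ⟨e1, e3, e4⟩ := evv_basis
  obtain ⟨c1, c2, c3, c4⟩ := app_cols M
  have hMk : M = mkM (σ 0) (σ 1) (σ 2) p q r s := by
    refine Prod.ext ?_ (Prod.ext ?_ (Prod.ext ?_ ?_))
    · rw [← c1, e1, app_add, app_add, hp, hq, hr]; rfl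
    · rw [← c2, hs]; rfl
    · rw [← c3, e3, app_add, app_neg, hq, hr]; rfl
    · rw [← c4, e4, app_add, e1, app_add, app_add, hp, hq, hr]; rfl
  obtain ⟨x, y, hxy⟩ := mkM_fixed _ _ _ p q r s (by simp) (by simp) (by simp) (hMk ▸ h3) (hMk ▸ hMne)
  rw [← hMk] at hxy
  obtain ⟨n, hn, hnt⟩ := S.lift_word_t (signW_spec x y).1
  obtain ⟨b', hb'⟩ : ∃ b', b' = n⁻¹ * b * n := ⟨_, rfl⟩
  have hb'C : b' ∈ S.F.toPair.toConf.Cz := S.mem_Cz.2 (by
    refine mul_inv_eq_iff_eq_mul.1 ?_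
    calc b' * S.K.p1 * b'⁻¹ = n⁻¹ * (b * (n * S.K.p1 * n⁻¹) * b⁻¹) * n := by rw [hb']; group
      _ = n⁻¹ * (n * S.K.p1 * n⁻¹) * n := by rw [← S.K.φ_b1, hn, hM, hxy]
      _ = S.K.p1 := by group)
  have hb't : Commute b' S.F.t := hb' ▸ ((hnt.inv_left.mul_left hb).mul_left hnt)
  have hb'N : b' ∈ S.N := hb' ▸ mul_mem (mul_mem (inv_mem (S.mem_N_of_acts hn)) (S.mem_N_of_acts hM)) (S.mem_N_of_acts hn)
  have hb'3 : b' * b' * b' = 1 := by
    rw [pow_succ, pow_two] at hb3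
    rw [hb', show n⁻¹ * b * n * (n⁻¹ * b * n) * (n⁻¹ * b * n) = n⁻¹ * (b * b * b) * n by group, hb3]
    group
  have hb'A : b' ∉ S.K.A := fun hA => hbE (S.mem_E (by
    have := (mem_normalizer_iff.1 (S.mem_N_of_acts hn) _).1 hA
    rwa [hb', show n * (n⁻¹ * b * n) * n⁻¹ = b by group] at this) hb.symm)
  -- it lies in the fixed part of the Sylow subgroup
  have hb'P : b' ∈ S.P := by
    haveI : Fact (Nat.Prime 3) := ⟨Nat.prime_three⟩
    have hgp : IsPGroup 3 (zpowers b') := by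
      rintro ⟨x, hx⟩
      obtain ⟨k, rfl⟩ := mem_zpowers_iff.1 hx
      refine ⟨1, Subtype.ext ?_⟩
      show (b' ^ k) ^ (3 ^ 1) = 1
      rw [← zpow_natCast, ← zpow_mul, mul_comm, zpow_mul, zpow_natCast, pow_one, pow_succ, pow_two, hb'3, one_zpow]
    have hcl : ∀ g, g ∈ S.N → g ∈ S.F.toPair.toConf.Cz → Commute g S.F.t → ∀ x ∈ S.P, g * x * g⁻¹ ∈ S.P := by
      intro g hgN hgC hgt x hx
      have hmap : S.P.map (MulAut.conj g).toMonoidHom ≤ S.P := by
        rw [P, Subgroup.map_sup, MonoidHom.map_zpowers]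
        refine sup_le ?_ (zpowers_le.2 ?_)
        · rintro _ ⟨u, hu, rfl⟩
          exact mem_sup_left (S.F.toPair.toConf.conjU hgC hu)
        · have hA' := (mem_normalizer_iff.1 hgN _).1 S.K.m4
          obtain ⟨v, hv⟩ := S.K.φ_surj hA'
          have hv0 : v.2.1 = 0 := S.commute_t_iff.1 (by
            rw [hv]
            exact (hgt.symm.mul_right (mul_inv_eq_iff_eq_mul.1 S.p4_t)).mul_right hgt.symm.inv_right)
          show g * S.K.p4 * g⁻¹ ∈ _
          rw [← hv, Coord.φ, hv0, pw_zero, mul_one]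
          exact mul_mem (mul_mem (pow_mem (mem_sup_left (S.F.toPair.toConf.Z_le_U S.p1_mem)) _)
            (pow_mem (mem_sup_left S.p3_mem) _)) (pow_mem (mem_sup_right (mem_zpowers _)) _)
      exact hmap ⟨x, hx, rfl⟩
    have hnorm : zpowers b' ≤ normalizer (S.P : Set G) := zpowers_le.2 (mem_normalizer_iff.2 fun x =>
      ⟨hcl b' hb'N hb'C hb't x, fun hx => by
        have := hcl b'⁻¹ (inv_mem hb'N) (inv_mem hb'C) hb't.inv_left _ hx
        rwa [show b'⁻¹ * (b' * x * b'⁻¹) * b'⁻¹⁻¹ = x by group] at this⟩)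
    have hle : zpowers b' ⊔ S.P ≤ S.L := sup_le (zpowers_le.2 (S.mem_L.2 ⟨hb'C, hb't⟩)) S.P_le
    have hp := hgp.to_sup_of_normal_right' S.isPGroup_P hnorm
    obtain ⟨j, hj⟩ := IsPGroup.iff_card.1 hp
    have hd := card_dvd_of_le hle
    rw [S.card_L, hj] at hd
    have h2 : 3 ^ j ∣ 81 * 16 := hd.trans (by rcases S.δ_cases with e | e <;> rw [e] <;> norm_num)
    have h3 := Nat.le_of_dvd (by norm_num)
      ((Nat.Coprime.pow_left j (by norm_num : Nat.Coprime 3 16)).dvd_of_dvd_mul_right h2)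
    have heq := eq_of_le_of_card_ge (le_sup_right : S.P ≤ zpowers b' ⊔ S.P) (by
      rw [hj]; exact h3.trans S.card_P)
    rw [heq]
    exact mem_sup_left (mem_zpowers b')
  obtain ⟨k, u, hu, hbu⟩ := S.F.toPair.toConf.exists_zpow S.F.S_le S.F.isPGroup_S
    (S.F.A_le_S (S.hA ▸ S.K.m4)) (S.P_le_S hb'P) S.p4_not
  have he4 : Commute (S.K.p4 ^ k) S.F.t := Commute.zpow_left (show Commute S.K.p4 S.F.t from (mul_inv_eq_iff_eq_mul.1 S.p4_t).symm) k
  have huU : u ∈ S.F.toPair.toConf.U := ⟨hu, mul_inv_eq_iff_eq_mul.2 (by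
    have h1 : u = b' * (S.K.p4 ^ k)⁻¹ := by rw [hbu, mul_inv_cancel_right]
    rw [h1]
    exact (hb't.mul_left he4.inv_left).eq.symm)⟩
  obtain ⟨Mu, hMu⟩ := S.acts_N (S.mem_N fun x hx => S.hA.symm ▸ S.F.mapQ hu (S.hA ▸ hx))
  obtain ⟨i, hi⟩ : ∃ i : Fin 3, powM MU i.val = Mu := by
    obtain ⟨d1, d2, d3, d4⟩ := app_cols Mu
    have f1 : app Mu b1 = b1 := S.K.φ_inj (by
      rw [← hMu, S.K.φ_b1, S.F.toPair.toConf.fix_Z (S.F.Q_le hu) S.p1_mem])
    have f2 : app Mu b2 = b2 := S.K.φ_inj (by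
      rw [← hMu, S.K.φ_b2, mul_inv_eq_iff_eq_mul]
      exact (S.F.toPair.toConf.commute_WU S.p2_mem huU).eq.symm)
    obtain ⟨c, f3⟩ : ∃ c : ZMod 3, app Mu b3 = (c, 0, 1, 0) := by
      have hcz := S.F.comm_mem _ hu _ S.p3_mem_Q
      rw [← S.zpowers_p1] at hcz
      obtain ⟨m, hm⟩ := mem_zpowers_iff.1 hcz
      refine ⟨((m % 3).toNat : ZMod 3), S.K.φ_inj ?_⟩
      rw [← hMu, S.K.φ_b3, show u * S.K.p3 * u⁻¹ = ⁅u, S.K.p3⁆ * S.K.p3 by
        simp only [commutatorElement_def]; group, ← hm]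
      simp only [Coord.φ, pw_zero, pw_one, mul_one]
      congr 1
      rw [pw, ← zpow_natCast, zpow_eq_zpow_iff_modEq, orderOf_eq_prime (S.K.exp _ S.K.m1) S.p1_ne,
        ZMod.val_natCast, Int.natCast_mod, Int.toNat_of_nonneg (Int.emod_nonneg _ (by norm_num))]
      exact (Int.mod_modEq _ _).symm.trans (Int.mod_modEq _ _).symm
    have e : Mu = ((1, 0, 0, 0), (0, 1, 0, 0), (c, 0, 1, 0), Mu.2.2.2) :=
      Prod.ext (d1.symm.trans f1) (Prod.ext (d2.symm.trans f2) (Prod.ext (d3.symm.trans f3) rfl))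
    have hq := S.qf_pres hMu
    rw [e] at hq ⊢
    exact U_maps c _ hq
  have hpU : ∀ n : ℕ, S.K.Acts (S.qu ^ n) (powM MU n) := fun n => by
    induction n with
    | zero => rw [pow_zero]; exact S.K.acts_one
    | succ n ih => rw [pow_succ]; exact ih.mul S.acts_u
  have hbA : ∀ n : ℕ, S.K.Acts b' (powM MU n) → n = i.val → ∃ v : V4, b' = S.qu ^ n * S.K.φ v ∧ v.2.1 = 0 := by
    intro n hbn _
    have hA : (S.qu ^ n)⁻¹ * b' ∈ S.K.A := S.cent_A fun x hx => by
      obtain ⟨v, rfl⟩ := S.K.φ_surj hx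
      refine mul_inv_eq_iff_eq_mul.1 ?_
      calc (S.qu ^ n)⁻¹ * b' * S.K.φ v * ((S.qu ^ n)⁻¹ * b')⁻¹
          = (S.qu ^ n)⁻¹ * (b' * S.K.φ v * b'⁻¹) * S.qu ^ n := by group
        _ = S.K.φ v := by rw [hbn, ← hpU n v]; group
    obtain ⟨v, hv⟩ := S.K.φ_surj hA
    refine ⟨v, by rw [hv, mul_inv_cancel_left], S.commute_t_iff.1 ?_⟩
    rw [hv]
    exact (Commute.pow_right (show Commute S.F.t S.qu from mul_inv_eq_iff_eq_mul.1 S.qu_mem.2) n).inv_right.mul_right hb't.symm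
  have hbMu : S.K.Acts b' (powM MU i.val) := by
    have := hMu.mul (S.K.acts_of_mem (zpow_mem S.K.m4 k))
    rwa [← hbu, mulM_oneM, ← hi] at this
  obtain ⟨v, hbv, hv0⟩ := hbA i.val hbMu rfl
  have hi0 : i ≠ 0 := fun e0 => hb'A (by
    rw [hbv, e0]
    simpa using S.K.φ_mem v)
  have hq3 : (S.qu ^ i.val) * (S.qu ^ i.val) * (S.qu ^ i.val) = 1 := by
    rw [← pow_add, ← pow_add, show i.val + i.val + i.val = 3 * i.val by ring, pow_mul,
      S.F.exp_Q _ S.qu_mem.1, one_pow]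
  have hve : v.2.2.2 = 0 := by
    refine sum_cube i hi0 v hv0 ?_
    rw [← S.K.φ_eq_one, S.K.φ_add, S.K.φ_add, ← hpU, ← hpU, ← hpU]
    obtain ⟨σ', hσ'⟩ : ∃ σ', σ' = S.qu ^ i.val := ⟨_, rfl⟩
    rw [← hσ'] at hq3 hbv ⊢
    have hinv : σ'⁻¹ = σ' * σ' := inv_eq_of_mul_eq_one_right (by rw [← mul_assoc, hq3])
    rw [hbv] at hb'3
    have e2 : σ' * S.K.φ v * (σ' * S.K.φ v) * (σ' * S.K.φ v) =
        (σ' * S.K.φ v * σ'⁻¹) * (σ' * (σ' * S.K.φ v * σ'⁻¹) * σ'⁻¹) *
          ((σ' * σ' * σ') * S.K.φ v) := by group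
    rw [e2, hq3, one_mul] at hb'3
    have ca : Commute (S.K.φ v) (σ' * S.K.φ v * σ'⁻¹ * (σ' * (σ' * S.K.φ v * σ'⁻¹) * σ'⁻¹)) := by
      have hm : S.qu ^ i.val * S.K.φ v * (S.qu ^ i.val)⁻¹ ∈ S.K.A := (hpU _).map_A (S.K.φ_mem v)
      refine S.K.comm _ (S.K.φ_mem v) _ (mul_mem ?_ ?_) <;> rw [hσ']
      · exact hm
      · exact (hpU _).map_A hm
    rw [mul_assoc, ca.eq]
    exact hb'3
  have hb'U : b' ∈ S.F.toPair.toConf.U := by
    rw [hbv, Coord.φ, hv0, hve, pw_zero, pw_zero, mul_one, mul_one]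
    exact mul_mem (pow_mem S.qu_mem _)
      (mul_mem (pow_mem (S.F.toPair.toConf.Z_le_U S.p1_mem) _) (pow_mem S.p3_mem _))
  exact S.outer hb'U hb'A ha (n⁻¹ * h) (by rw [hb', ← e]; group)

end Setting

end Cfsg.Agent.O8Three
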