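import Cfsg.Agent.Lib.O8Three.Norm

/-!
S3372: the orthonormal coordinates, the centraliser of `z` as the product of the group of order eight with its part
in the normaliser of the torus, and the centralisers of pairs of torus elements meeting a conjugate of `z`.
-/

set_option autoImplicit false
set_option linter.style.haveILetI false
set_option linter.unusedSectionVars false
set_option maxRecDepth 20000
set_option synthInstance.maxSize 5000

namespace Cfsg.Agent.O8Three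

open Subgroup
open Cfsg.Agent.HeisSLThree (pw pw_add pw_zero pw_one)
open scoped commutatorElement Pointwise

/-- The bilinear form. -/
def bf (a b : V4) : ZMod 3 := a.1 * b.2.2.2 + a.2.2.2 * b.1 + a.2.1 * b.2.1 - a.2.2.1 * b.2.2.1

/-- The three orthonormal vectors fixed by the involution. -/
def evv : Fin 3 → V4
  | 0 => (2, 0, 0, 1)
  | 1 => (1, 0, 2, 1)
  | 2 => (1, 0, 1, 1)

theorem polar : ∀ a b : V4, bf a b = 2 * (qf (a + b) - qf a - qf b) := by decide +kernel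

theorem evv_norm : ∀ i, qf (evv i) = 1 ∧ (evv i).2.1 = 0 := by decide +kernel

theorem evv_one : ∀ v : V4, v.2.1 = 0 → qf v = 1 → ∃ i, v = evv i ∨ v = -evv i := by decide +kernel

theorem evv_sum : evv 0 + evv 1 + evv 2 = b1 := by decide +kernel

theorem evv_span : ∀ v : V4, v.2.1 = 0 → ∃ a b c : ZMod 3,
    v = smulV a (evv 0) + smulV b (evv 1) + smulV c (evv 2) := by decide +kernel

theorem dvd_eight {n : ℕ} (h : n ∣ 8) : n = 1 ∨ n = 2 ∨ n = 4 ∨ n = 8 := by
  have hle := Nat.le_of_dvd (by norm_num) h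
  have key : ∀ m : Fin 9, (m : ℕ) ∣ 8 → (m : ℕ) = 1 ∨ (m : ℕ) = 2 ∨ (m : ℕ) = 4 ∨ (m : ℕ) = 8 := by decide
  exact key ⟨n, by omega⟩ h

namespace Setting

variable {G : Type*} [Group G] [Finite G] (S : Setting G)

/-- The three coordinates. -/
def e (i : Fin 3) : G := S.K.φ (evv i)

/-- The torus is determined inside the part of a Sylow subgroup normalised. -/
theorem mem_N_of_Cz {g a : G} (hg : g ∈ S.F.toPair.toConf.Cz) (ha : a ∈ S.K.A) (haQ : a ∉ S.F.Q)
    (hga : g * a * g⁻¹ ∈ S.F.S) : g ∈ S.N := by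
  set F := S.F
  have haS : a ∈ F.S := F.A_le_S (S.hA ▸ ha)
  have hmap : F.S.map (MulAut.conj g).toMonoidHom ≤ F.S := by
    rintro _ ⟨x, hx, rfl⟩
    obtain ⟨k, q, hq, rfl⟩ := F.toPair.toConf.exists_zpow F.S_le F.isPGroup_S haS hx haQ
    show g * (q * a ^ k) * g⁻¹ ∈ F.S
    rw [show g * (q * a ^ k) * g⁻¹ = g * q * g⁻¹ * (g * a ^ k * g⁻¹) by group, ← conj_zpow]
    exact mul_mem (mem_sup_left (F.normal g hg q hq)) (zpow_mem hga k)
  refine S.mem_N fun x hx => ?_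
  have h := F.unique (P := F.S) F.S_le F.isPGroup_S (mem_sup_right (mem_zpowers _))
    (H := F.A.map (MulAut.conj g).toMonoidHom) ((Subgroup.map_mono F.A_le_S).trans hmap)
    (by rintro _ ⟨b, hb, rfl⟩ _ ⟨c, hc, rfl⟩; exact (F.A_comm hb hc).map (MulAut.conj g))
    (by rw [card_map_of_injective (MulAut.conj g).injective, F.card_A])
  rw [S.hA] at hx ⊢
  exact h ▸ ⟨x, hx, rfl⟩

/-- Centralising a torus element outside the core puts the centraliser of `z` into the normaliser. -/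
theorem cent_out {g : G} (hg : g ∈ S.F.toPair.toConf.Cz) {v : V4} (hv : v.2.2.2 ≠ 0)
    (hc : Commute g (S.K.φ v)) : g ∈ S.N := by
  refine S.mem_N_of_Cz hg (S.K.φ_mem v) (fun h => hv (S.coord_Q h)) ?_
  rw [hc.eq, mul_inv_cancel_right]
  exact S.F.A_le_S (S.hA ▸ S.K.φ_mem v)

theorem bf_pres {n : G} {M : M4} (h : S.K.Acts n M) (a b : V4) : bf (app M a) (app M b) = bf a b := by
  rw [polar, polar, ← app_add, S.qf_pres h, S.qf_pres h, S.qf_pres h]

/-- Centralising two torus elements which are not orthogonal, one of them singular, normalises the torus. -/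
theorem cent_good {v a : V4} (hv : v ≠ 0) (hq : qf v = 0) (hb : bf v a ≠ 0) {g : G}
    (h1 : Commute g (S.K.φ v)) (h2 : Commute g (S.K.φ a)) : g ∈ S.N := by
  obtain ⟨w, -, hw⟩ := toZ_all v hv hq
  obtain ⟨m, hm⟩ := S.lift_word w
  obtain ⟨M', hM'⟩ := S.acts_N (inv_mem (S.mem_N_of_acts hm))
  have hinv : mulM M' (evW w) = oneM := S.K.acts_unique (by
    have := hM'.mul hm
    rwa [inv_mul_cancel] at this) S.K.acts_one
  have hv' : app M' v = b1 := by rw [← hw, ← app_mulM, hinv, app_oneM]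
  have k1 : m⁻¹ * S.K.φ v * m = S.K.p1 := by
    have := hM' v
    rwa [inv_inv, hv', S.K.φ_b1] at this
  have k2 : m⁻¹ * S.K.φ a * m = S.K.φ (app M' a) := by
    have := hM' a
    rwa [inv_inv] at this
  have hgC : m⁻¹ * g * m ∈ S.F.toPair.toConf.Cz := S.mem_Cz.2 (by
    have := h1.map (MulAut.conj m⁻¹)
    simpa [k1] using this)
  have hga : Commute (m⁻¹ * g * m) (S.K.φ (app M' a)) := by
    have := h2.map (MulAut.conj m⁻¹)
    simpa [k2] using this
  have hne : (app M' a).2.2.2 ≠ 0 := by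
    have h := S.bf_pres hM' v a
    rw [hv'] at h
    simp [bf, b1] at h
    rw [h]; exact hb
  have := S.cent_out hgC hne hga
  have h' := mul_mem (mul_mem (S.mem_N_of_acts hm) this) (inv_mem (S.mem_N_of_acts hm))
  rwa [show m * (m⁻¹ * g * m) * m⁻¹ = g by group] at h'

theorem commute_t_iff {v : V4} : Commute S.F.t (S.K.φ v) ↔ v.2.1 = 0 := by
  have key : ∀ v : V4, app MT v = v ↔ v.2.1 = 0 := by decide
  rw [← key]
  constructor
  · intro h
    have ht := S.acts_t v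
    rw [mul_inv_eq_iff_eq_mul.2 h.eq] at ht
    exact (S.K.φ_inj ht).symm
  · intro h
    have ht := S.acts_t v
    rw [h] at ht
    exact mul_inv_eq_iff_eq_mul.1 ht

theorem t_sq : S.F.t * S.F.t = 1 := S.F.t_sq

/-- A part of the centraliser of `z` commutes with the involution modulo the core. -/
theorem exists_fix {c : G} (hc : c ∈ S.F.toPair.toConf.Cz) :
    ∃ l ∈ S.F.toPair.toConf.Cz, Commute l S.F.t ∧ ∃ k ∈ S.F.Q, c = l * k := by
  set F := S.F
  obtain ⟨h, hh, e⟩ := F.toPair.toConf.conj_t_mem hc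
  have hinv : F.t * h * F.t⁻¹ = h⁻¹ := by
    have h1 : (F.t * h) * (F.t * h) = 1 := by
      rw [← e, show c⁻¹ * F.t * c * (c⁻¹ * F.t * c) = c⁻¹ * (F.t * F.t) * c by group, F.t_sq]
      group
    rw [show F.t * h * F.t⁻¹ = F.t * h * (F.t * h) * h⁻¹ * (F.t * F.t)⁻¹ by group, h1, F.t_sq]
    group
  refine ⟨c * h, mul_mem hc (F.Q_le hh), ?_, h⁻¹, inv_mem hh, by group⟩
  have h3 : h * h * h = 1 := by
    have := F.exp_Q h hh
    rwa [pow_succ, pow_two] at this
  have h1 : h⁻¹ * F.t = F.t * h := by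
    rw [← hinv, inv_mul_cancel_right]
  have key : (c * h)⁻¹ * F.t * (c * h) = F.t := by
    calc (c * h)⁻¹ * F.t * (c * h) = h⁻¹ * (c⁻¹ * F.t * c) * h := by group
      _ = h⁻¹ * F.t * (h * h) := by rw [e]; group
      _ = F.t * (h * h * h) := by rw [h1]; group
      _ = F.t := by rw [h3, mul_one]
  show c * h * F.t = F.t * (c * h)
  nth_rw 1 [← key]
  group

theorem t_not_one : S.F.t ≠ 1 := fun h => by
  have h27 := S.F.toPair.toConf.card_U
  have hU : S.F.toPair.toConf.U = S.F.Q := le_antisymm (fun q hq => hq.1) fun q hq => ⟨hq, by rw [h]; group⟩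
  rw [hU, S.F.card_Q] at h27
  omega

/-- The part of the centraliser of `z` fixed by the involution. -/
def L : Subgroup G := S.F.toPair.toConf.Cz ⊓ centralizer ({S.F.t} : Set G)

theorem mem_L {c : G} : c ∈ S.L ↔ c ∈ S.F.toPair.toConf.Cz ∧ Commute c S.F.t := by
  rw [L, mem_inf]
  exact and_congr Iff.rfl mem_centralizer_singleton_iff

theorem p3_mem_L : S.K.p3 ∈ S.L := S.mem_L.2 ⟨S.A_le_Cz S.K.m3, (mul_inv_eq_iff_eq_mul.1 S.p3_mem.2).symm⟩

theorem p4_mem_L : S.K.p4 ∈ S.L := S.mem_L.2 ⟨S.A_le_Cz S.K.m4, (mul_inv_eq_iff_eq_mul.1 S.p4_t).symm⟩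

theorem R_le_L : S.R ≤ S.L := fun _ hr => S.mem_L.2 ⟨S.R_le hr, S.R_comm_t hr⟩

theorem U_le_L : S.F.toPair.toConf.U ≤ S.L := fun u hu =>
  S.mem_L.2 ⟨S.F.Q_le hu.1, (mul_inv_eq_iff_eq_mul.1 hu.2).symm⟩

theorem card_L : Nat.card S.L = 648 * S.δ := by
  classical
  set F := S.F
  let f : S.L × F.Q → F.toPair.toConf.Cz := fun p => ⟨p.1 * p.2, mul_mem (S.mem_L.1 p.1.2).1 (F.Q_le p.2.2)⟩
  haveI := Fintype.ofFinite ↥F.toPair.toConf.Cz
  have hfib : ∀ y, Nat.card {p // f p = y} = 27 := by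
    intro y
    obtain ⟨l, hl, hlt, k, hk, e⟩ := S.exists_fix y.2
    rw [← F.toPair.toConf.card_U]
    refine Nat.card_congr
      { toFun := fun p => ⟨(p.1.1 : G)⁻¹ * l, ?_⟩
        invFun := fun u => ⟨(⟨l * (u : G)⁻¹, mul_mem (S.mem_L.2 ⟨hl, hlt⟩) (inv_mem (S.U_le_L u.2))⟩,
          ⟨(u : G) * k, mul_mem u.2.1 hk⟩), Subtype.ext (by show l * (u : G)⁻¹ * ((u : G) * k) = _; rw [e]; group)⟩
        left_inv := fun p => ?_
        right_inv := fun u => Subtype.ext (by simp) }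
    · have h : (p.1.1 : G) * p.1.2 = y := congrArg Subtype.val p.2
      have hq : (p.1.1 : G)⁻¹ * l ∈ F.Q := by
        rw [show (p.1.1 : G)⁻¹ * l = (p.1.1 : G)⁻¹ * (l * k) * k⁻¹ by group, ← e, ← h, inv_mul_cancel_left]
        exact mul_mem p.1.2.2 (inv_mem hk)
      refine ⟨hq, ?_⟩
      have h1 : Commute ((p.1.1 : G)⁻¹ * l) F.t := (S.mem_L.1 p.1.1.2).2.inv_left.mul_left hlt
      rw [← h1.symm.eq.symm, mul_inv_cancel_right]
    · have h : (p.1.1 : G) * p.1.2 = y := congrArg Subtype.val p.2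
      refine Subtype.ext (Prod.ext (Subtype.ext ?_) (Subtype.ext ?_))
      · show l * ((p.1.1 : G)⁻¹ * l)⁻¹ = p.1.1
        group
      · show (p.1.1 : G)⁻¹ * l * k = p.1.2
        rw [mul_assoc, ← e, ← h, inv_mul_cancel_left]
  have h := Nat.card_congr (Equiv.sigmaFiberEquiv f)
  rw [Nat.card_sigma] at h
  simp only [hfib, Finset.sum_const, Finset.card_univ, smul_eq_mul] at h
  rw [← Nat.card_eq_fintype_card, Nat.card_prod, S.card_Cz, F.card_Q] at h
  omega

/-- The fixed part of a Sylow subgroup. -/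
def P : Subgroup G := S.F.toPair.toConf.U ⊔ zpowers S.K.p4

theorem P_le : S.P ≤ S.L := sup_le S.U_le_L (zpowers_le.2 S.p4_mem_L)

theorem p4_not_mem : S.K.p4 ∉ S.F.Q := S.p4_not

theorem P_le_S : S.P ≤ S.F.S :=
  sup_le (fun _ hu => mem_sup_left hu.1) (zpowers_le.2 (S.F.A_le_S (S.hA ▸ S.K.m4)))

theorem isPGroup_P : IsPGroup 3 S.P := S.F.isPGroup_S.to_le S.P_le_S

theorem card_P : 81 ≤ Nat.card S.P := by
  haveI : Fact (Nat.Prime 3) := ⟨Nat.prime_three⟩
  obtain ⟨j, hj⟩ := IsPGroup.iff_card.1 S.isPGroup_P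
  have hlt : Nat.card S.F.toPair.toConf.U < Nat.card S.P := Set.Finite.card_lt_card (Set.toFinite _)
    (lt_of_le_of_ne (fun x hx => (mem_sup_left hx : x ∈ S.P)) fun e =>
      S.p4_not (show S.K.p4 ∈ S.F.toPair.toConf.U from
        (SetLike.coe_injective e).symm ▸ (mem_sup_right (mem_zpowers S.K.p4) : S.K.p4 ∈ S.P)).1)
  rw [S.F.toPair.toConf.card_U, hj] at hlt
  rw [hj]
  have : 4 ≤ j := by
    by_contra h
    have := Nat.pow_le_pow_right (show 0 < 3 by norm_num) (show j ≤ 3 by omega)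
    omega
  exact Nat.pow_le_pow_right (show 0 < 3 by norm_num) this

/-- The centraliser of `z` is the product of the group of order eight with its part in the normaliser. -/
theorem decomp {c : G} (hc : c ∈ S.F.toPair.toConf.Cz) : ∃ r ∈ S.R, r⁻¹ * c ∈ S.N := by
  classical
  haveI : Fact (Nat.Prime 3) := ⟨Nat.prime_three⟩
  suffices hL : ∀ l ∈ S.L, ∃ r ∈ S.R, r⁻¹ * l ∈ S.N by
    obtain ⟨l, hl, hlt, k, hk, rfl⟩ := S.exists_fix hc
    obtain ⟨r, hr, hn⟩ := hL l (S.mem_L.2 ⟨hl, hlt⟩)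
    refine ⟨r, hr, ?_⟩
    rw [← mul_assoc]
    exact mul_mem hn (S.mem_N fun a ha => S.hA.symm ▸ S.F.mapQ hk (S.hA ▸ ha))
  intro l hl
  have hPn : S.P ≤ normalizer (S.R : Set G) := fun x hx => mem_normalizer_iff.2 fun r => by
    obtain ⟨h1, h2⟩ := S.mem_L.1 (S.P_le hx)
    refine ⟨S.R_norm h1 h2, fun hr => ?_⟩
    have := S.R_norm (inv_mem h1) h2.inv_left hr
    rwa [show x⁻¹ * (x * r * x⁻¹) * x⁻¹⁻¹ = r by group] at this
  set T := S.R ⊔ S.P with hT
  have hTL : T ≤ S.L := sup_le S.R_le_L S.P_le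
  have hT648 : 648 ≤ Nat.card T := by
    obtain ⟨j, hj⟩ := IsPGroup.iff_card.1 S.isPGroup_P
    have h8 : 8 ∣ Nat.card T := S.card_R ▸ card_dvd_of_le le_sup_left
    have hp : Nat.card S.P ∣ Nat.card T := card_dvd_of_le le_sup_right
    have := Nat.Coprime.mul_dvd_of_dvd_of_dvd
      (show Nat.Coprime 8 (Nat.card S.P) by rw [hj]; exact Nat.Coprime.pow_right j (by norm_num)) h8 hp
    have h81 := S.card_P
    have := Nat.le_of_dvd Nat.card_pos this
    omega
  have hTdvd := card_dvd_of_le hTL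
  rw [S.card_L] at hTdvd
  -- every three-element of `L` lies in `T`
  have hnorm : (T.subgroupOf S.L).Normal := by
    have hidx := (T.subgroupOf S.L).card_mul_index
    rw [Nat.card_congr (subgroupOfEquivOfLe hTL).toEquiv, S.card_L] at hidx
    have hle : (T.subgroupOf S.L).index ≤ 2 := by
      rcases S.δ_cases with h | h <;> rw [h] at hidx <;> nlinarith
    have h0 := (T.subgroupOf S.L).index_ne_zero_of_finite
    rcases (show (T.subgroupOf S.L).index = 1 ∨ (T.subgroupOf S.L).index = 2 by omega) with h | h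
    · rw [index_eq_one] at h; rw [h]; infer_instance
    · exact normal_of_index_eq_two h
  have h81 : Nat.card S.P = 81 := by
    obtain ⟨j, hj⟩ := IsPGroup.iff_card.1 S.isPGroup_P
    have h := card_dvd_of_le S.P_le
    rw [S.card_L] at h
    have h81 := S.card_P
    rw [hj] at h h81 ⊢
    have h2 : 3 ^ j ∣ 81 * 16 := h.trans (by rcases S.δ_cases with e | e <;> rw [e] <;> norm_num)
    have h3 := (Nat.Coprime.pow_left j (by norm_num : Nat.Coprime 3 16)).dvd_of_dvd_mul_right h2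
    have := Nat.le_of_dvd (by norm_num) h3
    omega
  have hTeq : ∀ x ∈ T, ∃ r ∈ S.R, ∃ p ∈ S.P, x = r * p := by
    intro x hx
    have := hPn
    rw [hT, ← SetLike.mem_coe, Subgroup.coe_mul_of_right_le_normalizer_left _ _ hPn] at hx
    obtain ⟨r, hr, p, hp, rfl⟩ := Set.mem_mul.1 hx
    exact ⟨r, hr, p, hp, rfl⟩
  have hPT : Nat.card T = 8 * 81 := by
    let f : S.R × S.P → T := fun x => ⟨x.1 * x.2, mul_mem (mem_sup_left x.1.2) (mem_sup_right x.2.2)⟩
    have hf : Function.Surjective f := fun ⟨x, hx⟩ => by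
      obtain ⟨r, hr, p, hp, rfl⟩ := hTeq x hx
      exact ⟨(⟨r, hr⟩, ⟨p, hp⟩), rfl⟩
    have := Nat.card_le_card_of_surjective f hf
    rw [Nat.card_prod, S.card_R, h81] at this
    omega
  have hsyl : ∀ P' : Subgroup G, P' ≤ T → IsPGroup 3 P' → Nat.card P' ≤ 81 := by
    intro P' hP' hp'
    obtain ⟨j, hj⟩ := IsPGroup.iff_card.1 hp'
    have h := card_dvd_of_le hP'
    rw [hPT, hj] at h
    rw [hj]
    exact Nat.le_of_dvd (by norm_num)
      ((Nat.Coprime.pow_left j (by norm_num : Nat.Coprime 3 8)).dvd_of_dvd_mul_left h)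
  obtain ⟨P1, hP1⟩ := (S.isPGroup_P.comap_of_injective T.subtype T.subtype_injective).exists_le_sylow
  set P2' := S.P.map (MulAut.conj l).toMonoidHom with hP2'
  have hP2T : P2' ≤ T := by
    rintro _ ⟨x, hx, rfl⟩
    have := hnorm.conj_mem ⟨x, S.P_le hx⟩ (mem_subgroupOf.2 (mem_sup_right hx)) ⟨l, hl⟩
    exact mem_subgroupOf.1 this
  obtain ⟨P2, hP2⟩ := ((S.isPGroup_P.map (MulAut.conj l).toMonoidHom).comap_of_injective T.subtype
    T.subtype_injective).exists_le_sylow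
  obtain ⟨d, hd⟩ := MulAction.exists_smul_eq T P2 P1
  have hle1 : S.P ≤ (P1 : Subgroup T).map T.subtype := fun x hx => ⟨⟨x, mem_sup_right hx⟩, hP1 hx, rfl⟩
  have hP1eq : (P1 : Subgroup T).map T.subtype = S.P := (eq_of_le_of_card_ge hle1
    (by rw [h81]; exact hsyl _ (map_subtype_le _) (P1.isPGroup'.map _))).symm
  obtain ⟨r, hr, p, hp, hdrp⟩ := hTeq _ d.2
  refine ⟨(p⁻¹ * r⁻¹ * p), ?_, ?_⟩
  · obtain ⟨h1, h2⟩ := S.mem_L.1 (S.P_le hp)
    have := S.R_norm (inv_mem h1) h2.inv_left (inv_mem hr)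
    rwa [inv_inv] at this
  refine S.mem_N_of_Cz (a := S.K.p4) (mul_mem (inv_mem ?_) (S.mem_L.1 hl).1) S.K.m4 S.p4_not ?_
  · obtain ⟨h1, -⟩ := S.mem_L.1 (S.P_le hp)
    exact mul_mem (mul_mem (inv_mem h1) (inv_mem (S.R_le hr))) h1
  have hmem : (d : G) * (l * S.K.p4 * l⁻¹) * (d : G)⁻¹ ∈ S.P := by
    rw [← hP1eq]
    have hm : (⟨l * S.K.p4 * l⁻¹, hP2T ⟨S.K.p4, mem_sup_right (mem_zpowers _), rfl⟩⟩ : T) ∈ (P2 : Subgroup T) :=
      hP2 ⟨S.K.p4, mem_sup_right (mem_zpowers _), rfl⟩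
    refine ⟨d * ⟨_, hP2T ⟨S.K.p4, mem_sup_right (mem_zpowers _), rfl⟩⟩ * d⁻¹, ?_, by simp⟩
    rw [← hd, Sylow.coe_subgroup_smul]
    exact Subgroup.smul_mem_pointwise_smul _ (MulAut.conj d) _ hm
  rw [hdrp] at hmem
  refine S.P_le_S ?_
  have := mul_mem (mul_mem (inv_mem hp) hmem) hp
  convert this using 1
  group

/-- The elements of the group of order eight in the normaliser. -/
theorem R_inf_N {r : G} (hr : r ∈ S.R) (hn : r ∈ S.N) : r = 1 ∨ r = S.F.t := by
  refine S.R_fix hr ?_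
  have he := S.K.m4
  obtain ⟨x, hx⟩ : ∃ x, x = r * S.K.p4 * r⁻¹ * S.K.p4⁻¹ := ⟨_, rfl⟩
  have h1 : x ∈ S.K.A := hx ▸ mul_mem ((mem_normalizer_iff.1 hn _).1 he) (inv_mem he)
  have h2 : x ∈ S.R := by
    rw [hx, show r * S.K.p4 * r⁻¹ * S.K.p4⁻¹ = r * (S.K.p4 * r⁻¹ * S.K.p4⁻¹) by group]
    exact mul_mem hr (S.R_norm (S.A_le_Cz he) (mul_inv_eq_iff_eq_mul.1 S.p4_t).symm (inv_mem hr))
  have e3 : x ^ 3 = 1 := S.K.exp _ h1
  have e8 : x ^ 8 = 1 := by
    have h := pow_card_eq_one' (G := S.R) (x := ⟨x, h2⟩)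
    rw [S.card_R] at h
    exact congrArg Subtype.val h
  have hd : orderOf x ∣ Nat.gcd 3 8 := Nat.dvd_gcd (orderOf_dvd_of_pow_eq_one e3) (orderOf_dvd_of_pow_eq_one e8)
  rw [show Nat.gcd 3 8 = 1 from rfl, Nat.dvd_one, orderOf_eq_one_iff, hx, mul_inv_eq_one] at hd
  exact mul_inv_eq_iff_eq_mul.1 hd

theorem R_sq : ∃ r ∈ S.R, r * r = S.F.t := by
  classical
  by_contra hcon
  push Not at hcon
  have he := S.K.m4
  -- otherwise the group is abelian
  have hc : ∀ r ∈ S.R, r * r = 1 := by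
    intro r hr
    by_contra hne
    have ht : S.F.t ∉ zpowers r := by
      intro h
      obtain ⟨k, hk⟩ := mem_zpowers_iff.1 h
      have h8 : r ^ (8 : ℕ) = 1 := by
        have h := pow_card_eq_one' (G := S.R) (x := ⟨r, hr⟩)
        rw [S.card_R] at h
        exact congrArg Subtype.val h
      by_cases hr4 : r ^ (4 : ℕ) = 1
      · have he2 : r ^ k = r ^ (k % 4) := by
          conv_lhs => rw [← Int.emod_add_mul_ediv k 4, zpow_add, zpow_mul,
            show (4 : ℤ) = ((4 : ℕ) : ℤ) from rfl, zpow_natCast, hr4, one_zpow, mul_one]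
          rfl
        rw [he2] at hk
        have h4 := Int.emod_nonneg k (show (4 : ℤ) ≠ 0 by norm_num)
        have h4' := Int.emod_lt_of_pos k (show (0 : ℤ) < 4 by norm_num)
        have hsq : S.F.t * S.F.t = 1 := S.t_sq
        rcases (show k % 4 = 0 ∨ k % 4 = 1 ∨ k % 4 = 2 ∨ k % 4 = 3 by omega) with e | e | e | e <;>
          rw [e] at hk
        · rw [zpow_zero] at hk
          have := S.R_fix hr
          exact S.t_not_one hk.symm
        · rw [zpow_one] at hk; exact hne (by rw [hk, hsq])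
        · exact hcon r hr (by rw [← hk, zpow_two])
        · refine hne ?_
          have h6 : (r ^ (3 : ℕ)) * (r ^ (3 : ℕ)) = 1 := by
            rw [← zpow_natCast]
            show r ^ (3 : ℤ) * r ^ (3 : ℤ) = 1
            rw [hk, hsq]
          rwa [← pow_add, show 3 + 3 = 4 + 2 from rfl, pow_add, hr4, one_mul, pow_two] at h6
      · have ho : orderOf r = 8 := by
          refine orderOf_eq_prime_pow (p := 2) (n := 2) ?_ ?_
          · exact hr4
          · exact h8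
        obtain ⟨a, ha, b, hb, hab⟩ := S.R_nonab
        have heq : zpowers r = S.R := eq_of_le_of_card_ge (zpowers_le.2 hr) (by rw [Nat.card_zpowers, ho, S.card_R])
        obtain ⟨i, rfl⟩ := mem_zpowers_iff.1 (heq.symm ▸ ha)
        obtain ⟨j, rfl⟩ := mem_zpowers_iff.1 (heq.symm ▸ hb)
        exact hab (zpow_mul_comm r i j)
    obtain ⟨a, ha, b, hb, hab⟩ := S.R_nonab
    set J := zpowers r ⊔ zpowers S.F.t
    have hJle : J ≤ S.R := sup_le (zpowers_le.2 hr) (zpowers_le.2 S.t_mem_R)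
    have h4 : 4 ≤ Nat.card (zpowers r) := by
      have hd : orderOf r ∣ 8 := S.card_R ▸ Subgroup.orderOf_dvd_natCard _ hr
      rw [Nat.card_zpowers]
      have h2 : ¬ orderOf r ∣ 2 := fun h => hne (by rw [← pow_two]; exact orderOf_dvd_iff_pow_eq_one.1 h)
      have hle := Nat.le_of_dvd (by norm_num) hd
      rcases dvd_eight hd with e | e | e | e <;> rw [e] at h2 ⊢ <;> omega
    have hlt : Nat.card (zpowers r) < Nat.card J := Set.Finite.card_lt_card (Set.toFinite _)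
      (lt_of_le_of_ne (fun x hx => (mem_sup_left hx : x ∈ J)) fun e =>
        ht ((SetLike.coe_injective e).symm ▸ (mem_sup_right (mem_zpowers S.F.t) : S.F.t ∈ J)))
    have hJ := eq_of_le_of_card_ge hJle (by
      have hd := card_dvd_of_le hJle
      rw [S.card_R] at hd ⊢
      have := Nat.le_of_dvd (by norm_num) hd
      rcases dvd_eight hd with e | e | e | e <;> omega)
    have hcc : ∀ x ∈ ({r, S.F.t} : Set G), ∀ y ∈ ({r, S.F.t} : Set G), x * y = y * x := by
      rintro x (rfl | rfl) y (rfl | rfl)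
      exacts [rfl, (S.R_comm_t hr).eq, (S.R_comm_t hr).eq.symm, rfl]
    haveI := Subgroup.isMulCommutative_closure hcc
    have hle : J ≤ closure ({r, S.F.t} : Set G) :=
      sup_le (zpowers_le.2 (subset_closure (Or.inl rfl))) (zpowers_le.2 (subset_closure (Or.inr rfl)))
    exact hab (congrArg Subtype.val (mul_comm' (⟨a, hle (hJ.symm ▸ ha)⟩ : closure ({r, S.F.t} : Set G))
      ⟨b, hle (hJ.symm ▸ hb)⟩))
  obtain ⟨a, ha, b, hb, hab⟩ := S.R_nonab
  refine hab ?_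
  have h1 := hc _ (mul_mem ha hb)
  calc a * b = a * (a * b * (a * b)) * b := by rw [h1, mul_one]
    _ = (a * a) * (b * a) * (b * b) := by group
    _ = b * a := by rw [hc a ha, hc b hb, one_mul, mul_one]

/-- Centralising `z` and the inverted generator normalises the torus. -/
theorem cent_zw {g : G} (hg : g ∈ S.F.toPair.toConf.Cz) (hw : Commute g S.K.p2) : g ∈ S.N := by
  classical
  set C := S.F.toPair.toConf
  obtain ⟨r, hr, hn⟩ := S.decomp hg
  suffices h : r = 1 ∨ r = S.F.t by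
    have hrN : r ∈ S.N := by
      rcases h with rfl | rfl
      exacts [one_mem _, S.mem_N_of_acts S.acts_t]
    have := mul_mem hrN hn
    rwa [mul_inv_cancel_left] at this
  -- the elements preserving the line of `w` modulo the centre
  let J₀ : Submonoid G :=
    { carrier := {x | x ∈ C.Cz ∧ (x * S.K.p2 * x⁻¹ * S.K.p2⁻¹ ∈ zpowers C.z ∨ x * S.K.p2 * x⁻¹ * S.K.p2 ∈ zpowers C.z)}
      one_mem' := ⟨one_mem _, Or.inl (by simp)⟩
      mul_mem' := by
        rintro x y ⟨hx, hx'⟩ ⟨hy, hy'⟩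
        refine ⟨mul_mem hx hy, ?_⟩
        have key : ∀ i, i ∈ zpowers C.z → x * i * x⁻¹ = i := fun i hi => C.fix_Z hx hi
        rcases hy' with h | h <;> obtain ⟨i, hi, e⟩ : ∃ i ∈ zpowers C.z, _ = i := ⟨_, h, rfl⟩
        · have e' : y * S.K.p2 * y⁻¹ = i * S.K.p2 := by rw [← e]; group
          rcases hx' with h' | h'
          · left
            rw [show x * y * S.K.p2 * (x * y)⁻¹ = x * (y * S.K.p2 * y⁻¹) * x⁻¹ by group, e',
              show x * (i * S.K.p2) * x⁻¹ * S.K.p2⁻¹ = x * i * x⁻¹ * (x * S.K.p2 * x⁻¹ * S.K.p2⁻¹) by group, key i hi]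
            exact mul_mem hi h'
          · right
            rw [show x * y * S.K.p2 * (x * y)⁻¹ = x * (y * S.K.p2 * y⁻¹) * x⁻¹ by group, e',
              show x * (i * S.K.p2) * x⁻¹ * S.K.p2 = x * i * x⁻¹ * (x * S.K.p2 * x⁻¹ * S.K.p2) by group, key i hi]
            exact mul_mem hi h'
        · have e' : y * S.K.p2 * y⁻¹ = i * S.K.p2⁻¹ := by rw [← e]; group
          rcases hx' with h' | h' <;> obtain ⟨l, hl, el⟩ : ∃ l ∈ zpowers C.z, _ = l := ⟨_, h', rfl⟩
          · right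
            have el' : x * S.K.p2 * x⁻¹ = l * S.K.p2 := by rw [← el]; group
            rw [show x * y * S.K.p2 * (x * y)⁻¹ = x * (y * S.K.p2 * y⁻¹) * x⁻¹ by group, e',
              show x * (i * S.K.p2⁻¹) * x⁻¹ = x * i * x⁻¹ * (x * S.K.p2 * x⁻¹)⁻¹ by group, key i hi, el',
              show i * (l * S.K.p2)⁻¹ * S.K.p2 = i * (S.K.p2⁻¹ * l⁻¹ * S.K.p2) by group,
              show S.K.p2⁻¹ * l⁻¹ * S.K.p2 = S.K.p2⁻¹ * l⁻¹ * S.K.p2⁻¹⁻¹ by group,
              C.fix_Z (inv_mem (S.A_le_Cz S.K.m2)) (inv_mem hl)]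
            exact mul_mem hi (inv_mem hl)
          · left
            have el' : x * S.K.p2 * x⁻¹ = l * S.K.p2⁻¹ := by rw [← el]; group
            rw [show x * y * S.K.p2 * (x * y)⁻¹ = x * (y * S.K.p2 * y⁻¹) * x⁻¹ by group, e',
              show x * (i * S.K.p2⁻¹) * x⁻¹ = x * i * x⁻¹ * (x * S.K.p2 * x⁻¹)⁻¹ by group, key i hi, el',
              show i * (l * S.K.p2⁻¹)⁻¹ * S.K.p2⁻¹ = i * (S.K.p2 * l⁻¹ * S.K.p2⁻¹) by group,
              C.fix_Z (S.A_le_Cz S.K.m2) (inv_mem hl)]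
            exact mul_mem hi (inv_mem hl)
      }
  let J : Subgroup G :=
    { J₀ with
      inv_mem' := fun {x} hx => by
        have hpos := orderOf_pos x
        have e : x ^ (orderOf x - 1) = x⁻¹ := eq_inv_of_mul_eq_one_left (by
          rw [← pow_succ, Nat.sub_add_cancel hpos, pow_orderOf_eq_one])
        exact e ▸ pow_mem (show x ∈ J₀ from hx) _ }
  -- it contains the element
  obtain ⟨M, hM⟩ := S.acts_N hn
  have hnC : r⁻¹ * g ∈ C.Cz := mul_mem (inv_mem (S.R_le hr)) hg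
  have hfix : app M b1 = b1 := by
    refine S.K.φ_inj ?_
    rw [← hM, S.K.φ_b1, C.fix_Z hnC S.p1_mem]
  obtain ⟨a, b, hb, hcol⟩ : ∃ a b : ZMod 3, (b = 1 ∨ b = 2) ∧ app M b2 = (a, b, 0, 0) := by
    have hW := S.coord_W (v := app M b2) (by rw [← hM, S.K.φ_b2]; exact C.conjW hnC S.p2_mem)
    have hq := S.qf_pres hM b2
    obtain ⟨⟨a', b', c', d'⟩, hv⟩ : ∃ v, v = app M b2 := ⟨_, rfl⟩
    rw [← hv] at hW hq ⊢
    simp only at hW
    obtain ⟨rfl, rfl⟩ := hW
    refine ⟨a', b', ?_, rfl⟩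
    simp [qf, b2] at hq
    have key : ∀ x : ZMod 3, x * x = 1 → x = 1 ∨ x = 2 := by decide
    exact key _ hq
  have hnJ : r⁻¹ * g ∈ J := by
    refine ⟨hnC, ?_⟩
    have h := hM b2
    rw [S.K.φ_b2, hcol] at h
    simp only [Coord.φ, pw_zero, mul_one] at h
    have hz : pw S.K.p1 a ∈ zpowers C.z := pow_mem S.p1_mem _
    rcases hb with rfl | rfl
    · left; rw [h, pw_one, mul_inv_cancel_right]; exact hz
    · right; rw [h, zm3_two, HeisSLThree.pw_neg (S.K.exp _ S.K.m2), pw_one, inv_mul_cancel_right]; exact hz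
  have hgJ : g ∈ J := ⟨hg, Or.inl (by rw [hw.eq, mul_inv_cancel_right, mul_inv_cancel]; exact one_mem _)⟩
  have hrJ : r ∈ J := by
    have := mul_mem hgJ (inv_mem hnJ)
    rwa [show g * (r⁻¹ * g)⁻¹ = r by group] at this
  by_contra hne
  push Not at hne
  -- so all of the group preserves the line
  have htJ : S.F.t ∈ J := ⟨S.F.t_mem, Or.inr (by
    have := S.p2_mem.2
    exact this)⟩
  have heJ : ∀ x ∈ J, S.K.p4 * x * S.K.p4⁻¹ ∈ J := fun x hx => by
    have hp : S.K.p4 ∈ J := ⟨S.A_le_Cz S.K.m4, Or.inl (by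
      rw [(S.K.comm _ S.K.m4 _ S.K.m2).eq, mul_inv_cancel_right, mul_inv_cancel]; exact one_mem _)⟩
    exact mul_mem (mul_mem hp hx) (inv_mem hp)
  have hall : S.R ≤ J := by
    have hle : S.R ⊓ J ≤ S.R := inf_le_left
    have hd := card_dvd_of_le hle
    rw [S.card_R] at hd
    have h3 : 3 ≤ Nat.card ↥(S.R ⊓ J) := by
      have hsub : ({1, S.F.t, r} : Set G) ⊆ (S.R ⊓ J : Subgroup G) := by
        rintro x (rfl | rfl | rfl)
        exacts [one_mem _, ⟨S.t_mem_R, htJ⟩, ⟨hr, hrJ⟩]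
      have h := Set.ncard_le_ncard hsub (Set.toFinite _)
      have hcard : ({1, S.F.t, r} : Set G).ncard = 3 := Set.ncard_eq_three.2
        ⟨1, S.F.t, r, (Ne.symm S.t_not_one), Ne.symm hne.1, Ne.symm hne.2, rfl⟩
      rw [hcard, ← Nat.card_coe_set_eq] at h
      exact h
    have h48 : Nat.card ↥(S.R ⊓ J) = 4 ∨ Nat.card ↥(S.R ⊓ J) = 8 := by
      have := Nat.le_of_dvd (by norm_num) hd
      rcases dvd_eight hd with e | e | e | e <;> omega
    rcases h48 with h4 | h8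
    · exfalso
      -- the fourth element would be fixed by `e`
      have hc : ∀ x ∈ S.R ⊓ J, S.K.p4 * x * S.K.p4⁻¹ ∈ S.R ⊓ J := fun x hx =>
        ⟨S.R_norm (S.A_le_Cz S.K.m4) (mul_inv_eq_iff_eq_mul.1 S.p4_t).symm hx.1, heJ x hx.2⟩
      have hfix : ∀ x ∈ ({1, S.F.t} : Set G), S.K.p4 * x * S.K.p4⁻¹ = x := by
        rintro x (rfl | rfl)
        · group
        · rw [(mul_inv_eq_iff_eq_mul.1 S.p4_t).symm, mul_inv_cancel_right]
      set T := ((S.R ⊓ J : Subgroup G) : Set G) \ {1, S.F.t} with hT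
      have hT2 : T.ncard = 2 := by
        rw [hT, Set.ncard_sdiff (by rintro x (rfl | rfl); exacts [one_mem _, ⟨S.t_mem_R, htJ⟩]) (Set.toFinite _),
          ← Nat.card_coe_set_eq, Set.ncard_pair (Ne.symm S.t_not_one)]
        show Nat.card ↥(S.R ⊓ J) - 2 = 2
        omega
      have hmv : ∀ x ∈ T, S.K.p4 * x * S.K.p4⁻¹ ∈ T ∧ S.K.p4 * x * S.K.p4⁻¹ ≠ x := by
        intro x hx
        refine ⟨⟨hc x hx.1, fun h => hx.2 ?_⟩, fun h => hx.2 ?_⟩
        · have h1 : S.K.p4 * (S.K.p4 * x * S.K.p4⁻¹) * S.K.p4⁻¹ = S.K.p4 * x * S.K.p4⁻¹ := hfix _ h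
          have h2 : S.K.p4 * x * S.K.p4⁻¹ = x := by
            have := mul_right_cancel (b := S.K.p4⁻¹) h1
            exact mul_left_cancel this
          rwa [h2] at h
        · exact S.R_fix hx.1.1 (mul_inv_eq_iff_eq_mul.1 h).symm
      obtain ⟨x, y, hxy, hTxy⟩ := Set.ncard_eq_two.1 hT2
      have hx : x ∈ T := hTxy ▸ Or.inl rfl
      have hy : y ∈ T := hTxy ▸ Or.inr rfl
      have e1 : S.K.p4 * x * S.K.p4⁻¹ = y := by
        have := (hmv x hx).1
        rw [hTxy] at this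
        exact this.resolve_left (hmv x hx).2
      have e2 : S.K.p4 * y * S.K.p4⁻¹ = x := by
        have := (hmv y hy).1
        rw [hTxy] at this
        exact this.resolve_right (hmv y hy).2
      have h3' := S.K.exp _ S.K.m4
      rw [pow_succ, pow_two] at h3'
      refine hxy ?_
      calc x = (S.K.p4 * S.K.p4 * S.K.p4) * x * (S.K.p4 * S.K.p4 * S.K.p4)⁻¹ := by rw [h3']; group
        _ = S.K.p4 * (S.K.p4 * (S.K.p4 * x * S.K.p4⁻¹) * S.K.p4⁻¹) * S.K.p4⁻¹ := by group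
        _ = y := by rw [e1, e2, e1]
    · exact (eq_of_le_of_card_ge hle (by rw [h8, S.card_R])).ge.trans inf_le_right
  obtain ⟨x, hx, hxx⟩ := S.R_sq
  obtain ⟨hxC, hx'⟩ := hall hx
  have ht : S.F.t * S.K.p2 * S.F.t⁻¹ * S.K.p2⁻¹ ∈ zpowers C.z := by
    rw [← hxx]
    rcases hx' with h | h <;> obtain ⟨i, hi, e⟩ : ∃ i ∈ zpowers C.z, _ = i := ⟨_, h, rfl⟩
    · have e' : x * S.K.p2 * x⁻¹ = i * S.K.p2 := by rw [← e]; group
      rw [show x * x * S.K.p2 * (x * x)⁻¹ = x * (x * S.K.p2 * x⁻¹) * x⁻¹ by group, e',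
        show x * (i * S.K.p2) * x⁻¹ = x * i * x⁻¹ * (x * S.K.p2 * x⁻¹) by group, C.fix_Z hxC hi, e',
        ← mul_assoc, mul_inv_cancel_right]
      exact mul_mem hi hi
    · have e' : x * S.K.p2 * x⁻¹ = i * S.K.p2⁻¹ := by rw [← e]; group
      rw [show x * x * S.K.p2 * (x * x)⁻¹ = x * (x * S.K.p2 * x⁻¹) * x⁻¹ by group, e',
        show x * (i * S.K.p2⁻¹) * x⁻¹ = x * i * x⁻¹ * (x * S.K.p2 * x⁻¹)⁻¹ by group, C.fix_Z hxC hi, e',
        show i * (i * S.K.p2⁻¹)⁻¹ * S.K.p2⁻¹ = i * (S.K.p2 * i⁻¹ * S.K.p2⁻¹) by group,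
        C.fix_Z (S.A_le_Cz S.K.m2) (inv_mem hi), mul_inv_cancel]
      exact one_mem _
  have h2 := mul_mem (inv_mem ht) S.p2_mem.2
  rw [show (S.F.t * S.K.p2 * S.F.t⁻¹ * S.K.p2⁻¹)⁻¹ * (S.F.t * S.K.p2 * S.F.t⁻¹ * S.K.p2) = S.K.p2 * S.K.p2 by group,
    ← S.zpowers_p1, ← S.K.φ_b2, ← S.K.φ_add] at h2
  obtain ⟨k, hk⟩ := mem_zpowers_iff.1 h2
  have hU : S.K.φ (b2 + b2) ∈ C.U := hk ▸ zpow_mem (C.Z_le_U S.p1_mem) k
  exact absurd (S.coord_U hU).1 (by decide)

end Setting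

end Cfsg.Agent.O8Three
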