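import Cfsg.Agent.Lib.S9Three.Finish

/-!
S3372: finite facts on the common centraliser in `Sym(9)` of a translation of one triple and a transposition in
the third triple.
-/

set_option autoImplicit false
set_option maxRecDepth 100000
set_option synthInstance.maxSize 4000

namespace Cfsg.Agent.O8Three.Nine

open Cfsg.Agent.ThreeTI.Cube (V)
open Cfsg.Agent.S9Three
open Equiv

/-- The translation: of the first triple or of the second. -/
def va : Fin 2 → V := ![v1, v2]

/-- The other translation. -/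
def vb : Fin 2 → V := ![v2, v1]

/-- The four points: the other triple and the point fixed in the third one. -/
def rp (i : Fin 2) (f : Fin 3) : Fin 4 → Fin 9 :=
  ![![3, 0] i, ![4, 1] i, ![5, 2] i, ![6, 7, 8] f]

/-- The first points of the orbit of the translation and of the transposition. -/
def bp (i : Fin 2) (f : Fin 3) : Fin 2 → Fin 9 := ![![0, 3] i, ![7, 8, 6] f]

/-- The transposition in the third triple. -/
def tf (f : Fin 3) : Perm (Fin 9) := swap (![7, 8, 6] f) (![8, 6, 7] f)

/-- The four-group on the four points. -/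
def dbl (i : Fin 2) (f : Fin 3) : Fin 4 → Perm (Fin 9) :=
  ![1, swap (rp i f 0) (rp i f 1) * swap (rp i f 2) (rp i f 3),
    swap (rp i f 0) (rp i f 2) * swap (rp i f 1) (rp i f 3),
    swap (rp i f 0) (rp i f 3) * swap (rp i f 1) (rp i f 2)]

/-- The six permutations of the other triple. -/
def st (i : Fin 2) (f : Fin 3) : Fin 6 → Perm (Fin 9) :=
  ![1, swap (rp i f 0) (rp i f 1), swap (rp i f 1) (rp i f 2), swap (rp i f 0) (rp i f 2),
    swap (rp i f 0) (rp i f 1) * swap (rp i f 1) (rp i f 2),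
    swap (rp i f 1) (rp i f 2) * swap (rp i f 0) (rp i f 1)]

/-- The elements of the core. -/
def pel (i : Fin 2) (f : Fin 3) (x : Fin 2 × Fin 4) : Perm (Fin 9) := tf f ^ x.1.val * dbl i f x.2

/-- The elements of the centraliser. -/
def elt (i : Fin 2) (f : Fin 3) (j : Fin 3) (e : Fin 2) (k : Fin 4) (l : Fin 6) : Perm (Fin 9) :=
  tr (va i) ^ j.val * tf f ^ e.val * dbl i f k * st i f l

theorem pel_mul : ∀ i f x y, ∃ z, pel i f x * pel i f y = pel i f z := by decide +kernel

theorem pel_sq : ∀ i f x, pel i f x * pel i f x = 1 := by decide +kernel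

theorem pel_inj : ∀ i f x y, pel i f x = pel i f y → x = y := by decide +kernel

theorem pel_one : ∀ i f, pel i f (0, 0) = 1 ∧ pel i f (1, 0) = tf f := by decide +kernel

theorem pel_comm : ∀ i f x, pel i f x * tr (va i) = tr (va i) * pel i f x ∧ pel i f x * tf f = tf f * pel i f x := by
  decide +kernel

theorem pel_fix : ∀ i f x, tr (vb i) * pel i f x = pel i f x * tr (vb i) →
    pel i f x = 1 ∨ pel i f x = tf f := by decide +kernel

theorem pel_norm : ∀ i f k l x, ∃ y, dbl i f k * st i f l * pel i f x = pel i f y * (dbl i f k * st i f l) := by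
  decide +kernel

theorem elt_dec : ∀ i f j e k l, elt i f j e k l = pel i f (e, k) * (tr (va i) ^ j.val * st i f l) := by
  decide +kernel

theorem elt_comm : ∀ i f j e k l, elt i f j e k l * tr (va i) = tr (va i) * elt i f j e k l ∧
    elt i f j e k l * tf f = tf f * elt i f j e k l := by decide +kernel

theorem st_norm : ∀ i f l v, (∃ w, st i f l * tr v * (st i f l)⁻¹ = tr w) ∧
    ∃ w, (st i f l)⁻¹ * tr v * st i f l = tr w := by decide +kernel

theorem elt_val : ∀ i f j e k l, elt i f j e k l (bp i f 0) = (tr (va i) ^ (j : Fin 3).val) (bp i f 0) ∧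
    elt i f j e k l (bp i f 1) = (tf f ^ (e : Fin 2).val) (bp i f 1) ∧
    ∀ n, elt i f j e k l (rp i f n) = (dbl i f k * st i f l) (rp i f n) := by decide +kernel

theorem sym_four : ∀ i f, ∀ a b c d : Fin 4, a ≠ b → a ≠ c → a ≠ d → b ≠ c → b ≠ d → c ≠ d →
    ∃ k l, (dbl i f k * st i f l) (rp i f 0) = rp i f a ∧ (dbl i f k * st i f l) (rp i f 1) = rp i f b ∧
      (dbl i f k * st i f l) (rp i f 2) = rp i f c ∧ (dbl i f k * st i f l) (rp i f 3) = rp i f d := by
  decide +kernel

theorem moved : ∀ i f, ∀ x : Fin 9, (tr (va i) x ≠ x → ∃ j : Fin 3, x = (tr (va i) ^ j.val) (bp i f 0)) ∧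
    (tf f x ≠ x → ∃ e : Fin 2, x = (tf f ^ e.val) (bp i f 1)) ∧
    (tr (va i) x = x → tf f x = x → ∃ k, x = rp i f k) := by decide +kernel

theorem points : ∀ i f, ∀ x : Fin 9, x = bp i f 0 ∨ x = tr (va i) (bp i f 0) ∨
    x = tr (va i) (tr (va i) (bp i f 0)) ∨ x = bp i f 1 ∨ x = tf f (bp i f 1) ∨ ∃ k, x = rp i f k := by
  decide +kernel

theorem point_facts : ∀ i f, tr (va i) (bp i f 0) ≠ bp i f 0 ∧ tf f (bp i f 1) ≠ bp i f 1 ∧
    (∀ k, tr (va i) (rp i f k) = rp i f k ∧ tf f (rp i f k) = rp i f k) ∧ Function.Injective (rp i f) := by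
  unfold Function.Injective
  decide +kernel

theorem far : ∀ f, ∃ x y, (pel 0 f x * pel 1 f y) ^ 6 = 1 ∧ (pel 0 f x * pel 1 f y) ^ 2 ≠ 1 ∧
    (pel 0 f x * pel 1 f y) ^ 3 ≠ 1 := by
  decide +kernel

/-- The involutions inducing the sign change of the third coordinate. -/
theorem eps_lifts : ∀ v : V, (⟨v, eps⟩ : Mw) * ⟨v, eps⟩ = 1 → ∃ f, m9 (⟨v, eps⟩ : Mw) = tf f := by
  decide +kernel

end Cfsg.Agent.O8Three.Nine
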