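import Cfsg.Agent.Lib.O8Three.Setting

/-!
S3372: the normaliser of the torus controls the fusion of its members, preserves the quadratic form and fuses
exactly the singular vectors to `z`.
-/

set_option autoImplicit false
set_option linter.style.haveILetI false
set_option linter.unusedSectionVars false
set_option maxRecDepth 20000
set_option synthInstance.maxSize 5000

namespace Cfsg.Agent.O8Three

open Subgroup
open Cfsg.Agent.HeisSLThree (pw pw_add pw_zero pw_one)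
open scoped commutatorElement Pointwise

/-- The quadratic form on the torus. -/
def qf (v : V4) : ZMod 3 := 2 * v.1 * v.2.2.2 + v.2.1 * v.2.1 - v.2.2.1 * v.2.2.1

/-- The four maps of the chart. -/
def genM : Fin 4 → M4
  | 0 => MW
  | 1 => MU
  | 2 => MT
  | 3 => MV

/-- The map of a word in the four maps. -/
def evW (l : List (Fin 4)) : M4 := l.foldr (fun i M => mulM (genM i) M) oneM

/-- A vector of the first kind with non-zero norm. -/
def e0v : V4 := (2, 0, 0, 1)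

/-- Words carrying `z` to all singular vectors. -/
def toZ : List (List (Fin 4)) :=
  [[], [3], [0, 3], [1, 3], [2, 3], [3, 3], [2, 0, 3], [3, 0, 3], [2, 1, 3], [3, 2, 3], [0, 3, 3], [1, 3, 3],
    [2, 3, 3], [3, 2, 0, 3], [3, 2, 1, 3], [0, 3, 2, 3], [1, 3, 2, 3], [3, 3, 2, 3], [2, 0, 3, 3], [2, 1, 3, 3],
    [3, 2, 3, 3], [0, 3, 2, 0, 3], [1, 3, 2, 0, 3], [3, 3, 2, 0, 3], [0, 3, 2, 1, 3], [1, 3, 2, 1, 3],
    [3, 3, 2, 1, 3], [0, 3, 3, 2, 3], [1, 3, 3, 2, 3], [3, 2, 1, 3, 3], [1, 3, 2, 3, 3], [0, 3, 3, 2, 1, 3]]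

/-- Words carrying `u` to all vectors of norm `-1`. -/
def toU : List (List (Fin 4)) :=
  [[], [1], [3], [1, 1], [3, 1], [0, 3], [1, 3], [3, 3], [3, 1, 1], [0, 3, 1], [1, 3, 1], [3, 3, 1], [0, 0, 3],
    [3, 0, 3], [1, 1, 3], [0, 3, 3], [1, 3, 3], [3, 3, 1, 1], [3, 0, 3, 1], [0, 3, 3, 1], [1, 3, 3, 1], [3, 1, 1, 3],
    [0, 0, 3, 3], [3, 0, 3, 3]]

/-- Words carrying `e₀` to all vectors of norm `1`. -/
def toE : List (List (Fin 4)) :=
  [[], [0], [1], [3], [0, 0], [3, 0], [1, 1], [3, 1], [0, 3], [1, 3], [3, 3], [3, 0, 0], [0, 3, 0], [1, 3, 0],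
    [2, 3, 0], [3, 3, 0], [3, 1, 1], [0, 3, 1], [2, 3, 1], [3, 0, 3], [3, 0, 3, 0], [1, 1, 3, 0], [0, 3, 3, 0],
    [3, 0, 3, 1]]

/-- A group of eight maps fixing `u`. -/
def fixU : List (List (Fin 4)) :=
  [[], [2], [3, 3, 2, 3, 0], [3, 2, 3, 3, 0, 0], [3, 2, 3, 3, 2, 0], [3, 3, 2, 3, 0, 2], [0, 3, 3, 2, 3, 0, 0],
    [0, 3, 3, 2, 3, 2, 0]]

/-- A group of eight maps fixing `e₀`. -/
def fixE : List (List (Fin 4)) :=
  [[], [2], [1, 3, 2, 3, 1], [3, 3, 2, 0, 3], [3, 0, 2, 3, 3], [1, 3, 2, 3, 2, 1], [3, 3, 2, 0, 3, 2],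
    [3, 0, 2, 3, 3, 2]]

theorem qf_gen : ∀ i : Fin 4, ∀ v : V4, qf (app (genM i) v) = qf v := by decide +kernel

theorem qf_evW (l : List (Fin 4)) : ∀ v : V4, qf (app (evW l) v) = qf v := by
  induction l with
  | nil => intro v; show qf (app oneM v) = qf v; rw [app_oneM]
  | cons i l ih => intro v; show qf (app (mulM (genM i) (evW l)) v) = qf v; rw [app_mulM, qf_gen, ih]

theorem toZ_all : ∀ v : V4, v ≠ 0 → qf v = 0 → ∃ l ∈ toZ, app (evW l) b1 = v := by decide +kernel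

theorem toU_all : ∀ v : V4, qf v = 2 → ∃ l ∈ toU, app (evW l) b3 = v := by decide +kernel

theorem toE_all : ∀ v : V4, qf v = 1 → ∃ l ∈ toE, app (evW l) e0v = v := by decide +kernel

theorem fixU_group : (∀ l ∈ fixU, app (evW l) b3 = b3) ∧ (fixU.map evW).Nodup ∧ fixU.length = 8 ∧
    ∀ a ∈ fixU, ∀ b ∈ fixU, mulM (evW a) (evW b) ∈ fixU.map evW := by decide +kernel

theorem fixE_group : (∀ l ∈ fixE, app (evW l) e0v = e0v) ∧ (fixE.map evW).Nodup ∧ fixE.length = 8 ∧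
    ∀ a ∈ fixE, ∀ b ∈ fixE, mulM (evW a) (evW b) ∈ fixE.map evW := by decide +kernel

theorem form_cand : ∀ (a b c d : ZMod 3) (n : V4), b ≠ 0 → d ≠ 0 →
    (∀ v : V4, qf (app ((1, 0, 0, 0), (a, b, 0, 0), (c, 0, d, 0), n) v) = 0 ↔ qf v = 0) →
    ∀ v : V4, qf (app ((1, 0, 0, 0), (a, b, 0, 0), (c, 0, d, 0), n) v) = qf v := by decide +kernel

theorem v4_norms : ∀ v : V4, qf v = 0 ∨ qf v = 1 ∨ qf v = 2 := by decide +kernel

theorem app_cols (M : M4) : app M b1 = M.1 ∧ app M b2 = M.2.1 ∧ app M b3 = M.2.2.1 ∧ app M b4 = M.2.2.2 := by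
  obtain ⟨⟨a, b, c, d⟩, ⟨e, f, g', i⟩, ⟨j, k, l, m⟩, n, o, q, r⟩ := M
  simp [app, smulV, b1, b2, b3, b4]

theorem app_zero (M : M4) : app M 0 = 0 := by
  simp [app, smulV, ← Prod.zero_eq_mk]

namespace Setting

variable {G : Type*} [Group G] [Finite G] (S : Setting G)

/-- The normaliser of the torus. -/
def N : Subgroup G := normalizer (S.K.A : Set G)

theorem mem_N {g : G} (h : ∀ a ∈ S.K.A, g * a * g⁻¹ ∈ S.K.A) : g ∈ S.N := by
  have heq : S.K.A.map (MulAut.conj g).toMonoidHom = S.K.A := eq_of_le_of_card_ge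
    (by rintro _ ⟨a, ha, rfl⟩; exact h a ha) (by rw [card_map_of_injective (MulAut.conj g).injective])
  refine mem_normalizer_iff.2 fun a => ⟨h a, fun ha => ?_⟩
  obtain ⟨b, hb, e⟩ : g * a * g⁻¹ ∈ S.K.A.map (MulAut.conj g).toMonoidHom := by rw [heq]; exact ha
  exact (MulAut.conj g).injective e ▸ hb

theorem acts_N {g : G} (hg : g ∈ S.N) : ∃ M, S.K.Acts g M := by
  have h : ∀ a ∈ S.K.A, ∃ v, S.K.φ v = g * a * g⁻¹ := fun a ha =>
    S.K.φ_surj ((mem_normalizer_iff.1 hg a).1 ha)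
  obtain ⟨m1, h1⟩ := h _ S.K.m1
  obtain ⟨m2, h2⟩ := h _ S.K.m2
  obtain ⟨m3, h3⟩ := h _ S.K.m3
  obtain ⟨m4, h4⟩ := h _ S.K.m4
  exact ⟨(m1, m2, m3, m4), S.K.acts_of h1.symm h2.symm h3.symm h4.symm⟩

theorem mem_N_of_acts {g : G} {M : M4} (h : S.K.Acts g M) : g ∈ S.N := S.mem_N fun _ ha => h.map_A ha

theorem A_le_N : S.K.A ≤ S.N := fun _ ha => le_normalizer ha

/-- The map of a word is induced. -/
theorem lift_word (l : List (Fin 4)) : ∃ n, S.K.Acts n (evW l) := by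
  induction l with
  | nil => exact ⟨1, S.K.acts_one⟩
  | cons i l ih =>
    obtain ⟨n, hn⟩ := ih
    obtain ⟨g, hg⟩ : ∃ g, S.K.Acts g (genM i) := by
      fin_cases i
      exacts [⟨_, S.acts_w⟩, ⟨_, S.acts_u⟩, ⟨_, S.acts_t⟩, ⟨_, S.acts_v⟩]
    exact ⟨g * n, hg.mul hn⟩

/-- The centraliser of the torus. -/
theorem cent_A {g : G} (hg : ∀ a ∈ S.K.A, Commute g a) : g ∈ S.K.A := by
  haveI : Fact (Nat.Prime 3) := ⟨Nat.prime_three⟩
  set F := S.F
  have hgC : g ∈ F.toPair.toConf.Cz := S.mem_Cz.2 (hg _ S.K.m1)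
  have hgA : ∀ a ∈ F.A, Commute g a := fun a ha => hg a (S.hA.symm ▸ ha)
  -- commutators with the core lie in `B`
  have hB : ∀ q ∈ F.Q, g * q * g⁻¹ * q⁻¹ ∈ F.B := by
    intro q hq
    have hm : g * q * g⁻¹ * q⁻¹ ∈ F.Q := mul_mem (F.normal g hgC q hq) (inv_mem hq)
    have hc : ∀ b ∈ F.B, Commute (g * q * g⁻¹ * q⁻¹) b := fun b hb => by
      have h1 : g * ⁅q, b⁆ * g⁻¹ = ⁅q, b⁆ := F.toPair.toConf.fix_Z hgC (F.comm_mem _ hq _ (F.B_le_Q hb))
      have h2 : ⁅g * q * g⁻¹, b⁆ = ⁅q, b⁆ := by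
        conv_rhs => rw [← h1]
        rw [show g * ⁅q, b⁆ * g⁻¹ = ⁅g * q * g⁻¹, g * b * g⁻¹⁆ by simp only [commutatorElement_def]; group,
          (hgA b (F.B_le_A hb)).eq, mul_inv_cancel_right]
      refine commutatorElement_eq_one_iff_commute.1 ?_
      rw [F.toPair.toConf.bracket_mul_left (F.normal g hgC q hq) (inv_mem hq) (F.B_le_Q hb), h2,
        ← F.toPair.toConf.bracket_mul_left hq (inv_mem hq) (F.B_le_Q hb), mul_inv_cancel]
      exact commutatorElement_one_left _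
    by_contra hn
    have h3 := F.toPair.toConf.card_sup_zpowers hm F.B_le_Q hc hn
    have h4 := F.toPair.toConf.abel_le (H := F.B ⊔ zpowers (g * q * g⁻¹ * q⁻¹))
      (sup_le F.B_le_Q (zpowers_le.2 hm)) ?_
    · rw [h3, F.card_B] at h4; omega
    · have hcc : ∀ x ∈ (F.B : Set G) ∪ {g * q * g⁻¹ * q⁻¹}, ∀ y ∈ (F.B : Set G) ∪ {g * q * g⁻¹ * q⁻¹},
          x * y = y * x := by
        rintro x (hx | rfl) y (hy | rfl)
        exacts [(F.A_comm (F.B_le_A hx) (F.B_le_A hy)).eq, ((hc x hx).symm).eq, (hc y hy).eq, rfl]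
      intro x hx y hy
      haveI := Subgroup.isMulCommutative_closure hcc
      have hle : F.B ⊔ zpowers (g * q * g⁻¹ * q⁻¹) ≤ closure ((F.B : Set G) ∪ {g * q * g⁻¹ * q⁻¹}) :=
        sup_le (fun b hb => subset_closure (Or.inl hb)) (zpowers_le.2 (subset_closure (Or.inr rfl)))
      exact congrArg Subtype.val (mul_comm' (⟨x, hle hx⟩ : closure ((F.B : Set G) ∪ _)) ⟨y, hle hy⟩)
  have h3 : ∀ q ∈ F.Q, Commute (g ^ 3) q := by
    intro q hq
    obtain ⟨m, hm⟩ : ∃ m, m = g * q * g⁻¹ * q⁻¹ := ⟨_, rfl⟩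
    have hmB : m ∈ F.B := hm ▸ hB q hq
    have hgm : g * m * g⁻¹ = m := mul_inv_eq_iff_eq_mul.2 (hgA m (F.B_le_A hmB)).eq
    have h1 : g * q * g⁻¹ = m * q := by rw [hm, inv_mul_cancel_right]
    refine mul_inv_eq_iff_eq_mul.1 ?_
    calc g ^ 3 * q * (g ^ 3)⁻¹ = g * (g * (g * q * g⁻¹) * g⁻¹) * g⁻¹ := by
          simp only [pow_succ, pow_zero, one_mul]; group
      _ = (g * (g * m * g⁻¹) * g⁻¹) * (g * (g * q * g⁻¹) * g⁻¹) := by
          rw [show g * (g * (g * q * g⁻¹) * g⁻¹) * g⁻¹ = g * (g * (m * q) * g⁻¹) * g⁻¹ by rw [h1]]; group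
      _ = m * (g * (m * q) * g⁻¹) := by rw [hgm, hgm, h1]
      _ = m * (g * m * g⁻¹ * (g * q * g⁻¹)) := by group
      _ = (m * m * m) * q := by rw [hgm, h1]; group
      _ = q := by rw [show m * m * m = m ^ 3 by simp [pow_succ], F.A_exp (F.B_le_A hmB), one_mul]
  have h9 : (g ^ 3) ^ 3 = 1 := F.exp_Q _ (F.cent_Q _ fun q hq => (h3 q hq).eq)
  have hgp : IsPGroup 3 (zpowers g) := by
    rintro ⟨x, hx⟩
    obtain ⟨k, rfl⟩ := mem_zpowers_iff.1 hx
    refine ⟨2, Subtype.ext ?_⟩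
    show (g ^ k) ^ (3 ^ 2) = 1
    rw [← zpow_natCast, ← zpow_mul, mul_comm, zpow_mul, zpow_natCast, show (3 : ℕ) ^ 2 = 3 * 3 from rfl,
      pow_mul, h9, one_zpow]
  have hcc : ∀ x ∈ ({g} : Set G) ∪ F.A, ∀ y ∈ ({g} : Set G) ∪ F.A, x * y = y * x := by
    rintro x (rfl | hx) y (rfl | hy)
    exacts [rfl, (hgA y hy).eq, (hgA x hx).eq.symm, (F.A_comm hx hy).eq]
  set P := zpowers g ⊔ F.A with hP
  have hgN : zpowers g ≤ normalizer (F.A : Set G) := zpowers_le.2 (mem_normalizer_iff.2 fun a => ⟨fun ha => by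
    rwa [(hgA a ha).eq, mul_inv_cancel_right], fun ha => by
    have h := hgA _ ha
    have e : g * a * g⁻¹ = a := by
      have := (mul_inv_eq_iff_eq_mul.2 h.eq)
      exact (mul_left_cancel (mul_right_cancel this))
    rwa [e] at ha⟩)
  have h := F.unique (P := P) (sup_le (zpowers_le.2 hgC) F.A_le_Cz) (hgp.to_sup_of_normal_right' F.isPGroup_A hgN)
    (mem_sup_right F.s_mem_A) le_rfl (fun x hx y hy => by
      haveI := Subgroup.isMulCommutative_closure hcc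
      have hle : P ≤ closure (({g} : Set G) ∪ F.A) :=
        sup_le (zpowers_le.2 (subset_closure (Or.inl rfl))) (fun b hb => subset_closure (Or.inr hb))
      exact congrArg Subtype.val (mul_comm' (⟨x, hle hx⟩ : closure (({g} : Set G) ∪ F.A)) ⟨y, hle hy⟩))
    (by rw [← F.card_A]; exact card_le_of_le le_sup_right)
  rw [S.hA, ← h]
  exact mem_sup_left (mem_zpowers g)

theorem card_FS : Nat.card S.F.S = 729 := by
  haveI : Fact (Nat.Prime 3) := ⟨Nat.prime_three⟩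
  obtain ⟨j, hj⟩ := IsPGroup.iff_card.1 S.F.isPGroup_S
  have hlt : Nat.card S.F.Q < Nat.card S.F.S := Set.Finite.card_lt_card (Set.toFinite _)
    (lt_of_le_of_ne (fun x hx => (mem_sup_left hx : x ∈ S.F.S)) fun e =>
      S.F.s_not ((SetLike.coe_injective e).symm ▸ (mem_sup_right (mem_zpowers S.F.s) : S.F.s ∈ S.F.S)))
  have hle := S.three _ S.F.isPGroup_S
  rw [S.F.card_Q, hj] at hlt
  rw [hj] at hle ⊢
  have h6 : 6 ≤ j := by
    by_contra h
    have := Nat.pow_le_pow_right (show 0 < 3 by norm_num) (show j ≤ 5 by omega)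
    omega
  have := Nat.pow_le_pow_right (show 0 < 3 by norm_num) h6
  omega

/-- The torus is the only abelian subgroup of its order in a 3-group containing it. -/
theorem A_unique {P : Subgroup G} (hp : IsPGroup 3 P) (hA : S.K.A ≤ P) {H : Subgroup G} (hH : H ≤ P)
    (hc : ∀ a ∈ H, ∀ b ∈ H, Commute a b) (h81 : 81 ≤ Nat.card H) : H = S.K.A := by
  haveI : Fact (Nat.Prime 3) := ⟨Nat.prime_three⟩
  obtain ⟨S', hS'⟩ := hp.exists_le_sylow
  obtain ⟨S0, hS0⟩ := S.F.isPGroup_S.exists_le_sylow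
  have heq : (S0 : Subgroup G) = S.F.S :=
    (eq_of_le_of_card_ge hS0 (by rw [S.card_FS]; exact S.three _ S0.isPGroup')).symm
  obtain ⟨g, hg⟩ := MulAction.exists_smul_eq G S0 S'
  have key : ∀ L : Subgroup G, L ≤ P → (∀ a ∈ L, ∀ b ∈ L, Commute a b) → 81 ≤ Nat.card L →
      L.map (MulAut.conj g⁻¹).toMonoidHom = S.F.A := by
    intro L hL hLc hL81
    refine S.F.unique (P := S.F.S) S.F.S_le S.F.isPGroup_S (mem_sup_right (mem_zpowers _)) ?_ ?_
      (by rw [card_map_of_injective (MulAut.conj g⁻¹).injective]; exact hL81)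
    · rintro _ ⟨x, hx, rfl⟩
      have h : x ∈ ((g • S0 : Sylow 3 G) : Subgroup G) := by rw [hg]; exact hS' (hL hx)
      rw [Sylow.coe_subgroup_smul, Subgroup.mem_pointwise_smul_iff_inv_smul_mem, heq] at h
      simpa using h
    · rintro _ ⟨a, ha, rfl⟩ _ ⟨b, hb, rfl⟩
      exact (hLc a ha b hb).map (MulAut.conj g⁻¹)
  refine map_injective (MulAut.conj g⁻¹).injective ((key H hH hc h81).trans (key S.K.A hA S.K.comm ?_).symm)
  rw [S.K.card]

/-- The normaliser of the torus controls fusion of its members. -/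
theorem fusion {a g : G} (ha : a ∈ S.K.A) (hb : g * a * g⁻¹ ∈ S.K.A) :
    ∃ n ∈ S.N, n * a * n⁻¹ = g * a * g⁻¹ := by
  haveI : Fact (Nat.Prime 3) := ⟨Nat.prime_three⟩
  set b := g * a * g⁻¹ with hb'
  set C := centralizer ({b} : Set G)
  have hAC : S.K.A ≤ C := fun x hx => mem_centralizer_singleton_iff.2 (S.K.comm x hx b hb).eq
  have hgC : S.K.A.map (MulAut.conj g).toMonoidHom ≤ C := by
    rintro _ ⟨x, hx, rfl⟩
    exact mem_centralizer_singleton_iff.2 ((S.K.comm x hx a ha).map (MulAut.conj g)).eq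
  have hp : IsPGroup 3 S.K.A := fun a => ⟨1, Subtype.ext (by simpa using S.K.exp _ a.2)⟩
  obtain ⟨P1, hP1⟩ := (hp.comap_of_injective C.subtype C.subtype_injective).exists_le_sylow
  obtain ⟨P2, hP2⟩ := ((hp.map (MulAut.conj g).toMonoidHom).comap_of_injective C.subtype
    C.subtype_injective).exists_le_sylow
  obtain ⟨c, hc⟩ := MulAction.exists_smul_eq C P2 P1
  refine ⟨c * g, ?_, ?_⟩
  · have h := S.A_unique (P := (P1 : Subgroup C).map C.subtype) (P1.isPGroup'.map _)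
      (fun x hx => ⟨⟨x, hAC hx⟩, hP1 hx, rfl⟩)
      (H := S.K.A.map (MulAut.conj ((c : G) * g)).toMonoidHom) (by
        rintro _ ⟨x, hx, rfl⟩
        have hm : (⟨g * x * g⁻¹, hgC ⟨x, hx, rfl⟩⟩ : C) ∈ (P2 : Subgroup C) := hP2 ⟨x, hx, rfl⟩
        refine ⟨c * ⟨g * x * g⁻¹, hgC ⟨x, hx, rfl⟩⟩ * c⁻¹, ?_, by simp [mul_assoc]⟩
        rw [← hc, Sylow.coe_subgroup_smul]
        exact Subgroup.smul_mem_pointwise_smul _ (MulAut.conj c) _ hm)
      (by rintro _ ⟨x, hx, rfl⟩ _ ⟨y, hy, rfl⟩; exact (S.K.comm x hx y hy).map (MulAut.conj ((c : G) * g)))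
      (by rw [card_map_of_injective (MulAut.conj ((c : G) * g)).injective, S.K.card])
    exact S.mem_N fun x hx => h.le ⟨x, hx, rfl⟩
  · have hcb : (c : G) * b = b * c := mem_centralizer_singleton_iff.1 c.2
    calc (c : G) * g * a * ((c : G) * g)⁻¹ = (c : G) * b * (c : G)⁻¹ := by rw [hb']; group
      _ = b := by rw [hcb, mul_inv_cancel_right]

/-- The normaliser of the torus in the centraliser of `z` is small. -/
theorem card_NCz : Nat.card ↥(S.N ⊓ S.F.toPair.toConf.Cz) * 4 ≤ 11664 ∧ 729 ∣ Nat.card ↥(S.N ⊓ S.F.toPair.toConf.Cz) := by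
  set Cz := S.F.toPair.toConf.Cz
  set L := S.N ⊓ Cz
  constructor
  · have hRL : ∀ r ∈ S.R, r ∈ S.N → r = 1 ∨ r = S.F.t := by
      intro r hr hrN
      refine S.R_fix hr ?_
      have he := S.K.m4
      have hte : Commute S.K.p4 S.F.t := by
        have := mul_inv_eq_iff_eq_mul.1 S.p4_t
        exact this.symm
      have h1 : r * S.K.p4 * r⁻¹ * S.K.p4⁻¹ ∈ S.K.A :=
        mul_mem ((mem_normalizer_iff.1 hrN _).1 he) (inv_mem he)
      have h2 : r * S.K.p4 * r⁻¹ * S.K.p4⁻¹ ∈ S.R := by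
        rw [show r * S.K.p4 * r⁻¹ * S.K.p4⁻¹ = r * (S.K.p4 * r⁻¹ * S.K.p4⁻¹) by group]
        exact mul_mem hr (S.R_norm (S.A_le_Cz he) hte (inv_mem hr))
      obtain ⟨x, hx⟩ : ∃ x, x = r * S.K.p4 * r⁻¹ * S.K.p4⁻¹ := ⟨_, rfl⟩
      rw [← hx] at h1 h2
      have e3 : x ^ 3 = 1 := S.K.exp _ h1
      have e8 : x ^ 8 = 1 := by
        have h := pow_card_eq_one' (G := S.R) (x := ⟨x, h2⟩)
        rw [S.card_R] at h
        exact congrArg Subtype.val h
      have hd : orderOf x ∣ Nat.gcd 3 8 := Nat.dvd_gcd (orderOf_dvd_of_pow_eq_one e3) (orderOf_dvd_of_pow_eq_one e8)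
      rw [show Nat.gcd 3 8 = 1 from rfl, Nat.dvd_one, orderOf_eq_one_iff, hx, mul_inv_eq_one] at hd
      exact mul_inv_eq_iff_eq_mul.1 hd
    have hinf : Nat.card ↥(L ⊓ S.R) ≤ 2 := by
      have hsub : ((L ⊓ S.R : Subgroup G) : Set G) ⊆ {1, S.F.t} := fun r hr => hRL r hr.2 hr.1.1
      have h := (Set.ncard_le_ncard hsub (Set.toFinite _)).trans (Set.ncard_insert_le _ _)
      rw [Set.ncard_singleton, ← Nat.card_coe_set_eq] at h
      exact h
    have hrel : L.relIndex S.R ≤ L.relIndex Cz :=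
      relIndex_le_of_le_right S.R_le (L.subgroupOf Cz).index_ne_zero_of_finite
    have hmul := relIndex_mul_relIndex ⊥ (L ⊓ S.R) S.R bot_le inf_le_right
    rw [relIndex_bot_left, relIndex_bot_left, inf_relIndex_right, S.card_R] at hmul
    have h4 : 4 ≤ L.relIndex S.R := by nlinarith
    have hC := relIndex_mul_relIndex ⊥ L Cz bot_le inf_le_right
    rw [relIndex_bot_left, relIndex_bot_left, S.card_Cz] at hC
    have hδ : S.δ ≤ 2 := by rcases S.δ_cases with h | h <;> omega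
    nlinarith
  · rw [← S.card_FS]
    refine card_dvd_of_le (sup_le (le_inf ?_ S.F.Q_le) (zpowers_le.2 ⟨?_, S.F.s_Cz⟩))
    · exact fun q hq => S.mem_N fun a ha => S.hA.symm ▸ S.F.mapQ hq (S.hA ▸ ha)
    · exact S.A_le_N (S.hA.symm ▸ S.F.s_mem_A)

/-- A vector fixed by eight induced maps forming a group is not fused to `z`. -/
theorem not_fused {rep : V4} {l : List (List (Fin 4))} (hfix : ∀ w ∈ l, app (evW w) rep = rep)
    (hnd : (l.map evW).Nodup) (hlen : l.length = 8)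
    (hcl : ∀ a ∈ l, ∀ b ∈ l, mulM (evW a) (evW b) ∈ l.map evW) {n : G} (hn : n ∈ S.N)
    (e : n * S.K.p1 * n⁻¹ = S.K.φ rep) : False := by
  classical
  obtain ⟨T, hT⟩ : ∃ T : Subgroup G, ∀ g, g ∈ T ↔ ∃ M ∈ l.map evW, S.K.Acts g M := by
    have hcl' : ∀ a ∈ {g | ∃ M ∈ l.map evW, S.K.Acts g M}, ∀ b ∈ {g | ∃ M ∈ l.map evW, S.K.Acts g M},
        a * b ∈ {g | ∃ M ∈ l.map evW, S.K.Acts g M} := by
      rintro a ⟨M, hM, ha⟩ b ⟨M', hM', hb⟩
      obtain ⟨x, hx, rfl⟩ := List.mem_map.1 hM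
      obtain ⟨y, hy, rfl⟩ := List.mem_map.1 hM'
      exact ⟨_, hcl x hx y hy, ha.mul hb⟩
    have hne : ∃ g, g ∈ {g | ∃ M ∈ l.map evW, S.K.Acts g M} := by
      obtain ⟨x, hx⟩ : ∃ x, x ∈ l := List.exists_mem_of_length_pos (by omega)
      obtain ⟨g, hg⟩ := S.lift_word x
      exact ⟨g, _, List.mem_map.2 ⟨x, hx, rfl⟩, hg⟩
    obtain ⟨g0, hg0⟩ := hne
    have hpow : ∀ g ∈ {g | ∃ M ∈ l.map evW, S.K.Acts g M}, ∀ k : ℕ, 0 < k →
        g ^ k ∈ {g | ∃ M ∈ l.map evW, S.K.Acts g M} := by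
      intro g hg k hk
      induction k with
      | zero => omega
      | succ k ih =>
        by_cases hk0 : k = 0
        · subst hk0; simpa using hg
        · rw [pow_succ]; exact hcl' _ (ih (Nat.pos_of_ne_zero hk0)) _ hg
    exact ⟨{ carrier := {g | ∃ M ∈ l.map evW, S.K.Acts g M}
             mul_mem' := fun ha hb => hcl' _ ha _ hb
             one_mem' := by
               have := hpow g0 hg0 _ (orderOf_pos g0)
               rwa [pow_orderOf_eq_one] at this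
             inv_mem' := fun {a} ha => by
               have := hpow a ha (2 * orderOf a - 1) (by have := orderOf_pos a; omega)
               rwa [show a ^ (2 * orderOf a - 1) = a⁻¹ from eq_inv_of_mul_eq_one_left (by
                 rw [← pow_succ, show 2 * orderOf a - 1 + 1 = orderOf a * 2 by have := orderOf_pos a; omega,
                   pow_mul, pow_orderOf_eq_one, one_pow])] at this },
      fun g => Iff.rfl⟩
  have hTN : ∀ g ∈ T, g ∈ S.N ∧ Commute g (S.K.φ rep) := fun g hg => by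
    obtain ⟨M, hM, hg⟩ := (hT g).1 hg
    obtain ⟨x, hx, rfl⟩ := List.mem_map.1 hM
    refine ⟨S.mem_N_of_acts hg, mul_inv_eq_iff_eq_mul.1 ?_⟩
    rw [hg, hfix x hx]
  have hcard : Nat.card T = 8 * 81 := by
    choose gi hgi using fun i : Fin l.length => S.lift_word l[i]
    let f : Fin l.length × S.K.A → T := fun p => ⟨gi p.1 * p.2, (hT _).2
      ⟨_, List.mem_map.2 ⟨l[p.1], List.getElem_mem _, rfl⟩, by
        have h := (hgi p.1).mul (S.K.acts_of_mem p.2.2)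
        rwa [mulM_oneM] at h⟩⟩
    have hf : Function.Bijective f := by
      constructor
      · rintro ⟨i, a⟩ ⟨j, b⟩ h
        have h1 : gi i * a = gi j * b := congrArg Subtype.val h
        have hM : evW l[i] = evW l[j] := by
          have hi := (hgi i).mul (S.K.acts_of_mem a.2)
          have hj := (hgi j).mul (S.K.acts_of_mem b.2)
          rw [mulM_oneM] at hi hj
          exact S.K.acts_unique hi (h1 ▸ hj)
        have hij : i = j := by
          refine Fin.ext ?_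
          have := (List.Nodup.getElem_inj_iff hnd (i := i.val) (j := j.val) (hi := by simp) (hj := by simp)).1
            (by simpa using hM)
          exact this
        subst hij
        exact Prod.ext rfl (Subtype.ext (mul_left_cancel h1))
      · rintro ⟨g, hg⟩
        obtain ⟨M, hM, hgM⟩ := (hT g).1 hg
        obtain ⟨x, hx, rfl⟩ := List.mem_map.1 hM
        obtain ⟨i, hi, rfl⟩ := List.getElem_of_mem hx
        refine ⟨(⟨i, hi⟩, ⟨(gi ⟨i, hi⟩)⁻¹ * g, S.cent_A fun a ha => ?_⟩), Subtype.ext (mul_inv_cancel_left _ _)⟩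
        obtain ⟨v, rfl⟩ := S.K.φ_surj ha
        refine mul_inv_eq_iff_eq_mul.1 ?_
        have h1 := hgi ⟨i, hi⟩ v
        calc (gi ⟨i, hi⟩)⁻¹ * g * S.K.φ v * ((gi ⟨i, hi⟩)⁻¹ * g)⁻¹
            = (gi ⟨i, hi⟩)⁻¹ * (g * S.K.φ v * g⁻¹) * gi ⟨i, hi⟩ := by group
          _ = S.K.φ v := by rw [hgM, show (evW l[i]) = evW l[(⟨i, hi⟩ : Fin l.length)] from rfl, ← h1]; group
    rw [← Nat.card_eq_of_bijective f hf, Nat.card_prod, Nat.card_fin, hlen, S.K.card]
  have hle : T.map (MulAut.conj n⁻¹).toMonoidHom ≤ S.N ⊓ S.F.toPair.toConf.Cz := by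
    rintro _ ⟨g, hg, rfl⟩
    obtain ⟨h1, h2⟩ := hTN g hg
    refine ⟨?_, S.mem_Cz.2 ?_⟩
    · show n⁻¹ * g * n⁻¹⁻¹ ∈ S.N
      rw [inv_inv]
      exact mul_mem (mul_mem (inv_mem hn) h1) hn
    · have h := h2.map (MulAut.conj n⁻¹)
      rwa [← e, show MulAut.conj n⁻¹ (n * S.K.p1 * n⁻¹) = S.K.p1 by simp [mul_assoc]] at h
  have h648 := card_dvd_of_le hle
  rw [card_map_of_injective (MulAut.conj n⁻¹).injective, hcard] at h648
  obtain ⟨hb, h729⟩ := S.card_NCz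
  have := Nat.dvd_lcm_left 648 729
  have h5832 : Nat.lcm 648 729 ∣ Nat.card ↥(S.N ⊓ S.F.toPair.toConf.Cz) := Nat.lcm_dvd h648 h729
  have := Nat.le_of_dvd Nat.card_pos h5832
  rw [show Nat.lcm 648 729 = 5832 by decide +kernel] at this
  omega

theorem acts_conj {n : G} {M : M4} (h : S.K.Acts n M) (v : V4) : n * S.K.φ v * n⁻¹ = S.K.φ (app M v) := h v

/-- Exactly the singular vectors are fused to `z`. -/
theorem zconj_iff {v : V4} : (∃ g, g * S.K.p1 * g⁻¹ = S.K.φ v) ↔ v ≠ 0 ∧ qf v = 0 := by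
  constructor
  · rintro ⟨g, e⟩
    have hv : v ≠ 0 := fun h => S.p1_ne (by
      rw [h, S.K.φ_zero] at e
      exact mul_eq_left.1 (mul_inv_eq_one.1 e) )
    refine ⟨hv, ?_⟩
    by_contra hq
    obtain ⟨n, hn, en⟩ := S.fusion S.K.m1 (g := g) (e ▸ S.K.φ_mem v)
    rw [e] at en
    have step : ∀ (rep : V4) (w : List (Fin 4)), app (evW w) rep = v →
        ∃ n' ∈ S.N, n' * S.K.p1 * n'⁻¹ = S.K.φ rep := by
      intro rep w hw
      obtain ⟨m, hm⟩ := S.lift_word w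
      refine ⟨m⁻¹ * n, mul_mem (inv_mem (S.mem_N_of_acts hm)) hn, ?_⟩
      calc m⁻¹ * n * S.K.p1 * (m⁻¹ * n)⁻¹ = m⁻¹ * (n * S.K.p1 * n⁻¹) * m := by group
        _ = _ := by rw [en, ← hw, ← hm]; group
    rcases v4_norms v with h | h | h
    · exact hq h
    · obtain ⟨w, -, hw⟩ := toE_all v h
      obtain ⟨n', hn', en'⟩ := step _ w hw
      obtain ⟨h1, h2, h3, h4⟩ := fixE_group
      exact S.not_fused h1 h2 h3 h4 hn' en'
    · obtain ⟨w, -, hw⟩ := toU_all v h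
      obtain ⟨n', hn', en'⟩ := step _ w hw
      obtain ⟨h1, h2, h3, h4⟩ := fixU_group
      exact S.not_fused h1 h2 h3 h4 hn' en'
  · rintro ⟨hv, hq⟩
    obtain ⟨w, -, hw⟩ := toZ_all v hv hq
    obtain ⟨m, hm⟩ := S.lift_word w
    exact ⟨m, by rw [← S.K.φ_b1, hm, hw]⟩

theorem coord_Q {v : V4} (h : S.K.φ v ∈ S.F.Q) : v.2.2.2 = 0 := by
  by_contra hne
  have h1 : pw S.K.p4 v.2.2.2 ∈ S.F.Q := by
    have := mul_mem (inv_mem (mul_mem (mul_mem (pow_mem S.p1_mem_Q v.1.val) (pow_mem S.p2_mem_Q v.2.1.val))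
      (pow_mem S.p3_mem_Q v.2.2.1.val))) h
    rwa [Coord.φ, pw, pw, pw, inv_mul_cancel_left] at this
  rcases zm3_cases _ hne with e | e <;> rw [e] at h1
  · exact S.p4_not (by rwa [pw_one] at h1)
  · rw [zm3_two, HeisSLThree.pw_neg (S.K.exp _ S.K.m4), pw_one] at h1
    exact S.p4_not (by simpa using inv_mem h1)

theorem coord_W {v : V4} (h : S.K.φ v ∈ S.F.toPair.toConf.W) : v.2.2.1 = 0 ∧ v.2.2.2 = 0 := by
  have h4 := S.coord_Q h.1
  refine ⟨?_, h4⟩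
  have h3 : pw S.K.p3 v.2.2.1 ∈ S.F.toPair.toConf.W := by
    have := mul_mem (inv_mem (mul_mem (pow_mem (S.F.toPair.toConf.Z_le_W S.p1_mem) v.1.val)
      (pow_mem S.p2_mem v.2.1.val))) h
    rwa [Coord.φ, h4, pw_zero, mul_one, pw, pw, inv_mul_cancel_left] at this
  have hz := S.F.toPair.toConf.inf_WU h3 (pow_mem S.p3_mem _)
  rw [← S.zpowers_p1] at hz
  obtain ⟨k, hk⟩ := mem_zpowers_iff.1 hz
  have h := S.K.φ_smul v.2.2.1 b3
  rw [S.K.φ_b3, ← hk] at h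
  have hk' : S.K.p1 ^ k = pw S.K.p1 ((k % 3).toNat : ZMod 3) := by
    haveI : Fact (Nat.Prime 3) := ⟨Nat.prime_three⟩
    rw [pw, ← zpow_natCast, zpow_eq_zpow_iff_modEq, orderOf_eq_prime (S.K.exp _ S.K.m1) S.p1_ne, ZMod.val_natCast,
      Int.natCast_mod, Int.toNat_of_nonneg (Int.emod_nonneg _ (by norm_num))]
    exact (Int.mod_modEq _ _).symm.trans (Int.mod_modEq _ _).symm
  rw [hk', ← S.K.φ_b1, ← S.K.φ_smul] at h
  have h' := congrArg (fun x : V4 => x.2.2.1) (S.K.φ_inj h)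
  simpa [smulV, b1, b3] using h'

theorem coord_U {v : V4} (h : S.K.φ v ∈ S.F.toPair.toConf.U) : v.2.1 = 0 ∧ v.2.2.2 = 0 := by
  have h4 := S.coord_Q h.1
  refine ⟨?_, h4⟩
  have hm : S.K.φ (0, v.2.1, 0, 0) ∈ S.F.toPair.toConf.U := by
    have e : S.K.φ (0, v.2.1, 0, 0) = (S.K.φ (v.1, 0, v.2.2.1, 0))⁻¹ * S.K.φ v := by
      refine eq_inv_mul_iff_mul_eq.2 ?_
      rw [← S.K.φ_add]
      congr 1
      obtain ⟨a, b, c, d⟩ := v
      simp only at h4
      subst h4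
      simp
    rw [e]
    refine mul_mem (inv_mem ?_) h
    simp only [Coord.φ, pw_zero, mul_one]
    exact mul_mem (pow_mem (S.F.toPair.toConf.Z_le_U S.p1_mem) _) (pow_mem S.p3_mem _)
  have hW : S.K.φ (0, v.2.1, 0, 0) ∈ S.F.toPair.toConf.W := by
    simp only [Coord.φ, pw_zero, mul_one, one_mul]
    exact pow_mem S.p2_mem _
  have hz := S.F.toPair.toConf.inf_WU hW hm
  rw [← S.zpowers_p1] at hz
  have hc : Commute S.F.t (S.K.φ (0, v.2.1, 0, 0)) :=
    mul_inv_eq_iff_eq_mul.1 hm.2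
  have ht := S.acts_t (0, v.2.1, 0, 0)
  rw [mul_inv_eq_iff_eq_mul.2 hc.eq] at ht
  have h' := congrArg (fun x : V4 => x.2.1) (S.K.φ_inj ht)
  have key : ∀ b : ZMod 3, b = (app MT (0, b, 0, 0)).2.1 → b = 0 := by decide
  exact key _ h'

/-- The normaliser of the torus preserves the form. -/
theorem qf_pres {n : G} {M : M4} (h : S.K.Acts n M) (v : V4) : qf (app M v) = qf v := by
  have null : ∀ {n : G} {M : M4}, S.K.Acts n M → ∀ v, qf (app M v) = 0 ↔ qf v = 0 := by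
    intro n M h v
    by_cases hv : v = 0
    · subst hv; rw [app_zero]
    have hne : app M v ≠ 0 := fun e => hv ((S.K.φ_eq_one).1 (by
      have := h v
      rw [e, S.K.φ_zero, mul_inv_eq_one] at this
      exact mul_eq_left.1 this))
    constructor
    · intro hq
      obtain ⟨g, hg⟩ := S.zconj_iff.2 ⟨hne, hq⟩
      exact (S.zconj_iff.1 ⟨n⁻¹ * g, by
        calc n⁻¹ * g * S.K.p1 * (n⁻¹ * g)⁻¹ = n⁻¹ * (g * S.K.p1 * g⁻¹) * n := by group
          _ = _ := by rw [hg, ← h]; group⟩).2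
    · intro hq
      obtain ⟨g, hg⟩ := S.zconj_iff.2 ⟨hv, hq⟩
      exact (S.zconj_iff.1 ⟨n * g, by
        calc n * g * S.K.p1 * (n * g)⁻¹ = n * (g * S.K.p1 * g⁻¹) * n⁻¹ := by group
          _ = _ := by rw [hg, h]⟩).2
  have hb1 : app M b1 ≠ 0 ∧ qf (app M b1) = 0 :=
    S.zconj_iff.1 ⟨n, by rw [← h, S.K.φ_b1]⟩
  obtain ⟨w, -, hw⟩ := toZ_all _ hb1.1 hb1.2
  obtain ⟨m, hm⟩ := S.lift_word w
  obtain ⟨M', hM'⟩ := S.acts_N (mul_mem (inv_mem (S.mem_N_of_acts hm)) (S.mem_N_of_acts h))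
  have hMM : mulM (evW w) M' = M := S.K.acts_unique (by
    have := hm.mul hM'
    rwa [mul_inv_cancel_left] at this) h
  suffices hs : qf (app M' v) = qf v by rw [← hMM, app_mulM, qf_evW, hs]
  set c := m⁻¹ * n with hc
  have hfix : c * S.K.p1 * c⁻¹ = S.K.p1 := by
    calc c * S.K.p1 * c⁻¹ = m⁻¹ * (n * S.K.p1 * n⁻¹) * m := by rw [hc]; group
      _ = S.K.p1 := by rw [← S.K.φ_b1, h, ← hw, ← hm]; group
  have hcC : c ∈ S.F.toPair.toConf.Cz := S.mem_Cz.2 (mul_inv_eq_iff_eq_mul.1 hfix)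
  obtain ⟨c1, c2, c3, c4⟩ := app_cols M'
  have e1 : M'.1 = (1, 0, 0, 0) := by
    refine S.K.φ_inj ?_
    rw [← c1, ← hM', S.K.φ_b1, hfix, ← S.K.φ_b1]; rfl
  have hW := S.coord_W (v := M'.2.1) (by
    rw [← c2, ← hM', S.K.φ_b2]
    exact S.F.toPair.toConf.conjW hcC S.p2_mem)
  have hU := S.coord_U (v := M'.2.2.1) (by
    rw [← c3, ← hM', S.K.φ_b3]
    exact S.F.toPair.toConf.conjU hcC S.p3_mem)
  have hb : M'.2.1.2.1 ≠ 0 := fun e => by
    have h2 : S.K.φ M'.2.1 ∈ zpowers S.K.p1 := by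
      simp only [Coord.φ, hW.1, hW.2, e, pw_zero, mul_one]
      exact pow_mem (mem_zpowers _) _
    rw [← c2, ← hM', S.K.φ_b2] at h2
    obtain ⟨k, hk⟩ := mem_zpowers_iff.1 h2
    have h3 : c * (S.K.p1 ^ k) * c⁻¹ = c * S.K.p2 * c⁻¹ := by rw [← conj_zpow, hfix]; exact hk
    have h4 : S.K.φ b2 ∈ S.F.toPair.toConf.U := by
      rw [S.K.φ_b2, ← mul_left_cancel (mul_right_cancel h3)]
      exact zpow_mem (S.F.toPair.toConf.Z_le_U S.p1_mem) k
    exact absurd (S.coord_U h4).1 (by decide)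
  have hd : M'.2.2.1.2.2.1 ≠ 0 := fun e => by
    have h2 : S.K.φ M'.2.2.1 ∈ zpowers S.K.p1 := by
      simp only [Coord.φ, hU.1, hU.2, e, pw_zero, mul_one]
      exact pow_mem (mem_zpowers _) _
    rw [← c3, ← hM', S.K.φ_b3] at h2
    obtain ⟨k, hk⟩ := mem_zpowers_iff.1 h2
    have h3 : c * (S.K.p1 ^ k) * c⁻¹ = c * S.K.p3 * c⁻¹ := by rw [← conj_zpow, hfix]; exact hk
    have h4 : S.K.φ b3 ∈ S.F.toPair.toConf.W := by
      rw [S.K.φ_b3, ← mul_left_cancel (mul_right_cancel h3)]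
      exact zpow_mem (S.F.toPair.toConf.Z_le_W S.p1_mem) k
    exact absurd (S.coord_W h4).1 (by decide)
  have hshape : M' = ((1, 0, 0, 0), (M'.2.1.1, M'.2.1.2.1, 0, 0), (M'.2.2.1.1, 0, M'.2.2.1.2.2.1, 0), M'.2.2.2) := by
    obtain ⟨m1, ⟨a, b, w1, w2⟩, ⟨c', u1, d, u2⟩, n4⟩ := M'
    simp only at e1 hW hU ⊢
    obtain ⟨rfl, rfl⟩ := hW
    obtain ⟨rfl, rfl⟩ := hU
    rw [e1]
  have hnull := null hM'
  rw [hshape] at hnull ⊢
  exact form_cand _ _ _ _ _ hb hd hnull v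

end Setting

end Cfsg.Agent.O8Three
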