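import Cfsg.Agent.Lib.O8Three.Pairs
import Cfsg.Agent.S3805

/-!
S3372, quotient `SL(2,3)`: the centraliser of two coordinates normalises the torus, and so does the centraliser of
one coordinate and the involution. Both are the theorem on a self-centralising Sylow subgroup of order nine with
Klein quotient of its normaliser, read in preimages.
-/

set_option autoImplicit false
set_option linter.style.haveILetI false
set_option linter.unusedSectionVars false
set_option linter.unusedSimpArgs false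
set_option maxRecDepth 20000
set_option synthInstance.maxSize 5000

namespace Cfsg.Agent.O8Three

open Subgroup
open Cfsg.Agent.HeisSLThree (pw pw_add pw_zero pw_one)

/-- The theorem on a self-centralising nine with Klein quotient, in preimages. -/
theorem klein_norm {G : Type*} [Group G] [Finite G] {Γ Z T : Subgroup G} (hTΓ : T ≤ Γ) (hZT : Z ≤ T)
    (hZn : ∀ g ∈ Γ, ∀ z ∈ Z, g * z * g⁻¹ ∈ Z) (hexp : ∀ a ∈ T, a ^ 3 ∈ Z)
    (hcomm : ∀ a ∈ T, ∀ b ∈ T, a * b * a⁻¹ * b⁻¹ ∈ Z) (hidx : Nat.card T = 9 * Nat.card Z)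
    (hC : ∀ g ∈ Γ, (∀ a ∈ T, g * a * g⁻¹ * a⁻¹ ∈ Z) → g ∈ T)
    (hloc : ∀ g ∈ Γ, ∀ a ∈ T, a ∉ Z → g * a * g⁻¹ * a⁻¹ ∈ Z → ∀ b ∈ T, g * b * g⁻¹ ∈ T)
    {x y : G} (hx : x ∈ Γ) (hy : y ∈ Γ) (hxn : ∀ b ∈ T, x * b * x⁻¹ ∈ T) (hyn : ∀ b ∈ T, y * b * y⁻¹ ∈ T)
    (hxT : x ∉ T) (hyT : y ∉ T) (hxyT : x * y ∉ T)
    (hfour : ∀ g ∈ Γ, (∀ b ∈ T, g * b * g⁻¹ ∈ T) →
      g * g ∈ T ∧ (g ∈ T ∨ g * x⁻¹ ∈ T ∨ g * y⁻¹ ∈ T ∨ g * (x * y)⁻¹ ∈ T)) :
    ∀ g ∈ Γ, ∀ a ∈ T, g * a * g⁻¹ ∈ T := by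
  classical
  haveI : Fact (Nat.Prime 3) := ⟨Nat.prime_three⟩
  set Z' := Z.subgroupOf Γ with hZ'
  haveI hn : Z'.Normal := ⟨fun z hz g => hZn g g.2 z hz⟩
  set π := QuotientGroup.mk' Z' with hπ
  have hπ1 : ∀ c : Γ, π c = 1 ↔ (c : G) ∈ Z := fun c => (QuotientGroup.eq_one_iff c).trans mem_subgroupOf
  set TB := (T.subgroupOf Γ).map π with hTB
  have memTB : ∀ c : Γ, π c ∈ TB ↔ (c : G) ∈ T := fun c => by
    constructor
    · rintro ⟨d, hd, e⟩
      have h1 : π (d⁻¹ * c) = 1 := by rw [map_mul, map_inv, e, inv_mul_cancel]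
      have := mul_mem (mem_subgroupOf.1 hd) (hZT ((hπ1 _).1 h1))
      rwa [Subgroup.coe_mul, Subgroup.coe_inv, mul_inv_cancel_left] at this
    · exact fun h => ⟨c, h, rfl⟩
  have hab : ∀ a b : Γ, (a : G) ∈ T → (b : G) ∈ T → π a * π b = π b * π a := fun a b ha hb => by
    have h1 : π (a * b * a⁻¹ * b⁻¹) = 1 := (hπ1 _).2 (hcomm _ ha _ hb)
    simp only [map_mul, map_inv] at h1
    rwa [mul_inv_eq_one, mul_inv_eq_iff_eq_mul] at h1
  have memN : ∀ c : Γ, π c ∈ normalizer (TB : Set (Γ ⧸ Z')) ↔ ∀ b ∈ T, (c : G) * b * (c : G)⁻¹ ∈ T := fun c => by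
    constructor
    · intro h b hb
      have := (mem_normalizer_iff.1 h (π ⟨b, hTΓ hb⟩)).1 ((memTB _).2 hb)
      rw [← map_inv, ← map_mul, ← map_mul] at this
      exact (memTB _).1 this
    · intro h
      have hle : TB.map (MulAut.conj (π c)).toMonoidHom ≤ TB := by
        rintro _ ⟨_, ⟨d, hd, rfl⟩, rfl⟩
        show π c * π d * (π c)⁻¹ ∈ TB
        rw [← map_inv, ← map_mul, ← map_mul]
        exact (memTB _).2 (h _ hd)
      have heq := eq_of_le_of_card_ge hle (card_map_of_injective (K := TB) (MulAut.conj (π c)).injective).ge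
      refine mem_normalizer_iff.2 fun z => ⟨fun hz => hle ⟨z, hz, rfl⟩, fun hz => ?_⟩
      obtain ⟨z', hz', e⟩ : π c * z * (π c)⁻¹ ∈ TB.map (MulAut.conj (π c)).toMonoidHom := by rw [heq]; exact hz
      exact ((MulAut.conj (π c)).injective e) ▸ hz'
  -- the order
  have h9 : Nat.card TB = 9 := by
    let ψ : ↥(T.subgroupOf Γ) →* TB := (π.comp (T.subgroupOf Γ).subtype).codRestrict _ fun c => ⟨c, c.2, rfl⟩
    have hsur : Function.Surjective ψ := fun ⟨z, hz⟩ => by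
      obtain ⟨c, hc, rfl⟩ := hz
      exact ⟨⟨c, hc⟩, rfl⟩
    have hk : Nat.card ψ.ker = Nat.card Z := by
      refine Nat.card_congr
        { toFun := fun c => ⟨((c.1 : Γ) : G), (hπ1 _).1 (congrArg Subtype.val c.2)⟩
          invFun := fun z => ⟨⟨⟨z, hTΓ (hZT z.2)⟩, mem_subgroupOf.2 (hZT z.2)⟩,
            Subtype.ext ((hπ1 _).2 z.2)⟩
          left_inv := fun c => rfl
          right_inv := fun z => rfl }
    have h := Subgroup.card_eq_card_quotient_mul_card_subgroup ψ.ker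
    rw [Nat.card_congr (QuotientGroup.quotientKerEquivOfSurjective ψ hsur).toEquiv, hk,
      Nat.card_congr (subgroupOfEquivOfLe hTΓ).toEquiv, hidx] at h
    exact (Nat.eq_of_mul_eq_mul_right Nat.card_pos h).symm
  set NT := normalizer (TB : Set (Γ ⧸ Z')) with hNT
  set TN := TB.subgroupOf NT with hTN
  haveI hTNn : TN.Normal := normal_in_normalizer
  have hcoset : ∀ c : Γ, ∀ hc : π c ∈ NT, (QuotientGroup.mk' TN ⟨π c, hc⟩ = 1 ↔ (c : G) ∈ T) := fun c hc =>
    (QuotientGroup.eq_one_iff _).trans (mem_subgroupOf.trans (memTB c))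
  have hx' : π ⟨x, hx⟩ ∈ NT := (memN _).2 hxn
  have hy' : π ⟨y, hy⟩ ∈ NT := (memN _).2 hyn
  obtain ⟨X, hXe⟩ : ∃ X, X = QuotientGroup.mk' TN ⟨_, hx'⟩ := ⟨_, rfl⟩
  obtain ⟨Y, hYe⟩ : ∃ Y, Y = QuotientGroup.mk' TN ⟨_, hy'⟩ := ⟨_, rfl⟩
  have hmul : X * Y = QuotientGroup.mk' TN ⟨π (⟨x, hx⟩ * ⟨y, hy⟩), by rw [map_mul]; exact mul_mem hx' hy'⟩ := by
    rw [hXe, hYe, ← map_mul]; exact congrArg _ (Subtype.ext (map_mul π _ _).symm)
  have hX1 : X ≠ 1 := fun h => hxT ((hcoset _ hx').1 (hXe ▸ h))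
  have hY1 : Y ≠ 1 := fun h => hyT ((hcoset _ hy').1 (hYe ▸ h))
  have hXY1 : X * Y ≠ 1 := fun h => hxyT ((hcoset (⟨x, hx⟩ * ⟨y, hy⟩) _).1 (hmul ▸ h))
  have hall : ∀ q : NT ⧸ TN, q * q = 1 ∧ (q = 1 ∨ q = X ∨ q = Y ∨ q = X * Y) := by
    intro q
    obtain ⟨⟨q, hq⟩, rfl⟩ := QuotientGroup.mk'_surjective TN q
    obtain ⟨c, rfl⟩ := QuotientGroup.mk'_surjective Z' q
    obtain ⟨h2, h⟩ := hfour c c.2 ((memN c).1 hq)
    have hsame : ∀ (d : Γ) (hd : π d ∈ NT), (c : G) * (d : G)⁻¹ ∈ T →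
        QuotientGroup.mk' TN ⟨π c, hq⟩ = QuotientGroup.mk' TN ⟨π d, hd⟩ := fun d hd h => by
      rw [← mul_inv_eq_one, ← map_inv, ← map_mul]
      refine (QuotientGroup.eq_one_iff _).2 (mem_subgroupOf.2 ?_)
      show π c * (π d)⁻¹ ∈ TB
      rw [← map_inv, ← map_mul]
      exact (memTB _).2 h
    refine ⟨?_, ?_⟩
    · rw [← map_mul]
      refine (QuotientGroup.eq_one_iff _).2 (mem_subgroupOf.2 ?_)
      show π c * π c ∈ TB
      rw [← map_mul]
      exact (memTB _).2 h2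
    rcases h with h | h | h | h
    · exact Or.inl ((hcoset c hq).2 h)
    · exact Or.inr (Or.inl (hXe ▸ hsame ⟨x, hx⟩ hx' h))
    · exact Or.inr (Or.inr (Or.inl (hYe ▸ hsame ⟨y, hy⟩ hy' h)))
    · exact Or.inr (Or.inr (Or.inr (hmul ▸ hsame (⟨x, hx⟩ * ⟨y, hy⟩) _ h)))
  have hXY : X ≠ Y := fun h => hXY1 (by rw [← h]; exact (hall X).1)
  haveI hK : IsKleinFour (NT ⧸ TN) := by
    let f : Fin 4 → NT ⧸ TN := ![1, X, Y, X * Y]
    have hf : Function.Bijective f := by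
      refine ⟨fun i j e => ?_, fun q => ?_⟩
      · have a1 : X ≠ X * Y := fun h => hY1 (left_eq_mul.1 h)
        have a2 : Y ≠ X * Y := fun h => hX1 (right_eq_mul.1 h)
        fin_cases i <;> fin_cases j <;> simp [f] at e ⊢ <;>
          first
            | exact hX1 e | exact hX1 e.symm | exact hY1 e | exact hY1 e.symm | exact hXY1 e | exact hXY1 e.symm
            | exact hXY e | exact hXY e.symm | exact a1 e | exact a1 e.symm | exact a2 e | exact a2 e.symm
      · rcases (hall q).2 with h | h | h | h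
        exacts [⟨0, h.symm⟩, ⟨1, h.symm⟩, ⟨2, h.symm⟩, ⟨3, h.symm⟩]
    refine ⟨by rw [← Nat.card_congr (Equiv.ofBijective f hf), Nat.card_fin], ?_⟩
    rcases (Nat.dvd_prime Nat.prime_two).1 (Monoid.exponent_dvd_of_forall_pow_eq_one
      fun q : NT ⧸ TN => by rw [pow_two]; exact (hall q).1) with h | h
    · exact absurd (by
        have := Monoid.pow_exponent_eq_one X
        rwa [h, pow_one] at this) hX1
    · exact h
  -- the Sylow subgroup
  have hpT : IsPGroup 3 TB := IsPGroup.of_card (n := 2) (by rw [h9]; norm_num)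
  obtain ⟨P, hP⟩ := hpT.exists_le_sylow
  have hPT : (P : Subgroup (Γ ⧸ Z')) = TB := by
    by_contra hne
    have hlt : TB.subgroupOf P < ⊤ := lt_top_iff_ne_top.2 fun h =>
      hne (le_antisymm (subgroupOf_eq_top.1 h) hP)
    haveI := P.isPGroup'.isNilpotent
    obtain ⟨g, hg, hgT⟩ := SetLike.exists_of_lt
      (Group.normalizerCondition_of_isNilpotent _ hlt)
    have hgN : (g : Γ ⧸ Z') ∈ NT := mem_normalizer_iff.2 fun z => by
      constructor
      · intro hz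
        exact (mem_normalizer_iff.1 hg ⟨z, hP hz⟩).1 hz
      · intro hz
        have hzP : z ∈ (P : Subgroup (Γ ⧸ Z')) := by
          have := mul_mem (mul_mem (inv_mem g.2) (hP hz)) g.2
          rwa [show (g : Γ ⧸ Z')⁻¹ * ((g : Γ ⧸ Z') * z * (g : Γ ⧸ Z')⁻¹) * g = z by group] at this
        exact (mem_normalizer_iff.1 hg ⟨z, hzP⟩).2 hz
    obtain ⟨k, hk⟩ := P.isPGroup' g
    have hk' : (g : Γ ⧸ Z') ^ 3 ^ k = 1 := congrArg Subtype.val hk
    have h2 := (hall (QuotientGroup.mk' TN ⟨g, hgN⟩)).1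
    have h3 : QuotientGroup.mk' TN ⟨g, hgN⟩ ^ 3 ^ k = 1 := by
      rw [← map_pow, show (⟨g, hgN⟩ : NT) ^ 3 ^ k = 1 from Subtype.ext hk', map_one]
    have hd := Nat.dvd_gcd (orderOf_dvd_of_pow_eq_one (show (QuotientGroup.mk' TN ⟨(g : Γ ⧸ Z'), hgN⟩) ^ 2 = 1 by rw [pow_two]; exact h2))
      (orderOf_dvd_of_pow_eq_one h3)
    rw [show Nat.gcd 2 (3 ^ k) = 1 from Nat.Coprime.pow_right k (by norm_num : Nat.Coprime 2 3), Nat.dvd_one,
      orderOf_eq_one_iff] at hd
    exact hgT (mem_subgroupOf.2 (mem_subgroupOf.1 ((QuotientGroup.eq_one_iff (N := TN) _).1 hd)))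
  have hTe : Cfsg.IsElementaryAbelian 3 (P : Subgroup (Γ ⧸ Z')) := by
    rw [hPT]
    refine ⟨⟨⟨?_⟩⟩, ?_⟩
    · rintro ⟨_, a, ha, rfl⟩ ⟨_, b, hb, rfl⟩
      exact Subtype.ext (hab a b ha hb)
    · rintro _ ⟨a, ha, rfl⟩
      rw [← map_pow, hπ1]
      exact hexp _ ha
  have hcent : centralizer ((P : Subgroup (Γ ⧸ Z')) : Set (Γ ⧸ Z')) = P := by
    rw [hPT]
    refine le_antisymm (fun z hz => ?_) fun z hz => ?_
    · obtain ⟨c, rfl⟩ := QuotientGroup.mk'_surjective Z' z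
      refine (memTB c).2 (hC _ c.2 fun a ha => ?_)
      refine (hπ1 (c * ⟨a, hTΓ ha⟩ * c⁻¹ * ⟨a, hTΓ ha⟩⁻¹)).1 ?_
      rw [map_mul, map_mul, map_mul, map_inv, map_inv, mul_inv_eq_one, mul_inv_eq_iff_eq_mul]
      exact (mem_centralizer_iff.1 hz _ ((memTB _).2 ha)).symm
    · obtain ⟨a, ha, rfl⟩ := hz
      refine mem_centralizer_iff.2 ?_
      rintro _ ⟨b, hb, rfl⟩
      exact hab b a hb ha
  have hloc' : ∀ s ∈ TB, s ≠ 1 → centralizer ({s} : Set (Γ ⧸ Z')) ≤ NT := by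
    rintro _ ⟨a, ha, rfl⟩ hne z hz
    obtain ⟨c, rfl⟩ := QuotientGroup.mk'_surjective Z' z
    refine (memN c).2 (hloc _ c.2 _ ha (fun h => hne ((hπ1 a).2 h)) ?_)
    refine (hπ1 (c * a * c⁻¹ * a⁻¹)).1 ?_
    rw [map_mul, map_mul, map_mul, map_inv, map_inv, mul_inv_eq_one, mul_inv_eq_iff_eq_mul]
    exact mem_centralizer_singleton_iff.1 hz
  haveI hn' : ((P : Subgroup (Γ ⧸ Z')).subgroupOf (normalizer ((P : Subgroup (Γ ⧸ Z')) : Set (Γ ⧸ Z')))).Normal :=
    normal_in_normalizer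
  have htop := Cfsg.Agent.S3805.result P hTe (by show Nat.card (P : Subgroup (Γ ⧸ Z')) = 9; rw [hPT, h9]) hcent
    (by convert hK using 3 <;> first | rw [hPT] | simp [hPT, hTN, hNT])
    (by rw [hPT]; exact hloc')
  intro g hg
  refine (memN ⟨g, hg⟩).1 ?_
  rw [hPT] at htop
  rw [hNT, htop]
  exact mem_top _

theorem eight_maps : ∀ f : V4, qf f = 1 → bf f (evv 1) = 0 → bf f (evv 2) = 0 → ∀ k : V4, qf k = 1 →
    bf k (evv 1) = 0 → bf k (evv 2) = 0 → bf f k = 0 →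
    ((f = evv 0 ∨ f = -evv 0) ∧ (k = b2 ∨ k = -b2)) ∨ ((f = b2 ∨ f = -b2) ∧ (k = evv 0 ∨ k = -evv 0)) := by
  decide +kernel

theorem ev_facts : (∀ i : Fin 3, ∀ j : Fin 3, bf (evv i) (evv j) = if i = j then 1 else 0) ∧
    (∀ i : Fin 3, bf b2 (evv i) = 0) ∧ qf b2 = 1 := by decide +kernel

/-- The map fixing two coordinates with the given images of the other two. -/
def two8 (f k : V4) : M4 :=
  (f + evv 1 + evv 2, k, evv 1 + -evv 2, f + (f + evv 1 + evv 2))

theorem two8_pair : mulM (evW (flipW 0)) (two8 b2 (-evv 0)) = two8 b2 (evv 0) ∧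
    mulM (evW (flipW 0)) (two8 (-b2) (evv 0)) = two8 (-b2) (-evv 0) := by decide +kernel

/-- The map to which both transpositions are conjugate. -/
def X0 : M4 := ((1, 0, 0, 0), (0, 1, 0, 0), (2, 0, 2, 0), (2, 0, 1, 1))

theorem X0_not : X0 ∉ S18 := by decide +kernel

/-- The inverse of the map of `[3]`. -/
def inv3 : M4 := ((1, 2, 2, 0), (0, 1, 0, 1), (0, 0, 1, 2), (0, 0, 0, 1))

/-- The inverse of the map of `[0, 3]`. -/
def inv03 : M4 := ((1, 2, 2, 0), (2, 2, 1, 1), (0, 0, 1, 2), (1, 0, 2, 2))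

theorem two8_plus : app (two8 b2 (evv 0)) (app (evW [3]) b1) = app (evW [3]) b1 ∧
    mulM inv3 (evW [3]) = oneM ∧ mulM inv3 (mulM (two8 b2 (evv 0)) (evW [3])) = X0 := by decide +kernel

theorem two8_minus : app (two8 (-b2) (-evv 0)) (app (evW [0, 3]) b1) = app (evW [0, 3]) b1 ∧
    mulM inv03 (evW [0, 3]) = oneM ∧ mulM inv03 (mulM (two8 (-b2) (-evv 0)) (evW [0, 3])) = X0 := by decide +kernel

theorem two8_swap (f : V4) (hf : f = b2 ∨ f = -b2) (k : V4) (hk : k = evv 0 ∨ k = -evv 0) :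
    ∃ σ ∈ [two8 f k, mulM (evW (flipW 0)) (two8 f k)],
      ∃ l : List (Fin 4), ∃ L' : M4, app σ (app (evW l) b1) = app (evW l) b1 ∧
        mulM L' (evW l) = oneM ∧ mulM L' (mulM σ (evW l)) = X0 := by
  rcases hf with rfl | rfl <;> rcases hk with rfl | rfl
  · exact ⟨_, List.mem_cons_self .., [3], inv3, two8_plus⟩
  · exact ⟨_, List.mem_cons_of_mem _ (List.mem_singleton_self _), [3], inv3, two8_pair.1.symm ▸ two8_plus⟩
  · exact ⟨_, List.mem_cons_of_mem _ (List.mem_singleton_self _), [0, 3], inv03, two8_pair.2.symm ▸ two8_minus⟩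
  · exact ⟨_, List.mem_cons_self .., [0, 3], inv03, two8_minus⟩

theorem good_three : ∀ v : V4, (bf v (evv 0) ≠ 0 ∨ bf v b2 ≠ 0) → Good3 (evv 1) (evv 2) v := by decide +kernel

theorem swap_maps : ∀ q r s : Bool, ∃ l ∈ [signW false false, signW true false, signW false true, signW true true],
    app (mulM (evW l) (mkM 0 2 1 false q r s)) b1 = b1 ∧ mulM (evW l) (mkM 0 2 1 false q r s) ∉ S18 := by
  decide +kernel

theorem mkM_col : ∀ q r s : Bool, app (mkM 0 2 1 false q r s) (evv 0) = evv 0 ∧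
    app (mkM 0 2 1 false q r s) (evv 1) = smulV (sg q) (evv 2) ∧
    app (mkM 0 2 1 false q r s) (evv 2) = smulV (sg r) (evv 1) ∧
    app (mkM 0 2 1 false q r s) b2 = smulV (sg s) b2 := by decide +kernel

theorem sg_cases : ∀ (x y : V4), (x = y ∨ x = -y) → ∃ q, x = smulV (sg q) y := by decide +kernel

theorem pair_axes : ∀ v : V4, v.2.1 = 0 → (bf v (evv 1) ≠ 0 ∨ bf v (evv 2) ≠ 0) →
    Good2 (evv 0) v ∨ ∃ a b : ZMod 3,
      smulV a (evv 0) + smulV b v = evv 1 ∨ smulV a (evv 0) + smulV b v = evv 2 := by decide +kernel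

theorem ev_ext {M M' : M4} (h : ∀ i, app M (evv i) = app M' (evv i)) (h2 : app M b2 = app M' b2) : M = M' := by
  obtain ⟨e1, e3, e4⟩ := evv_basis
  have k1 : app M b1 = app M' b1 := by rw [e1, app_add, app_add, app_add, app_add, h, h, h]
  refine M4_ext k1 h2 ?_ ?_
  · rw [e3, app_add, app_add, app_neg, app_neg, h, h]
  · rw [e4, app_add, app_add, h, k1]

theorem bf_shift : ∀ (v : V4) (a b : ZMod 3), bf (v + smulV a (evv 1) + smulV b (evv 2)) (evv 0) = bf v (evv 0) ∧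
    bf (v + smulV a (evv 1) + smulV b (evv 2)) b2 = bf v b2 := by decide +kernel

theorem bf_shift0 : ∀ (v : V4) (a : ZMod 3), bf (v + smulV a (evv 0)) (evv 1) = bf v (evv 1) ∧
    bf (v + smulV a (evv 0)) (evv 2) = bf v (evv 2) := by decide +kernel

theorem span12 : ∀ v : V4, bf v (evv 0) = 0 → bf v b2 = 0 →
    ∃ a b : ZMod 3, v = smulV a (evv 1) + smulV b (evv 2) := by decide +kernel

theorem span0 : ∀ v : V4, v.2.1 = 0 → bf v (evv 1) = 0 → bf v (evv 2) = 0 →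
    ∃ a : ZMod 3, v = smulV a (evv 0) := by decide +kernel

theorem smul_facts : ∀ (a b : ZMod 3) (x : V4), smulV (a + b) x = smulV a x + smulV b x ∧
    smulV (-a) x = -smulV a x ∧ smulV 0 x = 0 ∧ smulV 1 x = x ∧ x + x + (x + x) = x := by decide +kernel

namespace Setting

variable {G : Type*} [Group G] [Finite G] (S : Setting G)

theorem inv_A {a : G} (ha : a ∈ S.K.A) : a * a * (a * a) = a := by
  have h := S.K.exp _ ha
  rw [pow_succ, pow_two] at h
  rw [← mul_assoc, h, one_mul]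

theorem one_maps (hδ : S.δ = 1) {g : G} {M : M4} (hM : S.K.Acts g M) (h1 : app M (evv 1) = evv 1)
    (h2 : app M (evv 2) = evv 2) :
    (app M (evv 0) = evv 0 ∨ app M (evv 0) = -evv 0) ∧ (app M b2 = b2 ∨ app M b2 = -b2) := by
  obtain ⟨f1, f2, f3⟩ := ev_facts
  have hb := S.bf_pres hM
  rcases eight_maps (app M (evv 0)) (by rw [S.qf_pres hM]; exact (evv_norm 0).1)
    (by rw [← h1, hb, f1]; rfl) (by rw [← h2, hb, f1]; rfl) (app M b2) (by rw [S.qf_pres hM, f3])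
    (by rw [← h1, hb, f2]) (by rw [← h2, hb, f2])
    (by rw [hb, show bf (evv 0) b2 = 0 by decide +kernel]) with h | ⟨hf, hk⟩
  · exact h
  exfalso
  obtain ⟨e1, e3, e4⟩ := evv_basis
  have k1 : app M b1 = app M (evv 0) + evv 1 + evv 2 := by rw [e1, app_add, app_add, h1, h2]
  have eM : M = two8 (app M (evv 0)) (app M b2) := by
    obtain ⟨c1, c2, c3, c4⟩ := app_cols M
    refine Prod.ext (c1.symm.trans k1) (Prod.ext c2.symm (Prod.ext (c3.symm.trans ?_) (c4.symm.trans ?_)))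
    · show app M b3 = evv 1 + -evv 2
      rw [e3, app_add, app_neg, h1, h2]
    · show app M b4 = app M (evv 0) + (app M (evv 0) + evv 1 + evv 2)
      rw [e4, app_add, k1]
  obtain ⟨σ, hσ, l, L', hfix, hL, hX0⟩ := two8_swap _ hf _ hk
  rw [← eM] at hσ
  obtain ⟨c, hc⟩ : ∃ c, S.K.Acts c σ := by
    simp only [List.mem_cons, List.not_mem_nil, or_false] at hσ
    rcases hσ with rfl | rfl
    · exact ⟨g, hM⟩
    · obtain ⟨n, hn⟩ := S.lift_word (flipW 0)
      exact ⟨_, hn.mul hM⟩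
  obtain ⟨m, hm⟩ := S.lift_word l
  obtain ⟨X, hX⟩ := S.acts_N (g := m⁻¹ * c * m)
    (mul_mem (mul_mem (inv_mem (S.mem_N_of_acts hm)) (S.mem_N_of_acts hc)) (S.mem_N_of_acts hm))
  have hrel : mulM (evW l) X = mulM σ (evW l) := S.K.acts_unique (by
    have := hm.mul hX
    rwa [show m * (m⁻¹ * c * m) = c * m by group] at this) (hc.mul hm)
  have hCz : m⁻¹ * c * m ∈ S.F.toPair.toConf.Cz := S.mem_Cz.2 (mul_inv_eq_iff_eq_mul.1 (by
    rw [show m⁻¹ * c * m * S.K.p1 * (m⁻¹ * c * m)⁻¹ = m⁻¹ * (c * (m * S.K.p1 * m⁻¹) * c⁻¹) * m by group,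
      ← S.K.φ_b1, hm, hc, hfix, ← hm]
    group))
  have hXeq : X = X0 := by
    have h4 : ∀ v, app X v = app X0 v := fun v => by
      rw [← hX0, ← hrel, app_mulM, app_mulM, ← app_mulM L' (evW l), hL, app_oneM]
    exact M4_ext (h4 _) (h4 _) (h4 _) (h4 _)
  exact X0_not (hXeq ▸ S.maps_one hδ hCz hX)

theorem mem_span12 {x : G} (hx : x ∈ closure ({S.e 1, S.e 2} : Set G)) :
    ∃ a b : ZMod 3, x = S.K.φ (smulV a (evv 1) + smulV b (evv 2)) := by
  induction hx using Subgroup.closure_induction with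
  | mem y hy =>
    rcases hy with rfl | rfl
    · exact ⟨1, 0, congrArg S.K.φ (by decide +kernel)⟩
    · exact ⟨0, 1, congrArg S.K.φ (by decide +kernel)⟩
  | one => exact ⟨0, 0, by rw [← S.K.φ_zero]; exact congrArg S.K.φ (by decide +kernel)⟩
  | mul a b _ _ ha hb =>
    obtain ⟨a1, a2, rfl⟩ := ha
    obtain ⟨c1, c2, rfl⟩ := hb
    refine ⟨a1 + c1, a2 + c2, ?_⟩
    rw [← S.K.φ_add, (smul_facts a1 c1 _).1, (smul_facts a2 c2 _).1]
    congr 1
    abel
  | inv a _ ha =>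
    obtain ⟨a1, a2, rfl⟩ := ha
    refine ⟨-a1, -a2, ?_⟩
    rw [← S.φ_neg, (smul_facts a1 0 _).2.1, (smul_facts a2 0 _).2.1, neg_add]

set_option maxHeartbeats 1000000 in
/-- With quotient `SL(2,3)` the centraliser of two coordinates normalises the torus. -/
theorem cent_two_one (hδ : S.δ = 1) {g : G} (h1 : Commute g (S.e 1)) (h2 : Commute g (S.e 2)) : g ∈ S.N := by
  classical
  set Γ := centralizer ({S.e 1} : Set G) ⊓ centralizer ({S.e 2} : Set G) with hΓ
  have memΓ : ∀ {c : G}, c ∈ Γ ↔ Commute c (S.e 1) ∧ Commute c (S.e 2) := fun {c} => by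
    rw [hΓ, mem_inf, mem_centralizer_singleton_iff, mem_centralizer_singleton_iff]
    exact Iff.rfl
  set Z := closure ({S.e 1, S.e 2} : Set G) with hZ
  have hZA : Z ≤ S.K.A := (closure_le _).2 (by rintro _ (rfl | rfl) <;> exact S.K.φ_mem _)
  have hfix : ∀ {c : G} {M : M4}, c ∈ Γ → S.K.Acts c M →
      app M (evv 1) = evv 1 ∧ app M (evv 2) = evv 2 := fun {c M} hc hM =>
    ⟨S.K.φ_inj (by rw [← hM, mul_inv_eq_iff_eq_mul]; exact (memΓ.1 hc).1.eq),
      S.K.φ_inj (by rw [← hM, mul_inv_eq_iff_eq_mul]; exact (memΓ.1 hc).2.eq)⟩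
  have hflip : ∀ {n : G}, S.K.Acts n (evW (flipW 0)) → n ∈ Γ := fun {n} hn => memΓ.2
    ⟨mul_inv_eq_iff_eq_mul.1 (by rw [e, hn, (flipW_spec 0).2 1]; rfl),
      mul_inv_eq_iff_eq_mul.1 (by rw [e, hn, (flipW_spec 0).2 2]; rfl)⟩
  obtain ⟨f, hf⟩ := S.lift_word (flipW 0)
  have htriv : ∀ {c : G} {M : M4}, S.K.Acts c M → app M (evv 1) = evv 1 → app M (evv 2) = evv 2 →
      app M (evv 0) = evv 0 → app M b2 = b2 → c ∈ S.K.A := fun {c M} hM k1 k2 k0 kw => by
    have e : M = oneM := ev_ext (fun i => by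
      rw [app_oneM]; fin_cases i
      exacts [k0, k1, k2]) (by rw [app_oneM]; exact kw)
    exact S.cent_A fun a ha => S.K.commute_of_acts_one (e ▸ hM) ha
  have hf0 : app (evW (flipW 0)) (evv 0) = -evv 0 ∧ app (evW (flipW 0)) b2 = b2 ∧
      app (evW (flipW 0)) (evv 1) = evv 1 ∧ app (evW (flipW 0)) (evv 2) = evv 2 := by decide +kernel
  have ht0 : app MT (evv 0) = evv 0 ∧ app MT b2 = -b2 ∧ app MT (evv 1) = evv 1 ∧ app MT (evv 2) = evv 2 := by
    decide +kernel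
  have hA : S.K.A ≤ Γ := fun a ha => memΓ.2 ⟨S.K.comm a ha _ (S.K.φ_mem _), S.K.comm a ha _ (S.K.φ_mem _)⟩
  have hnA : ∀ a ∈ S.K.A, ∀ {M : M4}, S.K.Acts a M → M = oneM := fun a ha _ hM =>
    S.K.acts_unique hM (S.K.acts_of_mem ha)
  have hneg : (-evv 0 : V4) ≠ evv 0 ∧ (-b2 : V4) ≠ b2 := by decide +kernel
  refine S.mem_N fun a ha => klein_norm (T := S.K.A) (Z := Z) hA hZA ?_ ?_ ?_ ?_ ?_ ?_
    (hflip hf) (memΓ.2 ⟨(S.E_comm_t (Subgroup.subset_closure ⟨1, rfl⟩)), (S.E_comm_t (Subgroup.subset_closure ⟨2, rfl⟩))⟩ : S.F.t ∈ Γ)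
    (fun b hb => hf.map_A hb) (fun b hb => S.acts_t.map_A hb) ?_ ?_ ?_ ?_ g (memΓ.2 ⟨h1, h2⟩) a ha
  · intro c hc z hz
    have : z ∈ centralizer ({c} : Set G) := (closure_le _).2 (by
      rintro _ (rfl | rfl)
      exacts [mem_centralizer_singleton_iff.2 (memΓ.1 hc).1.eq.symm,
        mem_centralizer_singleton_iff.2 (memΓ.1 hc).2.eq.symm]) hz
    rw [← (mem_centralizer_singleton_iff.1 this), mul_inv_cancel_right]
    exact hz
  · exact fun b hb => by rw [S.K.exp _ hb]; exact one_mem _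
  · exact fun b hb c hc => by rw [S.K.comm b hb c hc, mul_inv_cancel_right, mul_inv_cancel]; exact one_mem _
  · have hc : Nat.card Z = 9 := by
      let f : ZMod 3 × ZMod 3 → Z := fun p => ⟨S.K.φ (smulV p.1 (evv 1) + smulV p.2 (evv 2)), by
        rw [S.K.φ_add, S.K.φ_smul, S.K.φ_smul]
        exact mul_mem (pow_mem (Subgroup.subset_closure (Or.inl rfl) : _ ∈ Z) _) (pow_mem (Subgroup.subset_closure (Or.inr rfl) : _ ∈ Z) _)⟩
      have hb : Function.Bijective f := by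
        refine ⟨fun p q h => ?_, fun z => ?_⟩
        · have key : ∀ p q : ZMod 3 × ZMod 3,
              smulV p.1 (evv 1) + smulV p.2 (evv 2) = smulV q.1 (evv 1) + smulV q.2 (evv 2) → p = q := by
            decide +kernel
          exact key p q (S.K.φ_inj (congrArg Subtype.val h))
        · obtain ⟨a, b, e⟩ := S.mem_span12 z.2
          exact ⟨(a, b), Subtype.ext e.symm⟩
      rw [← Nat.card_congr (Equiv.ofBijective f hb)]
      simp
    rw [hc, S.K.card]
  · intro c hc hcen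
    have hcN : c ∈ S.N := S.mem_N fun b hb => by
      have := mul_mem (hZA (hcen b hb)) hb
      rwa [inv_mul_cancel_right] at this
    obtain ⟨M, hM⟩ := S.acts_N hcN
    obtain ⟨k1, k2⟩ := hfix hc hM
    obtain ⟨k0, kw⟩ := S.one_maps hδ hM k1 k2
    have hmod : ∀ v : V4, ∃ a b : ZMod 3, app M v = v + smulV a (evv 1) + smulV b (evv 2) := fun v => by
      obtain ⟨a, b, e⟩ := S.mem_span12 (hcen _ (S.K.φ_mem v))
      refine ⟨a, b, S.K.φ_inj ?_⟩
      rw [mul_inv_eq_iff_eq_mul] at e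
      rw [← hM, e, ← S.K.φ_add]
      congr 1
      abel
    refine htriv hM k1 k2 (k0.resolve_right fun h => ?_) (kw.resolve_right fun h => ?_)
    · obtain ⟨a, b, e⟩ := hmod (evv 0)
      have key : ∀ a b : ZMod 3, -evv 0 ≠ evv 0 + smulV a (evv 1) + smulV b (evv 2) := by decide +kernel
      exact key a b (h ▸ e)
    · obtain ⟨a, b, e⟩ := hmod b2
      have key : ∀ a b : ZMod 3, -b2 ≠ b2 + smulV a (evv 1) + smulV b (evv 2) := by decide +kernel
      exact key a b (h ▸ e)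
  · intro c hc x hx hxZ hcx b hb
    obtain ⟨v, rfl⟩ := S.K.φ_surj hx
    obtain ⟨p, q, e⟩ := S.mem_span12 hcx
    have himg : c * S.K.φ v * c⁻¹ = S.K.φ (v + smulV p (evv 1) + smulV q (evv 2)) := by
      rw [mul_inv_eq_iff_eq_mul] at e
      rw [e, ← S.K.φ_add]
      congr 1
      abel
    have hne : bf v (evv 0) ≠ 0 ∨ bf v b2 ≠ 0 := by
      by_contra h
      push Not at h
      obtain ⟨a, b, rfl⟩ := span12 v h.1 h.2
      refine hxZ ?_
      rw [S.K.φ_add, S.K.φ_smul, S.K.φ_smul]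
      exact mul_mem (pow_mem (Subgroup.subset_closure (Or.inl rfl) : _ ∈ Z) _) (pow_mem (Subgroup.subset_closure (Or.inr rfl) : _ ∈ Z) _)
    have hN := S.norm3 (good_three _ (by rwa [(bf_shift v p q).1, (bf_shift v p q).2]))
      (mul_inv_eq_iff_eq_mul.2 (memΓ.1 hc).1.eq) (mul_inv_eq_iff_eq_mul.2 (memΓ.1 hc).2.eq) himg
    exact (mem_normalizer_iff.1 hN b).1 hb
  · exact fun h => hneg.1 (by rw [← hf0.1, hnA _ h hf, app_oneM])
  · exact fun h => hneg.2 (by rw [← ht0.2.1, hnA _ h S.acts_t, app_oneM])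
  · intro h
    refine hneg.1 ?_
    have e1 : app (mulM (evW (flipW 0)) MT) (evv 0) = -evv 0 := by rw [app_mulM, ht0.1, hf0.1]
    rw [← e1, hnA _ h (hf.mul S.acts_t), app_oneM]
  · intro c hc hcn
    obtain ⟨M, hM⟩ := S.acts_N (S.mem_N hcn)
    obtain ⟨k1, k2⟩ := hfix hc hM
    obtain ⟨k0, kw⟩ := S.one_maps hδ hM k1 k2
    refine ⟨htriv (hM.mul hM) (by rw [app_mulM, k1, k1]) (by rw [app_mulM, k2, k2]) ?_ ?_, ?_⟩
    · rw [app_mulM]
      rcases k0 with h | h <;> rw [h]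
      · exact h
      · rw [app_neg, h, neg_neg]
    · rw [app_mulM]
      rcases kw with h | h <;> rw [h]
      · exact h
      · rw [app_neg, h, neg_neg]
    have hinv : ∀ {n : G} {X : M4}, S.K.Acts n X → (∀ v, app X (app X v) = v) → S.K.Acts n⁻¹ X :=
      fun {n X} hn hX v => by
        rw [inv_inv]
        calc n⁻¹ * S.K.φ v * n = n⁻¹ * (n * S.K.φ (app X v) * n⁻¹) * n := by rw [hn, hX]
          _ = _ := by group
    have hF2 : ∀ v, app (evW (flipW 0)) (app (evW (flipW 0)) v) = v := fun v => by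
      rw [← app_mulM, show mulM (evW (flipW 0)) (evW (flipW 0)) = oneM by decide +kernel, app_oneM]
    have hT2 : ∀ v, app MT (app MT v) = v := fun v => by rw [← app_mulM, MT_sq, app_oneM]
    have hFT : ∀ v, app (mulM (evW (flipW 0)) MT) (app (mulM (evW (flipW 0)) MT) v) = v := fun v => by
      rw [← app_mulM, show mulM (mulM (evW (flipW 0)) MT) (mulM (evW (flipW 0)) MT) = oneM by decide +kernel,
        app_oneM]
    rcases k0 with a0 | a0 <;> rcases kw with aw | aw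
    · exact Or.inl (htriv hM k1 k2 a0 aw)
    · refine Or.inr (Or.inr (Or.inl (htriv (hM.mul (hinv S.acts_t hT2)) ?_ ?_ ?_ ?_))) <;> rw [app_mulM]
      · rw [ht0.2.2.1, k1]
      · rw [ht0.2.2.2, k2]
      · rw [ht0.1, a0]
      · rw [ht0.2.1, app_neg, aw, neg_neg]
    · refine Or.inr (Or.inl (htriv (hM.mul (hinv hf hF2)) ?_ ?_ ?_ ?_)) <;> rw [app_mulM]
      · rw [hf0.2.2.1, k1]
      · rw [hf0.2.2.2, k2]
      · rw [hf0.1, app_neg, a0, neg_neg]
      · rw [hf0.2.1, aw]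
    · refine Or.inr (Or.inr (Or.inr (htriv (hM.mul (hinv (hf.mul S.acts_t) hFT)) ?_ ?_ ?_ ?_))) <;>
        rw [app_mulM, app_mulM]
      · rw [ht0.2.2.1, hf0.2.2.1, k1]
      · rw [ht0.2.2.2, hf0.2.2.2, k2]
      · rw [ht0.1, hf0.1, app_neg, a0, neg_neg]
      · rw [ht0.2.1, app_neg, hf0.2.1, app_neg, aw, neg_neg]

/-- With quotient `SL(2,3)` the centraliser of any two coordinates normalises the torus. -/
theorem cent_axes_one (hδ : S.δ = 1) {g : G} {i j : Fin 3} (hij : i ≠ j) (h1 : Commute g (S.e i))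
    (h2 : Commute g (S.e j)) : g ∈ S.N := by
  obtain ⟨n, hn⟩ := S.lift_word [1]
  have hmv : ∀ k, n * S.e k * n⁻¹ = S.e (k + 1) := fun k => by rw [e, e, hn, cycle_spec.2]
  have hstep : ∀ {h : G} {a : Fin 3} (b : Fin 3), a + 1 = b → Commute h (S.e a) →
      Commute (n * h * n⁻¹) (S.e b) := fun {h a} b hab hc => by
    rw [← hab, ← hmv]; exact hc.map (MulAut.conj n)
  have hback : ∀ {h : G}, n * h * n⁻¹ ∈ S.N → h ∈ S.N := fun {h} hh => by
    have := mul_mem (mul_mem (inv_mem (S.mem_N_of_acts hn)) hh) (S.mem_N_of_acts hn)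
    rwa [show n⁻¹ * (n * h * n⁻¹) * n = h by group] at this
  have h01 : ∀ {h : G}, Commute h (S.e 0) → Commute h (S.e 1) → h ∈ S.N := fun {h} a b =>
    hback (S.cent_two_one hδ (hstep 1 (by decide) a) (hstep 2 (by decide) b))
  have h20 : ∀ {h : G}, Commute h (S.e 2) → Commute h (S.e 0) → h ∈ S.N := fun {h} a b =>
    hback (h01 (hstep 0 (by decide) a) (hstep 1 (by decide) b))
  have key : ∀ i j : Fin 3, i ≠ j → (i = 0 ∧ j = 1) ∨ (i = 1 ∧ j = 0) ∨ (i = 2 ∧ j = 0) ∨ (i = 0 ∧ j = 2) ∨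
      (i = 1 ∧ j = 2) ∨ (i = 2 ∧ j = 1) := by decide
  rcases key i j hij with ⟨rfl, rfl⟩ | ⟨rfl, rfl⟩ | ⟨rfl, rfl⟩ | ⟨rfl, rfl⟩ | ⟨rfl, rfl⟩ | ⟨rfl, rfl⟩
  exacts [h01 h1 h2, h01 h2 h1, h20 h1 h2, h20 h2 h1, S.cent_two_one hδ h1 h2, S.cent_two_one hδ h2 h1]

/-- With quotient `SL(2,3)` no transposition of the coordinates is induced. -/
theorem no_swap (hδ : S.δ = 1) {n : G} {M : M4} (hM : S.K.Acts n M) (hw : app M b2 = b2 ∨ app M b2 = -b2)
    (h0 : app M (evv 0) = evv 0) (h1 : app M (evv 1) = evv 2 ∨ app M (evv 1) = -evv 2)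
    (h2 : app M (evv 2) = evv 1 ∨ app M (evv 2) = -evv 1) : False := by
  obtain ⟨q, hq⟩ := sg_cases _ _ h1
  obtain ⟨r, hr⟩ := sg_cases _ _ h2
  obtain ⟨s, hs⟩ := sg_cases _ _ hw
  obtain ⟨c0, c1, c2, cw⟩ := mkM_col q r s
  have e : M = mkM 0 2 1 false q r s := ev_ext (fun i => by
    fin_cases i
    exacts [h0.trans c0.symm, hq.trans c1.symm, hr.trans c2.symm]) (hs.trans cw.symm)
  subst e
  obtain ⟨l, -, hfix, hno⟩ := swap_maps q r s
  obtain ⟨m, hm⟩ := S.lift_word l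
  refine hno (S.maps_one hδ (n := m * n) (S.mem_Cz.2 (mul_inv_eq_iff_eq_mul.1 ?_)) (hm.mul hM))
  rw [← S.K.φ_b1, hm.mul hM, hfix]

theorem mem_ET {x : G} (hx : x ∈ S.E ⊔ zpowers S.F.t) :
    Commute S.F.t x ∧ (x ∈ S.E ∨ S.F.t * x ∈ S.E) := by
  let T : Subgroup G :=
    { carrier := {x | Commute S.F.t x ∧ (x ∈ S.E ∨ S.F.t * x ∈ S.E)}
      one_mem' := ⟨Commute.one_right _, Or.inl (one_mem _)⟩
      mul_mem' := fun {a b} ha hb => by
        refine ⟨ha.1.mul_right hb.1, ?_⟩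
        rcases ha.2 with h | h <;> rcases hb.2 with k | k
        · exact Or.inl (mul_mem h k)
        · refine Or.inr ?_
          rw [← mul_assoc, ha.1.eq, mul_assoc]
          exact mul_mem h k
        · refine Or.inr ?_
          rw [← mul_assoc]
          exact mul_mem h k
        · refine Or.inl ?_
          have := mul_mem h k
          rwa [show S.F.t * a * (S.F.t * b) = a * b by
            rw [mul_assoc, ← mul_assoc a, ← ha.1.eq, mul_assoc, ← mul_assoc, S.t_sq, one_mul]] at this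
      inv_mem' := fun {a} ha => by
        refine ⟨ha.1.inv_right, ?_⟩
        rcases ha.2 with h | h
        · exact Or.inl (inv_mem h)
        · refine Or.inr ?_
          have := inv_mem h
          rwa [mul_inv_rev, S.F.toPair.toConf.inv_t, ← (ha.1.inv_right).eq] at this }
  have hle : S.E ⊔ zpowers S.F.t ≤ T := sup_le (fun x hx => ⟨S.E_comm_t hx, Or.inl hx⟩)
    (zpowers_le.2 ⟨Commute.refl _, Or.inr (by rw [S.t_sq]; exact one_mem _)⟩)
  exact hle hx

theorem mem_ET_iff {x : G} : x ∈ S.E ⊔ zpowers S.F.t ↔ Commute S.F.t x ∧ (x ∈ S.E ∨ S.F.t * x ∈ S.E) := by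
  refine ⟨S.mem_ET, fun h => ?_⟩
  rcases h.2 with h | h
  · exact mem_sup_left h
  · have := mul_mem (mem_sup_right (mem_zpowers S.F.t) : S.F.t ∈ S.E ⊔ zpowers S.F.t) (mem_sup_left h)
    rwa [← mul_assoc, S.t_sq, one_mul] at this

theorem mem_E0T {x : G} (hx : x ∈ closure ({S.e 0, S.F.t} : Set G)) :
    ∃ a : ZMod 3, x = S.K.φ (smulV a (evv 0)) ∨ x = S.F.t * S.K.φ (smulV a (evv 0)) := by
  have hc : ∀ a : ZMod 3, Commute S.F.t (S.K.φ (smulV a (evv 0))) := fun a => by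
    rw [S.K.φ_smul]
    exact (S.commute_t_iff.2 (evv_norm 0).2).pow_right _
  have hadd : ∀ a b : ZMod 3, S.K.φ (smulV a (evv 0)) * S.K.φ (smulV b (evv 0)) = S.K.φ (smulV (a + b) (evv 0)) :=
    fun a b => by rw [← S.K.φ_add, (smul_facts a b _).1]
  induction hx using Subgroup.closure_induction with
  | mem y hy =>
    rcases hy with rfl | rfl
    · exact ⟨1, Or.inl (congrArg S.K.φ (smul_facts 0 0 _).2.2.2.1.symm)⟩
    · exact ⟨0, Or.inr (by rw [(smul_facts 0 0 _).2.2.1, S.K.φ_zero, mul_one])⟩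
  | one => exact ⟨0, Or.inl (by rw [(smul_facts 0 0 _).2.2.1, S.K.φ_zero])⟩
  | mul a b _ _ ha hb =>
    obtain ⟨a1, ha⟩ := ha
    obtain ⟨c1, hb⟩ := hb
    refine ⟨a1 + c1, ?_⟩
    rw [← hadd]
    rcases ha with rfl | rfl <;> rcases hb with rfl | rfl
    · exact Or.inl rfl
    · exact Or.inr (by rw [← mul_assoc, ← (hc a1).eq, mul_assoc])
    · exact Or.inr (mul_assoc _ _ _)
    · refine Or.inl ?_
      rw [mul_assoc, ← mul_assoc (S.K.φ _) S.F.t, ← (hc a1).eq, mul_assoc, ← mul_assoc, S.t_sq, one_mul]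
  | inv a _ ha =>
    obtain ⟨a1, ha⟩ := ha
    refine ⟨-a1, ?_⟩
    rw [(smul_facts a1 0 _).2.1, S.φ_neg]
    rcases ha with rfl | rfl
    · exact Or.inl rfl
    · refine Or.inr ?_
      rw [mul_inv_rev, S.F.toPair.toConf.inv_t, (hc a1).inv_right.eq]

/-- The sign changes of the last two coordinates commuting with the involution. -/
theorem exists_flip (i : Fin 3) : ∃ f, Commute f S.F.t ∧
    ∀ j, f * S.e j * f⁻¹ = if j = i then (S.e j)⁻¹ else S.e j := by
  obtain ⟨f, hf, hft⟩ := S.lift_word_t (flipW_spec i).1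
  refine ⟨f, hft, fun j => ?_⟩
  rw [e, hf, (flipW_spec i).2 j]
  split_ifs
  · exact S.φ_neg _
  · rfl

theorem sign_image {c : G} {i : Fin 3} {M : M4} (hM : S.K.Acts c M)
    (h : app M (evv i) = evv i ∨ app M (evv i) = -evv i) :
    c * S.e i * c⁻¹ = S.e i ∨ c * S.e i * c⁻¹ = (S.e i)⁻¹ := by
  rw [e, hM, ← S.φ_neg]
  rcases h with h | h <;> rw [h]
  exacts [Or.inl rfl, Or.inr rfl]

/-- The images of the coordinates under an element fixing the first. -/
theorem one_signs (hδ : S.δ = 1) {c : G} (hct : Commute c S.F.t) (h0 : Commute c (S.e 0)) (hcN : c ∈ S.N) :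
    ∀ i, c * S.e i * c⁻¹ = S.e i ∨ c * S.e i * c⁻¹ = (S.e i)⁻¹ := by
  obtain ⟨M, hM⟩ := S.acts_N hcN
  obtain ⟨⟨σ, hσ⟩, hw⟩ := S.monoM hM hct
  have k0 : app M (evv 0) = evv 0 := S.K.φ_inj (by rw [← hM, mul_inv_eq_iff_eq_mul]; exact h0.eq)
  have s0 : σ 0 = 0 := by
    refine (evv_distinct 0 (σ 0) ?_).symm
    rw [← k0]
    exact hσ 0
  have hσid : σ = 1 := by
    have key : ∀ σ : Equiv.Perm (Fin 3), σ 0 = 0 → σ = 1 ∨ (σ 1 = 2 ∧ σ 2 = 1) := by decide +kernel
    rcases key σ s0 with h | ⟨a, b⟩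
    · exact h
    · have e1 := hσ 1; have e2 := hσ 2
      rw [a] at e1; rw [b] at e2
      exact absurd (S.no_swap hδ hM hw k0 e1 e2) not_false
  intro i
  refine S.sign_image hM ?_
  have := hσ i
  rwa [hσid, Equiv.Perm.one_apply] at this

set_option maxHeartbeats 2000000 in
/-- With quotient `SL(2,3)` the centraliser of a coordinate and the involution normalises the torus. -/
theorem cent_one_one (hδ : S.δ = 1) {g : G} (ht : Commute g S.F.t) (h0 : Commute g (S.e 0)) : g ∈ S.N := by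
  classical
  set Γ := centralizer ({S.F.t} : Set G) ⊓ centralizer ({S.e 0} : Set G) with hΓ
  have memΓ : ∀ {c : G}, c ∈ Γ ↔ Commute c S.F.t ∧ Commute c (S.e 0) := fun {c} => by
    rw [hΓ, mem_inf, mem_centralizer_singleton_iff, mem_centralizer_singleton_iff]
    exact Iff.rfl
  set T := S.E ⊔ zpowers S.F.t with hT
  set Z := closure ({S.e 0, S.F.t} : Set G) with hZ
  have htT : S.F.t ∈ T := mem_sup_right (mem_zpowers _)
  have heT : ∀ i, S.e i ∈ T := fun i => mem_sup_left (Subgroup.subset_closure ⟨i, rfl⟩)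
  have hEcomm : ∀ {x y : G}, x ∈ S.E → y ∈ S.E → Commute x y := fun hx hy => S.K.comm _ (S.E_le hx) _ (S.E_le hy)
  have hTc : ∀ {x y : G}, x ∈ T → y ∈ T → Commute x y := by
    intro x y hx hy
    have h1 : T ≤ centralizer ({y} : Set G) := sup_le (fun a ha => mem_centralizer_singleton_iff.2 (by
      obtain ⟨hy1, hy2 | hy2⟩ := S.mem_ET hy
      · exact (hEcomm ha hy2).eq
      · have := ((S.E_comm_t ha).symm).mul_right (hEcomm ha hy2)
        rwa [← mul_assoc, S.t_sq, one_mul] at this))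
      (zpowers_le.2 (mem_centralizer_singleton_iff.2 (S.mem_ET hy).1.eq))
    exact mem_centralizer_singleton_iff.1 (h1 hx)
  have h2E : ∀ {x : G}, x ∈ T → x * x ∈ S.E := fun {x} hx => by
    obtain ⟨hc, h | h⟩ := S.mem_ET hx
    · exact mul_mem h h
    · have := mul_mem h h
      rwa [show S.F.t * x * (S.F.t * x) = x * x by
        rw [mul_assoc, ← mul_assoc x, ← hc.eq, mul_assoc, ← mul_assoc, S.t_sq, one_mul]] at this
  have hintoE : ∀ {x : G}, x ∈ T → x ^ 3 = 1 → x ∈ S.E := fun {x} hx h3 => by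
    rw [pow_succ, pow_two] at h3
    have := mul_mem (h2E hx) (h2E hx)
    rwa [← mul_assoc, h3, one_mul] at this
  have hNT : ∀ {c : G}, c ∈ Γ → (∀ b ∈ T, c * b * c⁻¹ ∈ T) → c ∈ S.N := fun {c} hc hcn =>
    S.norm_E (memΓ.1 hc).1 fun i => hintoE (hcn _ (heT i)) (by
      rw [conj_pow, show S.e i ^ 3 = 1 from S.K.exp _ (S.K.φ_mem _), mul_one, mul_inv_cancel])
  have htriv : ∀ {c : G}, c ∈ Γ → (∀ i, c * S.e i * c⁻¹ = S.e i) → c ∈ T := fun {c} hc h =>
    S.mem_ET_iff.2 ⟨(memΓ.1 hc).1.symm, S.cent_E (fun i => mul_inv_eq_iff_eq_mul.1 (h i)) (memΓ.1 hc).1⟩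
  have hTfix : ∀ {c : G}, c ∈ T → ∀ i, c * S.e i * c⁻¹ = S.e i := fun hc i =>
    mul_inv_eq_iff_eq_mul.2 (hTc hc (heT i)).eq
  have hTn : ∀ {c : G}, c ∈ Γ → (∀ i, c * S.e i * c⁻¹ ∈ S.E) → ∀ b ∈ T, c * b * c⁻¹ ∈ T := by
    intro c hc h
    have hle : T ≤ T.comap (MulAut.conj c).toMonoidHom := sup_le ((closure_le _).2 (by
      rintro _ ⟨i, rfl⟩
      exact mem_sup_left (h i))) (zpowers_le.2 (by
        show c * S.F.t * c⁻¹ ∈ T
        rw [(memΓ.1 hc).1.eq, mul_inv_cancel_right]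
        exact htT))
    exact hle
  obtain ⟨f1, hf1t, hf1⟩ := S.exists_flip 1
  obtain ⟨f2, hf2t, hf2⟩ := S.exists_flip 2
  have hfΓ : ∀ {f : G}, Commute f S.F.t → f * S.e 0 * f⁻¹ = S.e 0 → f ∈ Γ := fun ht h =>
    memΓ.2 ⟨ht, mul_inv_eq_iff_eq_mul.1 h⟩
  have hne : ∀ i, (S.e i)⁻¹ ≠ S.e i := fun i h => by
    rw [e, ← S.φ_neg] at h
    have key : ∀ i, -evv i ≠ evv i := by decide +kernel
    exact key i (S.K.φ_inj h)
  have hinE : ∀ {f : G} {i : Fin 3}, (∀ j, f * S.e j * f⁻¹ = if j = i then (S.e j)⁻¹ else S.e j) →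
      ∀ j, f * S.e j * f⁻¹ ∈ S.E := fun {f i} h j => by
    rw [h j]; split_ifs
    · exact inv_mem (Subgroup.subset_closure ⟨j, rfl⟩)
    · exact Subgroup.subset_closure ⟨j, rfl⟩
  have h01 : f1 * S.e 0 * f1⁻¹ = S.e 0 := (hf1 0).trans (if_neg (by decide))
  have h02 : f2 * S.e 0 * f2⁻¹ = S.e 0 := (hf2 0).trans (if_neg (by decide))
  have hres : ∀ a ∈ T, g * a * g⁻¹ ∈ T := by
    refine klein_norm (T := T) (Z := Z) (sup_le (fun a ha => memΓ.2 ⟨(S.E_comm_t ha).symm,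
      hEcomm ha (Subgroup.subset_closure ⟨0, rfl⟩)⟩) (zpowers_le.2 (memΓ.2 ⟨Commute.refl _, S.E_comm_t
        (Subgroup.subset_closure ⟨0, rfl⟩)⟩)))
      ((closure_le _).2 (by rintro _ (rfl | rfl); exacts [heT 0, htT])) ?_ ?_ ?_ ?_ ?_ ?_
      (hfΓ hf1t h01) (hfΓ hf2t h02) (hTn (hfΓ hf1t h01) (hinE hf1)) (hTn (hfΓ hf2t h02) (hinE hf2))
      ?_ ?_ ?_ ?_ g (memΓ.2 ⟨ht, h0⟩)
    · intro c hc z hz
      have : z ∈ centralizer ({c} : Set G) := (closure_le _).2 (by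
        rintro _ (rfl | rfl)
        exacts [mem_centralizer_singleton_iff.2 (memΓ.1 hc).2.eq.symm,
          mem_centralizer_singleton_iff.2 (memΓ.1 hc).1.eq.symm]) hz
      rw [← (mem_centralizer_singleton_iff.1 this), mul_inv_cancel_right]
      exact hz
    · intro b hb
      obtain ⟨hc, h | h⟩ := S.mem_ET hb
      · rw [S.K.exp _ (S.E_le h)]; exact one_mem _
      · have h3 := S.K.exp _ (S.E_le h)
        rw [hc.mul_pow, show S.F.t ^ 3 = S.F.t by rw [pow_succ, pow_two, S.t_sq, one_mul]] at h3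
        rw [show b ^ 3 = S.F.t from (inv_eq_of_mul_eq_one_right h3).symm.trans S.F.toPair.toConf.inv_t]
        exact Subgroup.subset_closure (Or.inr rfl)
    · exact fun b hb c hc => by rw [(hTc hb hc).eq, mul_inv_cancel_right, mul_inv_cancel]; exact one_mem _
    · let f : ZMod 3 × Bool → Z := fun p => ⟨(if p.2 then S.F.t else 1) * S.K.φ (smulV p.1 (evv 0)), by
        refine mul_mem ?_ ?_
        · split_ifs
          exacts [Subgroup.subset_closure (Or.inr rfl), one_mem _]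
        · rw [S.K.φ_smul]; exact pow_mem (Subgroup.subset_closure (Or.inl rfl) : _ ∈ Z) _⟩
      have hf : Function.Surjective f := fun z => by
        obtain ⟨a, h | h⟩ := S.mem_E0T z.2
        · exact ⟨(a, false), Subtype.ext (by simp [f, h])⟩
        · exact ⟨(a, true), Subtype.ext (by simp [f, h])⟩
      let g' : (ZMod 3 × ZMod 3 × ZMod 3) × Bool → T := fun p => ⟨(if p.2 then S.F.t else 1) *
        S.K.φ (smulV p.1.1 (evv 0) + smulV p.1.2.1 (evv 1) + smulV p.1.2.2 (evv 2)), by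
        refine mul_mem ?_ (mem_sup_left ?_)
        · split_ifs
          exacts [htT, one_mem _]
        · rw [S.K.φ_add, S.K.φ_add, S.K.φ_smul, S.K.φ_smul, S.K.φ_smul]
          exact mul_mem (mul_mem (pow_mem (Subgroup.subset_closure ⟨0, rfl⟩ : _ ∈ S.E) _) (pow_mem (Subgroup.subset_closure ⟨1, rfl⟩ : _ ∈ S.E) _))
            (pow_mem (Subgroup.subset_closure ⟨2, rfl⟩ : _ ∈ S.E) _)⟩
      have htA : S.F.t ∉ S.K.A := fun h => by
        have key : MT ≠ oneM := by decide +kernel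
        exact key (S.K.acts_unique S.acts_t (S.K.acts_of_mem h))
      have hg : Function.Bijective g' := by
        refine ⟨fun p q h => ?_, fun x => ?_⟩
        · have h' : (g' p : G) = g' q := congrArg Subtype.val h
          obtain ⟨pv, pb⟩ := p
          obtain ⟨qv, qb⟩ := q
          simp only [g'] at h'
          have key : ∀ p q : ZMod 3 × ZMod 3 × ZMod 3,
              smulV p.1 (evv 0) + smulV p.2.1 (evv 1) + smulV p.2.2 (evv 2) =
                smulV q.1 (evv 0) + smulV q.2.1 (evv 1) + smulV q.2.2 (evv 2) → p = q := by decide +kernel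
          rcases pb <;> rcases qb <;> simp at h'
          · rw [key _ _ (S.K.φ_inj h')]
          · refine absurd ?_ htA
            rw [eq_mul_inv_of_mul_eq h'.symm]
            exact mul_mem (S.K.φ_mem _) (inv_mem (S.K.φ_mem _))
          · refine absurd ?_ htA
            rw [eq_mul_inv_of_mul_eq h']
            exact mul_mem (S.K.φ_mem _) (inv_mem (S.K.φ_mem _))
          · rw [key _ _ (S.K.φ_inj h')]
        · obtain ⟨hc, h | h⟩ := S.mem_ET x.2
          · obtain ⟨v, hv⟩ := S.K.φ_surj (S.E_le h)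
            obtain ⟨a, b, c, rfl⟩ := evv_span v (S.commute_t_iff.1 (hv ▸ hc))
            exact ⟨((a, b, c), false), Subtype.ext (by simp [g', hv])⟩
          · obtain ⟨v, hv⟩ := S.K.φ_surj (S.E_le h)
            obtain ⟨a, b, c, rfl⟩ := evv_span v
              (S.commute_t_iff.1 (hv ▸ (Commute.refl S.F.t).mul_right hc))
            exact ⟨((a, b, c), true), Subtype.ext (by simp [g', hv, ← mul_assoc, S.t_sq])⟩
      have hinj : Function.Injective f := fun p q h => by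
        have h' : (f p : G) = f q := congrArg Subtype.val h
        have hh : g' ((p.1, 0, 0), p.2) = g' ((q.1, 0, 0), q.2) := Subtype.ext (by
          have hz : ∀ a : ZMod 3, smulV a (evv 0) + smulV 0 (evv 1) + smulV 0 (evv 2) = smulV a (evv 0) := by
            decide +kernel
          simp only [g', hz]
          exact h')
        have := hg.1 hh
        simp only [Prod.mk.injEq, and_true] at this
        exact Prod.ext this.1 this.2
      rw [← Nat.card_congr (Equiv.ofBijective g' hg), ← Nat.card_congr (Equiv.ofBijective f ⟨hinj, hf⟩)]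
      simp
    · intro c hc hcen
      have hn : ∀ b ∈ T, c * b * c⁻¹ ∈ T := fun b hb => by
        have := mul_mem ((closure_le _).2 (by rintro _ (rfl | rfl); exacts [heT 0, htT]) (hcen b hb)) hb
        rwa [inv_mul_cancel_right] at this
      have hs := S.one_signs hδ (memΓ.1 hc).1 (memΓ.1 hc).2 (hNT hc hn)
      refine htriv hc fun i => (hs i).resolve_right fun h => ?_
      obtain ⟨a, ha⟩ := S.mem_E0T (hcen _ (heT i))
      rw [h, e, ← S.φ_neg, ← S.K.φ_add] at ha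
      have key : ∀ i : Fin 3, ∀ a : ZMod 3, -evv i + -evv i = smulV a (evv 0) → i = 0 := by decide +kernel
      rcases ha with ha | ha
      · obtain rfl := key i a (S.K.φ_inj ha)
        exact hne 0 (h.symm.trans (mul_inv_eq_iff_eq_mul.2 (memΓ.1 hc).2.eq))
      · have key' : MT ≠ oneM := by decide +kernel
        refine key' (S.K.acts_unique S.acts_t (S.K.acts_of_mem ?_))
        rw [eq_mul_inv_of_mul_eq ha.symm]
        exact mul_mem (S.K.φ_mem _) (inv_mem (S.K.φ_mem _))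
    · intro c hc x hx hxZ hcx b hb
      obtain ⟨v, hv⟩ := S.K.φ_surj (S.E_le (h2E hx))
      have hv1 : v.2.1 = 0 := S.commute_t_iff.1 (hv ▸ S.E_comm_t (h2E hx))
      have hx4 : x * x * (x * x) * x⁻¹ ∈ Z := by
        obtain ⟨hcm, h | h⟩ := S.mem_ET hx
        · rw [S.inv_A (S.E_le h), mul_inv_cancel]; exact one_mem _
        · have h4 := S.inv_A (S.E_le h)
          have e : x * x * (x * x) = S.F.t * x := by
            rw [← h4, show S.F.t * x * (S.F.t * x) = x * x by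
              rw [mul_assoc, ← mul_assoc x, ← hcm.eq, mul_assoc, ← mul_assoc, S.t_sq, one_mul]]
          rw [e, mul_inv_cancel_right]
          exact Subgroup.subset_closure (Or.inr rfl)
      have hne' : bf v (evv 1) ≠ 0 ∨ bf v (evv 2) ≠ 0 := by
        by_contra h
        push Not at h
        obtain ⟨a, rfl⟩ := span0 v hv1 h.1 h.2
        refine hxZ ?_
        have hvZ : x * x ∈ Z := by
          rw [← hv, S.K.φ_smul]; exact pow_mem (Subgroup.subset_closure (Or.inl rfl) : _ ∈ Z) _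
        have := mul_mem (inv_mem hx4) (mul_mem hvZ hvZ)
        rwa [show (x * x * (x * x) * x⁻¹)⁻¹ * (x * x * (x * x)) = x by group] at this
      -- the square of the commutator lies on the coordinate
      obtain ⟨d, hd⟩ : ∃ d, d = c * x * c⁻¹ * x⁻¹ := ⟨_, rfl⟩
      rw [← hd] at hcx
      have hdT : d ∈ T := (closure_le _).2 (by rintro _ (rfl | rfl); exacts [heT 0, htT]) hcx
      have e2 : c * (x * x) * c⁻¹ = d * d * (x * x) := by
        rw [show c * (x * x) * c⁻¹ = (c * x * c⁻¹ * x⁻¹ * x) * (c * x * c⁻¹ * x⁻¹ * x) by group, ← hd]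
        calc d * x * (d * x) = d * (x * d) * x := by group
          _ = d * (d * x) * x := by rw [(hTc hx hdT).eq]
          _ = d * d * (x * x) := by group
      obtain ⟨a, ha⟩ := S.mem_E0T hcx
      have hdd : d * d = S.K.φ (smulV (a + a) (evv 0)) := by
        rw [(smul_facts a a _).1, S.K.φ_add]
        have hc' : Commute S.F.t (S.K.φ (smulV a (evv 0))) := by
          rw [S.K.φ_smul]; exact (S.commute_t_iff.2 (evv_norm 0).2).pow_right _
        rcases ha with rfl | rfl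
        · rfl
        · rw [mul_assoc, ← mul_assoc (S.K.φ _) S.F.t, ← hc'.eq, mul_assoc, ← mul_assoc, S.t_sq, one_mul]
      have himg : c * S.K.φ v * c⁻¹ = S.K.φ (v + smulV (a + a) (evv 0)) := by
        rw [hv, e2, hdd, ← hv, ← S.K.φ_add, add_comm]
      obtain ⟨w, hw⟩ : ∃ w, w = v + smulV (a + a) (evv 0) := ⟨_, rfl⟩
      have hbf : (bf w (evv 1) ≠ 0 ∨ bf w (evv 2) ≠ 0) ∧ w.2.1 = 0 := by
        refine ⟨by rwa [hw, (bf_shift0 v _).1, (bf_shift0 v _).2], ?_⟩
        have key : ∀ (v : V4) (a : ZMod 3), v.2.1 = 0 → (v + smulV a (evv 0)).2.1 = 0 := by decide +kernel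
        rw [hw]; exact key v _ hv1
      rw [← hw] at himg
      have hN : c ∈ S.N := by
        rcases pair_axes w hbf.2 hbf.1 with hg | ⟨p, q, hpq⟩
        · exact S.norm2 hg (mul_inv_eq_iff_eq_mul.2 (memΓ.1 hc).2.eq) himg
        · refine S.mem_N_of_cent (T := {S.K.φ (evv 0), S.K.φ v}) (by rintro _ (rfl | rfl) <;> exact S.K.φ_mem _)
            fun k hk => ?_
          have k0 : Commute k (S.e 0) := by
            have := hk _ (Or.inl rfl)
            rwa [show c * S.K.φ (evv 0) * c⁻¹ = S.K.φ (evv 0) from mul_inv_eq_iff_eq_mul.2 (memΓ.1 hc).2.eq] at this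
          have kw : Commute k (S.K.φ w) := himg ▸ hk _ (Or.inr rfl)
          have kc := S.commute_comb2 k0 kw p q
          rcases hpq with hh | hh <;> rw [hh] at kc
          · exact S.cent_axes_one hδ (i := 0) (j := 1) (by decide) k0 kc
          · exact S.cent_axes_one hδ (i := 0) (j := 2) (by decide) k0 kc
      refine hTn hc (fun i => ?_) b hb
      exact S.mem_E ((mem_normalizer_iff.1 hN _).1 (S.K.φ_mem _))
        ((memΓ.1 hc).1.symm.mul_right (S.E_comm_t (Subgroup.subset_closure ⟨i, rfl⟩)) |>.mul_right (memΓ.1 hc).1.symm.inv_right)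
    · intro h
      exact hne 1 (((hf1 1).trans (if_pos rfl)).symm.trans (hTfix h 1))
    · intro h
      exact hne 2 (((hf2 2).trans (if_pos rfl)).symm.trans (hTfix h 2))
    · intro h
      refine hne 1 (Eq.trans ?_ (hTfix h 1))
      rw [show f1 * f2 * S.e 1 * (f1 * f2)⁻¹ = f1 * (f2 * S.e 1 * f2⁻¹) * f1⁻¹ by group, hf2 1,
        if_neg (show (1 : Fin 3) ≠ 2 by decide), hf1 1, if_pos rfl]
    · intro c hc hcn
      have hs := S.one_signs hδ (memΓ.1 hc).1 (memΓ.1 hc).2 (hNT hc hcn)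
      have hsq : ∀ i, c * c * S.e i * (c * c)⁻¹ = S.e i := fun i => by
        rw [show c * c * S.e i * (c * c)⁻¹ = c * (c * S.e i * c⁻¹) * c⁻¹ by group]
        rcases hs i with h | h <;> rw [h]
        · exact h
        · rw [show c * (S.e i)⁻¹ * c⁻¹ = (c * S.e i * c⁻¹)⁻¹ by group, h, inv_inv]
      refine ⟨htriv (mul_mem hc hc) hsq, ?_⟩
      have hc0 : c * S.e 0 * c⁻¹ = S.e 0 := mul_inv_eq_iff_eq_mul.2 (memΓ.1 hc).2.eq
      have hdiv : ∀ {f : G}, f ∈ Γ → (∀ i, f * S.e i * f⁻¹ = c * S.e i * c⁻¹) → c * f⁻¹ ∈ T := by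
        intro f hf h
        have h1 : f⁻¹ * c ∈ T := htriv (mul_mem (inv_mem hf) hc) fun i => by
          rw [show f⁻¹ * c * S.e i * (f⁻¹ * c)⁻¹ = f⁻¹ * (c * S.e i * c⁻¹) * f by group, ← h i]
          group
        have h2 := hTn hf (fun i => by
          rw [h i]
          rcases hs i with k | k <;> rw [k]
          exacts [Subgroup.subset_closure ⟨i, rfl⟩, inv_mem (Subgroup.subset_closure ⟨i, rfl⟩)]) _ h1
        rwa [show f * (f⁻¹ * c) * f⁻¹ = c * f⁻¹ by group] at h2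
      have i1 : f1 * S.e 1 * f1⁻¹ = (S.e 1)⁻¹ := (hf1 1).trans (if_pos rfl)
      have i2 : f1 * S.e 2 * f1⁻¹ = S.e 2 := (hf1 2).trans (if_neg (by decide))
      have j1 : f2 * S.e 1 * f2⁻¹ = S.e 1 := (hf2 1).trans (if_neg (by decide))
      have j2 : f2 * S.e 2 * f2⁻¹ = (S.e 2)⁻¹ := (hf2 2).trans (if_pos rfl)
      have c12 : ∀ {f : G}, f * S.e 0 * f⁻¹ = S.e 0 → f * S.e 1 * f⁻¹ = c * S.e 1 * c⁻¹ →
          f * S.e 2 * f⁻¹ = c * S.e 2 * c⁻¹ → ∀ i, f * S.e i * f⁻¹ = c * S.e i * c⁻¹ := fun {f} a b d i => by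
        fin_cases i
        exacts [a.trans hc0.symm, b, d]
      rcases hs 1 with a1 | a1 <;> rcases hs 2 with a2 | a2
      · exact Or.inl (htriv hc fun i => by
          fin_cases i
          exacts [hc0, a1, a2])
      · exact Or.inr (Or.inr (Or.inl (hdiv (hfΓ hf2t h02) (c12 h02 (j1.trans a1.symm) (j2.trans a2.symm)))))
      · exact Or.inr (Or.inl (hdiv (hfΓ hf1t h01) (c12 h01 (i1.trans a1.symm) (i2.trans a2.symm))))
      · refine Or.inr (Or.inr (Or.inr (hdiv (mul_mem (hfΓ hf1t h01) (hfΓ hf2t h02)) (c12 ?_ ?_ ?_))))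
        · rw [show f1 * f2 * S.e 0 * (f1 * f2)⁻¹ = f1 * (f2 * S.e 0 * f2⁻¹) * f1⁻¹ by group, h02, h01]
        · rw [show f1 * f2 * S.e 1 * (f1 * f2)⁻¹ = f1 * (f2 * S.e 1 * f2⁻¹) * f1⁻¹ by group, j1, i1, a1]
        · rw [show f1 * f2 * S.e 2 * (f1 * f2)⁻¹ = f1 * (f2 * S.e 2 * f2⁻¹) * f1⁻¹ by group, j2,
            show f1 * (S.e 2)⁻¹ * f1⁻¹ = (f1 * S.e 2 * f1⁻¹)⁻¹ by group, i2, a2]
  exact S.norm_E ht fun i => hintoE (hres _ (heT i)) (by
    rw [conj_pow, show S.e i ^ 3 = 1 from S.K.exp _ (S.K.φ_mem _), mul_one, mul_inv_cancel])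

end Setting

end Cfsg.Agent.O8Three
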