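import Cfsg.Agent.Lib.O8Three.Conf

/-!
S3372: a second conjugate of the element of order three in the core gives an elementary abelian subgroup of
order 81 containing both.
-/

set_option autoImplicit false
set_option linter.style.haveILetI false
set_option linter.unusedSectionVars false

namespace Cfsg.Agent.O8Three

open Subgroup
open scoped commutatorElement

/-- The configuration and a second conjugate of its element in the core. -/
structure Pair (G : Type*) [Group G] [Finite G] extends Conf G where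
  /-- the conjugating element -/
  g : G
  y_mem : g * z * g⁻¹ ∈ Q
  y_not : g * z * g⁻¹ ∉ zpowers z

namespace Pair

variable {G : Type*} [Group G] [Finite G] (P : Pair G)
include P

/-- The second conjugate. -/
abbrev y : G := P.g * P.z * P.g⁻¹

/-- The configuration at the second conjugate. -/
abbrev D : Conf G := P.toConf.conj P.g

theorem yQ : P.y ∈ P.Q := P.y_mem

theorem z_comm_y : Commute P.z P.y := (P.toConf.commute_z (P.Q_le P.yQ)).symm

theorem z_mem_D : P.z ∈ P.D.Cz := P.D.mem_Cz.2 P.z_comm_y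

/-- `C_Q(y)`. -/
abbrev T : Subgroup G := P.Q ⊓ centralizer ({P.y} : Set G)

/-- `C_{Q_y}(z)`. -/
abbrev T' : Subgroup G := P.D.Q ⊓ centralizer ({P.z} : Set G)

/-- The common part of the two cores. -/
abbrev R : Subgroup G := P.Q ⊓ P.D.Q

theorem T_le_D : P.T ≤ P.D.Cz := inf_le_right

theorem T'_le : P.T' ≤ P.toConf.Cz := inf_le_right

theorem card_T : Nat.card P.T = 81 := P.toConf.card_inf_centralizer P.yQ P.y_not

theorem isPGroup_T : IsPGroup 3 P.T := P.toConf.isPGroup_Q.to_le inf_le_left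

theorem isPGroup_T' : IsPGroup 3 P.T' := P.D.isPGroup_Q.to_le inf_le_left

theorem z_mem_T : P.z ∈ P.T := ⟨P.z_mem, mem_centralizer_singleton_iff.2 P.z_comm_y.eq⟩

theorem T_nonabelian : ∃ a ∈ P.T, ∃ b ∈ P.T, ⁅a, b⁆ ≠ 1 := by
  by_contra hcon
  push Not at hcon
  -- every element of `T` is then central modulo `⟨y⟩`
  have hsub : (P.T : Set G) ⊆ (fun p : zpowers P.z × zpowers P.y => (p.1 : G) * p.2) '' Set.univ := by
    intro x hx
    by_cases hxz : x ∈ zpowers P.z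
    · exact ⟨(⟨x, hxz⟩, 1), trivial, mul_one x⟩
    have hTx : P.T ≤ P.Q ⊓ centralizer ({x} : Set G) := fun a ha =>
      ⟨ha.1, mem_centralizer_singleton_iff.2 (commutatorElement_eq_one_iff_mul_comm.1 (hcon a ha x hx))⟩
    have hxT : P.Q ⊓ centralizer ({x} : Set G) = P.T :=
      (eq_of_le_of_card_ge hTx (by rw [P.card_T, P.toConf.card_inf_centralizer hx.1 hxz])).symm
    obtain ⟨d, hd, hdT⟩ : ∃ d ∈ P.Q, d ∉ P.T := by
      by_contra h
      push Not at h
      have := card_le_of_le (show P.Q ≤ P.T from h)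
      rw [P.card_T, P.card_Q] at this
      omega
    have hdy : ⁅d, P.y⁆ ≠ 1 := fun h => hdT ⟨hd, mem_centralizer_singleton_iff.2
      (commutatorElement_eq_one_iff_mul_comm.1 h)⟩
    obtain ⟨k, hk⟩ : ∃ k : ℤ, ⁅d, x⁆ = ⁅d, P.y⁆ ^ k := by
      refine mem_zpowers_iff.1 ?_ |>.imp fun k e => e.symm
      have hz : zpowers ⁅d, P.y⁆ = zpowers P.z := by
        refine eq_of_le_of_card_ge (zpowers_le.2 (P.comm_mem _ hd _ P.yQ)) ?_
        rw [P.toConf.card_Z, Nat.card_zpowers]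
        haveI : Fact (Nat.Prime 3) := ⟨Nat.prime_three⟩
        rw [orderOf_eq_prime (P.exp_Q _ (P.toConf.Z_le_Q (P.comm_mem _ hd _ P.yQ))) hdy]
      rw [hz]
      exact P.comm_mem _ hd _ hx.1
    have hyk : (P.y ^ k)⁻¹ ∈ P.Q := inv_mem (zpow_mem P.yQ k)
    have hxy : x * (P.y ^ k)⁻¹ ∈ P.Q := mul_mem hx.1 hyk
    have hd0 : ⁅d, x * (P.y ^ k)⁻¹⁆ = 1 := by
      have e := map_zpow (P.toConf.bracketHom hd) ⟨P.y, P.yQ⟩ k
      have e' : ⁅P.y ^ k, d⁆ = ⁅P.y, d⁆ ^ k := by simpa [Conf.bracketHom] using congrArg Subtype.val e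
      have e2 := map_inv (P.toConf.bracketHom hd) ⟨P.y ^ k, zpow_mem P.yQ k⟩
      have e2' : ⁅(P.y ^ k)⁻¹, d⁆ = ⁅P.y ^ k, d⁆⁻¹ := by simpa [Conf.bracketHom] using congrArg Subtype.val e2
      rw [← commutatorElement_inv, inv_eq_one, P.toConf.bracket_mul_left hx.1 hyk hd, e2', e',
        ← commutatorElement_inv d x, ← commutatorElement_inv d P.y, hk, inv_zpow, inv_inv, inv_mul_cancel]
    refine ⟨(⟨x * (P.y ^ k)⁻¹, P.center_Q _ hxy fun q hq => ?_⟩, ⟨P.y ^ k, zpow_mem_zpowers _ k⟩),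
      trivial, inv_mul_cancel_right x _⟩
    by_cases hq' : q ∈ P.T
    · have h1 : Commute x q := (commutatorElement_eq_one_iff_commute.1 (hcon x hx q hq'))
      have h2 : Commute P.y q := (mem_centralizer_singleton_iff.1 hq'.2).symm
      exact (h1.mul_left (h2.zpow_left k).inv_left).eq
    · obtain ⟨m, c, hc, rfl⟩ : ∃ m : ℤ, ∃ c ∈ P.T, q = c * d ^ m := by
        have hz : zpowers ⁅d, P.y⁆ = zpowers P.z := by
          refine eq_of_le_of_card_ge (zpowers_le.2 (P.comm_mem _ hd _ P.yQ)) ?_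
          rw [P.toConf.card_Z, Nat.card_zpowers]
          haveI : Fact (Nat.Prime 3) := ⟨Nat.prime_three⟩
          rw [orderOf_eq_prime (P.exp_Q _ (P.toConf.Z_le_Q (P.comm_mem _ hd _ P.yQ))) hdy]
        obtain ⟨m, hm⟩ := mem_zpowers_iff.1 (show ⁅q, P.y⁆ ∈ zpowers ⁅d, P.y⁆ from
          hz ▸ P.comm_mem _ hq _ P.yQ)
        refine ⟨m, q * (d ^ m)⁻¹, ⟨(mul_mem hq (inv_mem (zpow_mem hd m)) : q * (d ^ m)⁻¹ ∈ P.Q),
          mem_centralizer_singleton_iff.2 (commutatorElement_eq_one_iff_mul_comm.1 ?_)⟩, by group⟩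
        have e := congrArg Subtype.val (map_zpow (P.toConf.bracketHom P.yQ) ⟨d, hd⟩ m)
        have e' : ⁅d ^ m, P.y⁆ = ⁅d, P.y⁆ ^ m := by simpa [Conf.bracketHom] using e
        have e2' : ⁅(d ^ m)⁻¹, P.y⁆ = ⁅d ^ m, P.y⁆⁻¹ := by
          simpa [Conf.bracketHom] using
            congrArg Subtype.val (map_inv (P.toConf.bracketHom P.yQ) ⟨d ^ m, zpow_mem hd m⟩)
        rw [P.toConf.bracket_mul_left hq (inv_mem (zpow_mem hd m)) P.yQ, e2', e', ← hm, mul_inv_cancel]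
      have h1 : Commute x c := commutatorElement_eq_one_iff_commute.1 (hcon x hx c hc)
      have h2 : Commute P.y c := (mem_centralizer_singleton_iff.1 hc.2).symm
      exact ((h1.mul_left (h2.zpow_left k).inv_left).mul_right
        ((commutatorElement_eq_one_iff_commute.1 hd0).symm.zpow_right m)).eq
  have h := (Set.ncard_le_ncard hsub (Set.toFinite _)).trans (Set.ncard_image_le (Set.toFinite _))
  rw [← Nat.card_coe_set_eq, Set.ncard_univ, Nat.card_prod, P.toConf.card_Z, Nat.card_zpowers] at h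
  have h2 : Nat.card P.T = 81 := P.card_T
  have h3 : orderOf P.y = 3 := P.D.order_z
  rw [h3] at h
  change Nat.card P.T ≤ 3 * 3 at h
  omega

theorem z_mem_Qy : P.z ∈ P.D.Q := by
  obtain ⟨a, ha, b, hb, hab⟩ := P.T_nonabelian
  have h := P.D.bracket_mem_Q P.T_le_D P.isPGroup_T ha hb
  obtain ⟨k, hk⟩ := mem_zpowers_iff.1 (P.comm_mem a ha.1 b hb.1)
  rw [← hk] at h hab
  have hz : P.z ∈ zpowers (P.z ^ k) := by
    rcases mem_zpowers_iff.1 (show P.z ^ k ∈ zpowers P.z from zpow_mem_zpowers _ k) with ⟨-, -⟩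
    have : zpowers (P.z ^ k) = zpowers P.z := by
      refine eq_of_le_of_card_ge (zpowers_le.2 (zpow_mem_zpowers _ k)) ?_
      rw [P.toConf.card_Z, Nat.card_zpowers]
      haveI : Fact (Nat.Prime 3) := ⟨Nat.prime_three⟩
      rw [orderOf_eq_prime (P.exp_Q _ (zpow_mem P.z_mem k)) hab]
    rw [this]; exact mem_zpowers _
  exact zpowers_le.2 h hz

theorem z_not : P.z ∉ zpowers P.D.z := fun h => P.y_not <| by
  have : zpowers P.z = zpowers P.y := eq_of_le_of_card_ge (zpowers_le.2 h)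
    (le_of_eq (P.D.card_Z.trans P.toConf.card_Z.symm))
  exact this ▸ mem_zpowers _

theorem card_T' : Nat.card P.T' = 81 := P.D.card_inf_centralizer P.z_mem_Qy P.z_not

theorem R_le_T : P.R ≤ P.T := fun _ hx => ⟨hx.1, P.D.Q_le hx.2⟩

theorem R_le_T' : P.R ≤ P.T' := fun _ hx => ⟨hx.2, P.Q_le hx.1⟩

theorem z_mem_R : P.z ∈ P.R := ⟨P.z_mem, P.z_mem_Qy⟩

theorem y_mem_R : P.y ∈ P.R := ⟨P.yQ, P.D.z_mem⟩

theorem R_comm {a b : G} (ha : a ∈ P.R) (hb : b ∈ P.R) : Commute a b := by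
  refine commutatorElement_eq_one_iff_commute.1 ?_
  by_contra h
  have h1 := P.comm_mem a ha.1 b hb.1
  have h2 := P.D.comm_mem a ha.2 b hb.2
  haveI : Fact (Nat.Prime 3) := ⟨Nat.prime_three⟩
  have e : ∀ {w : G}, Nat.card (zpowers w) = 3 → ⁅a, b⁆ ∈ zpowers w → zpowers ⁅a, b⁆ = zpowers w :=
    fun {w} hw hm => eq_of_le_of_card_ge (zpowers_le.2 hm) (by
      rw [hw, Nat.card_zpowers, orderOf_eq_prime (P.exp_Q _ (P.toConf.Z_le_Q h1)) h])
  exact P.z_not ((e P.toConf.card_Z h1).symm.trans (e P.D.card_Z h2) ▸ mem_zpowers P.z)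

theorem bracketT {a b : G} (ha : a ∈ P.T) (hb : b ∈ P.T) : ⁅a, b⁆ ∈ zpowers P.z := P.comm_mem _ ha.1 _ hb.1

theorem not_T_le : ¬ P.T ≤ P.D.Q := fun h => by
  obtain ⟨a, ha, b, hb, hab⟩ := P.T_nonabelian
  exact hab (commutatorElement_eq_one_iff_commute.2 (P.R_comm ⟨ha.1, h ha⟩ ⟨hb.1, h hb⟩))

theorem card_R : Nat.card P.R = 27 := by
  obtain ⟨a, haT, haD⟩ : ∃ a ∈ P.T, a ∉ P.D.Q := SetLike.not_le_iff_exists.1 P.not_T_le
  -- `T` is the union of three cosets of `R`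
  have hsub : (P.T : Set G) ⊆ (fun p : P.R × zpowers a => (p.1 : G) * p.2) '' Set.univ := by
    intro b hb
    obtain ⟨k, q, hq, rfl⟩ := P.D.exists_zpow P.T_le_D P.isPGroup_T haT hb haD
    have hqT : q ∈ P.T := by
      have := mul_mem hb (inv_mem (zpow_mem haT k))
      rwa [mul_inv_cancel_right] at this
    exact ⟨(⟨q, hqT.1, hq⟩, ⟨a ^ k, zpow_mem_zpowers _ k⟩), trivial, rfl⟩
  have h := (Set.ncard_le_ncard hsub (Set.toFinite _)).trans (Set.ncard_image_le (Set.toFinite _))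
  rw [← Nat.card_coe_set_eq, Set.ncard_univ, Nat.card_prod] at h
  have h81 : Nat.card P.T = 81 := P.card_T
  haveI : Fact (Nat.Prime 3) := ⟨Nat.prime_three⟩
  have ha3 : Nat.card (zpowers a) ≤ 3 := by
    rw [Nat.card_zpowers]
    exact Nat.le_of_dvd (by norm_num) (orderOf_dvd_of_pow_eq_one (P.exp_Q a haT.1))
  change Nat.card P.T ≤ Nat.card P.R * Nat.card (zpowers a) at h
  have h2 : 27 ≤ Nat.card P.R := by
    have := Nat.mul_le_mul_left (Nat.card P.R) ha3
    omega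
  obtain ⟨k, hk⟩ := IsPGroup.iff_card.1 (P.isPGroup_T.to_le P.R_le_T)
  have h4 : Nat.card P.R < 81 := by
    by_contra h'
    exact P.not_T_le fun x hx => ((eq_of_le_of_card_ge P.R_le_T (by omega)) ▸ hx : x ∈ P.R).2
  rw [hk] at h2 h4 ⊢
  rcases lt_or_ge k 3 with h' | h'
  · have := Nat.pow_le_pow_right (show 0 < 3 by norm_num) (show k ≤ 2 by omega)
    omega
  · rcases Nat.eq_or_lt_of_le h' with rfl | h''
    · norm_num
    · have := Nat.pow_le_pow_right (show 0 < 3 by norm_num) (show 4 ≤ k by omega)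
      omega

theorem not_T'_le : ¬ P.T' ≤ P.Q := fun h => by
  have h1 := card_le_of_le (show P.T' ≤ P.R from fun x hx => ⟨h hx, hx.1⟩)
  rw [P.card_T', P.card_R] at h1
  omega

/-- An element of `T'` outside `Q` moves some element of `R` modulo the centre. -/
theorem exists_moved {s : G} (hs : s ∈ P.T') (hsQ : s ∉ P.Q) : ∃ r ∈ P.R, ⁅s, r⁆ ∉ zpowers P.z := by
  by_contra hcon
  push Not at hcon
  have hRs : ∀ r ∈ P.R, Commute s r := fun r hr => by
    refine commutatorElement_eq_one_iff_commute.1 ?_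
    by_contra h
    haveI : Fact (Nat.Prime 3) := ⟨Nat.prime_three⟩
    have h2 := P.D.comm_mem s hs.1 r hr.2
    have h1 := hcon r hr
    have e : ∀ {w : G}, Nat.card (zpowers w) = 3 → ⁅s, r⁆ ∈ zpowers w → zpowers ⁅s, r⁆ = zpowers w :=
      fun {w} hw hm => eq_of_le_of_card_ge (zpowers_le.2 hm) (by
        rw [hw, Nat.card_zpowers, orderOf_eq_prime (P.exp_Q _ (P.toConf.Z_le_Q h1)) h])
    exact P.z_not ((e P.toConf.card_Z h1).symm.trans (e P.D.card_Z h2) ▸ mem_zpowers P.z)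
  -- then the configuration at `y` would have an abelian subgroup of order 81 in its core
  obtain ⟨a, ha, b, hb, hab⟩ := (Pair.mk (P.D) P.g⁻¹ (by
    show P.g⁻¹ * P.y * P.g⁻¹⁻¹ ∈ P.D.Q
    rw [show P.g⁻¹ * P.y * P.g⁻¹⁻¹ = P.z by group]
    exact P.z_mem_Qy) (by
    show P.g⁻¹ * P.y * P.g⁻¹⁻¹ ∉ zpowers P.D.z
    rw [show P.g⁻¹ * P.y * P.g⁻¹⁻¹ = P.z by group]
    exact P.z_not)).T_nonabelian
  have hT : ∀ c ∈ P.T', ∃ r ∈ P.R, ∃ k : ℤ, c = r * s ^ k := fun c hc => by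
    obtain ⟨k, q, hq, rfl⟩ := P.toConf.exists_zpow P.T'_le P.isPGroup_T' hs hc hsQ
    have hqT : q ∈ P.T' := by
      have := mul_mem hc (inv_mem (zpow_mem hs k))
      rwa [mul_inv_cancel_right] at this
    exact ⟨q, ⟨hq, hqT.1⟩, k, rfl⟩
  have hmem : ∀ {c : G}, c ∈ P.D.Q ⊓ centralizer ({P.g⁻¹ * P.y * P.g⁻¹⁻¹} : Set G) → c ∈ P.T' := fun {c} hc => by
    rwa [show P.g⁻¹ * P.y * P.g⁻¹⁻¹ = P.z by group] at hc
  obtain ⟨r1, hr1, k1, rfl⟩ := hT a (hmem ha)
  obtain ⟨r2, hr2, k2, rfl⟩ := hT b (hmem hb)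
  refine hab (commutatorElement_eq_one_iff_commute.2 ?_)
  exact ((P.R_comm hr1 hr2).mul_right ((hRs r1 hr1).symm.zpow_right k2)).mul_left
    (((hRs r2 hr2).zpow_left k1).mul_right (((Commute.refl s).zpow_left k1).zpow_right k2))

/-- The components of the second conjugate: an element of `T'` outside the core moves both. -/
theorem exists_A : ∃ s w u, s ∈ P.T' ∧ s ∉ P.Q ∧ w ∈ P.toConf.W ∧ u ∈ P.toConf.U ∧ P.y = w * u ∧
    w ∉ zpowers P.z ∧ u ∉ zpowers P.z ∧ Commute s w ∧ Commute s u ∧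
    (∃ q ∈ P.toConf.W, ⁅s, q⁆⁻¹ * w ∈ zpowers P.z) ∧ ∃ q ∈ P.toConf.U, ⁅s, q⁆⁻¹ * u ∈ zpowers P.z := by
  obtain ⟨s0, hs0, hs0Q⟩ : ∃ s ∈ P.T', s ∉ P.Q := SetLike.not_le_iff_exists.1 P.not_T'_le
  obtain ⟨r, hr, hrz⟩ := P.exists_moved hs0 hs0Q
  -- normalise so that the commutator is `y`
  have hsr := P.D.comm_mem s0 hs0.1 r hr.2
  obtain ⟨r', hr', hr'eq⟩ : ∃ r' ∈ P.R, ⁅s0, r'⁆ = P.y := by
    haveI : Fact (Nat.Prime 3) := ⟨Nat.prime_three⟩
    have hne : ⁅s0, r⁆ ≠ 1 := fun h => hrz (h ▸ one_mem _)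
    have hz : zpowers ⁅s0, r⁆ = zpowers P.y := eq_of_le_of_card_ge (zpowers_le.2 hsr) (by
      rw [show zpowers P.y = zpowers P.D.z from rfl, P.D.card_Z, Nat.card_zpowers,
        orderOf_eq_prime (P.D.exp_Q _ (P.D.Z_le_Q hsr)) hne])
    obtain ⟨k, hk⟩ := mem_zpowers_iff.1 (hz ▸ mem_zpowers P.y : P.y ∈ zpowers ⁅s0, r⁆)
    refine ⟨r ^ k, zpow_mem hr k, ?_⟩
    have e : ⁅r ^ k, s0⁆ = ⁅r, s0⁆ ^ k := by
      simpa [Conf.bracketHom] using congrArg Subtype.val (map_zpow (P.D.bracketHom hs0.1) ⟨r, hr.2⟩ k)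
    rw [← commutatorElement_inv, e, ← commutatorElement_inv s0 r, inv_zpow, inv_inv, hk]
  obtain ⟨w1, hw1, u1, hu1, hr1⟩ := P.toConf.split hr'.1
  obtain ⟨w, hw, u, hu, hy⟩ := P.toConf.split P.yQ
  have hs0C : s0 ∈ P.toConf.Cz := P.T'_le hs0
  have hbW : ⁅s0, w1⁆ ∈ P.toConf.W := by
    rw [commutatorElement_def]; exact mul_mem (P.toConf.conjW hs0C hw1) (inv_mem hw1)
  have hbU : ⁅s0, u1⁆ ∈ P.toConf.U := by
    rw [commutatorElement_def]; exact mul_mem (P.toConf.conjU hs0C hu1) (inv_mem hu1)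
  have hsplit : (⁅s0, w1⁆ * ⁅s0, u1⁆)⁻¹ * (w * u) ∈ zpowers P.z := by
    rw [← hy, ← hr'eq, hr1, show ⁅s0, w1 * u1⁆ = ⁅s0, w1⁆ * (w1 * ⁅s0, u1⁆ * w1⁻¹) by
      simp only [commutatorElement_def]; group, (P.toConf.commute_WU hw1 hbU).eq, mul_inv_cancel_right,
      inv_mul_cancel]
    exact one_mem _
  obtain ⟨hw', hu'⟩ := P.toConf.split_unique hbW hw hbU hu hsplit
  -- both components are nontrivial
  have hzy : ∀ a ∈ P.R, Commute a P.y := fun a ha => P.R_comm ha P.y_mem_R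
  have hry : Commute r' P.y := hzy r' hr'
  have hwz : w ∉ zpowers P.z := by
    intro h
    -- otherwise `y` lies in `U`, so `C_Q(y)` contains `W`, which then lies in the other core
    have hyU : P.y ∈ P.toConf.U := hy ▸ mul_mem (P.toConf.Z_le_U h) hu
    have hWR : P.toConf.W ≤ P.R := fun x hx => by
      have hxT : x ∈ P.T := ⟨hx.1, mem_centralizer_singleton_iff.2 (P.toConf.commute_WU hx hyU).eq⟩
      have htD : P.t ∈ P.D.Cz := P.D.mem_Cz.2 (mul_inv_eq_iff_eq_mul.1 hyU.2)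
      have hc := P.D.central x (P.T_le_D hxT) P.t htD (by rw [P.t_sq]; exact one_mem _)
      have hc2 : ⁅x, P.t⁆ = x * x * (P.t * x * P.t⁻¹ * x)⁻¹ := by
        simp only [commutatorElement_def]; rw [P.toConf.inv_t]
        group
        simp [P.toConf.inv_t]
      refine ⟨hx.1, ?_⟩
      have hz' : P.t * x * P.t⁻¹ * x ∈ P.D.Q := zpowers_le.2 P.z_mem_Qy hx.2
      have hxx : x * x ∈ P.D.Q := by
        have := mul_mem hc hz'
        rwa [hc2, inv_mul_cancel_right] at this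
      have e : x = (x * x) * (x * x) := by
        have h3 := P.exp_Q x hx.1
        rw [pow_succ, pow_two] at h3
        rw [← mul_assoc, h3, one_mul]
      rw [e]; exact mul_mem hxx hxx
    obtain ⟨q, hq, hq1, hq2⟩ := P.moves s0 hs0C (by
      rw [P.D.exp_Q _ hs0.1]; exact one_mem _) hs0Q
    have hqR : q ∈ P.R := hWR ⟨hq, hq1⟩
    obtain ⟨j, hj⟩ := mem_zpowers_iff.1 (P.D.comm_mem s0 hs0.1 q hqR.2)
    have hqW : ⁅s0, q⁆ ∈ P.toConf.W := by
      rw [commutatorElement_def]; exact mul_mem (P.toConf.conjW hs0C ⟨hq, hq1⟩) (inv_mem ⟨hq, hq1⟩)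
    exact hq2 (P.toConf.inf_WU hqW (hj ▸ zpow_mem (show P.D.z ∈ P.toConf.U from hyU) j))
  have huz : u ∉ zpowers P.z := by
    intro h
    -- then `r'` would be moved only in its component in `W`, but it commutes with `y`
    have hyW : P.y ∈ P.toConf.W := hy ▸ mul_mem hw (P.toConf.Z_le_W h)
    have hcw : Commute w1 P.y := by
      have := (hry.symm.mul_right (P.toConf.commute_WU hyW (inv_mem hu1))).symm
      rwa [hr1, mul_inv_cancel_right] at this
    -- `w1` centralises `y`, so lies in `⟨z, y⟩`, fixed by `s0` modulo the centre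
    have hw1m : w1 ∈ zpowers P.z ⊔ zpowers P.y := by
      by_contra hn
      obtain ⟨H, hH⟩ : ∃ H, H = zpowers P.z ⊔ zpowers P.y ⊔ zpowers w1 := ⟨_, rfl⟩
      have hle : H ≤ P.toConf.W := hH ▸ sup_le (sup_le (zpowers_le.2 (P.toConf.Z_le_W (mem_zpowers _)))
        (zpowers_le.2 hyW)) (zpowers_le.2 hw1)
      have hcc : ∀ a ∈ ({P.z, P.y, w1} : Set G), ∀ b ∈ ({P.z, P.y, w1} : Set G), a * b = b * a := by
        rintro a (rfl | rfl | rfl) b (rfl | rfl | rfl)
        all_goals first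
          | rfl
          | exact P.z_comm_y.eq
          | exact P.z_comm_y.symm.eq
          | exact hcw.eq
          | exact hcw.symm.eq
          | exact (P.toConf.commute_z (P.Q_le hw1.1)).eq
          | exact (P.toConf.commute_z (P.Q_le hw1.1)).symm.eq
      have hH' : H = closure ({P.z, P.y, w1} : Set G) := by
        rw [hH, zpowers_eq_closure, zpowers_eq_closure, zpowers_eq_closure, ← closure_union, ← closure_union]
        congr 1
        ext a; simp only [Set.mem_union, Set.mem_insert_iff, Set.mem_singleton_iff]; tauto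
      have hlt : zpowers P.z ⊔ zpowers P.y < H :=
        lt_of_le_of_ne (hH ▸ le_sup_left) fun e => hn (e ▸ hH ▸ mem_sup_right (mem_zpowers w1))
      have hlt0 : zpowers P.z < zpowers P.z ⊔ zpowers P.y :=
        lt_of_le_of_ne le_sup_left fun e => P.y_not (e ▸ mem_sup_right (mem_zpowers _))
      have hp : ∀ {K : Subgroup G}, K ≤ P.toConf.W → ∃ k, Nat.card K = 3 ^ k := fun {K} hK =>
        haveI : Fact (Nat.Prime 3) := ⟨Nat.prime_three⟩
        IsPGroup.iff_card.1 (P.toConf.isPGroup_Q.to_le (hK.trans P.toConf.W_le))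
      obtain ⟨k, hk⟩ := hp hle
      obtain ⟨m, hm⟩ := hp (hlt.le.trans hle)
      have h1 : Nat.card (zpowers P.z) < Nat.card ↥(zpowers P.z ⊔ zpowers P.y) :=
        Set.Finite.card_lt_card (Set.toFinite _) hlt0
      have h2 : Nat.card ↥(zpowers P.z ⊔ zpowers P.y) < Nat.card H :=
        Set.Finite.card_lt_card (Set.toFinite _) hlt
      rw [P.toConf.card_Z, hm] at h1
      rw [hm, hk] at h2
      have hm2 : 1 < m := by
        by_contra h'
        have := Nat.pow_le_pow_right (show 0 < 3 by norm_num) (show m ≤ 1 by omega)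
        omega
      have hk3 : m < k := (Nat.pow_lt_pow_iff_right (by norm_num)).1 h2
      have hHW : H = P.toConf.W := eq_of_le_of_card_ge hle (by
        rw [P.toConf.card_W, hk]
        exact le_trans (by norm_num) (Nat.pow_le_pow_right (show 0 < 3 by norm_num) (show 3 ≤ k by omega)))
      -- then `W` would be abelian and `w` central in `Q`
      have hab : ∀ a ∈ P.toConf.W, ∀ b ∈ P.toConf.W, Commute a b := by
        intro a ha b hb
        rw [← hHW, hH'] at ha hb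
        haveI := Subgroup.isMulCommutative_closure hcc
        exact congrArg Subtype.val (mul_comm' (⟨a, ha⟩ : closure ({P.z, P.y, w1} : Set G)) ⟨b, hb⟩)
      refine P.y_not (P.center_Q _ P.yQ fun q hq => ?_)
      obtain ⟨q1, hq1, q2, hq2, rfl⟩ := P.toConf.split hq
      exact ((hab _ hyW _ hq1).mul_right (P.toConf.commute_WU hyW hq2)).eq
    refine hwz ?_
    have hfix : ⁅s0, w1⁆ ∈ zpowers P.z := by
      have hle : zpowers P.z ⊔ zpowers P.y ≤ centralizer ({s0} : Set G) :=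
        sup_le (zpowers_le.2 (mem_centralizer_singleton_iff.2 (P.toConf.commute_z hs0C).symm.eq))
          (zpowers_le.2 (mem_centralizer_singleton_iff.2 (P.D.commute_z (P.D.Q_le hs0.1)).symm.eq))
      rw [commutatorElement_eq_one_iff_mul_comm.2 (mem_centralizer_singleton_iff.1 (hle hw1m)).symm]
      exact one_mem _
    have := mul_mem hfix hw'
    rwa [mul_inv_cancel_left] at this
  -- correct by a power of `r'` to centralise the components
  have hsy : Commute s0 P.y := P.D.commute_z (P.D.Q_le hs0.1)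
  have hsw : ⁅s0, w⁆ ∈ zpowers P.z := by
    have h1 : ⁅s0, w⁆ ∈ P.toConf.W := by
      rw [commutatorElement_def]; exact mul_mem (P.toConf.conjW hs0C hw) (inv_mem hw)
    have h2 : ⁅s0, u⁆ ∈ P.toConf.U := by
      rw [commutatorElement_def]; exact mul_mem (P.toConf.conjU hs0C hu) (inv_mem hu)
    refine P.toConf.inf_WU h1 ?_
    have h3 : ⁅s0, w⁆ * ⁅s0, u⁆ = 1 := by
      rw [← commutatorElement_eq_one_iff_commute.2 hsy, hy, show ⁅s0, w * u⁆ = ⁅s0, w⁆ * (w * ⁅s0, u⁆ * w⁻¹) by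
        simp only [commutatorElement_def]; group, (P.toConf.commute_WU hw h2).eq, mul_inv_cancel_right]
    rw [eq_inv_of_mul_eq_one_left h3]
    exact inv_mem h2
  have hrw : ⁅r', w⁆ ≠ 1 := by
    intro h
    have hcw : Commute w1 w := by
      have := ((commutatorElement_eq_one_iff_commute.1 h).symm.mul_right
        (P.toConf.commute_WU hw (inv_mem hu1))).symm
      rwa [hr1, mul_inv_cancel_right] at this
    have hmoved : ⁅s0, w1⁆ ∉ zpowers P.z := fun hm => hwz (by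
      have := mul_mem hm hw'
      rwa [mul_inv_cancel_left] at this)
    obtain ⟨H, hH⟩ : ∃ H, H = closure ({P.z, w, w1} : Set G) := ⟨_, rfl⟩
    have hcc : ∀ a ∈ ({P.z, w, w1} : Set G), ∀ b ∈ ({P.z, w, w1} : Set G), a * b = b * a := by
      rintro a (rfl | rfl | rfl) b (rfl | rfl | rfl)
      all_goals first
        | rfl
        | exact hcw.eq
        | exact hcw.symm.eq
        | exact (P.toConf.commute_z (P.Q_le hw.1)).eq
        | exact (P.toConf.commute_z (P.Q_le hw.1)).symm.eq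
        | exact (P.toConf.commute_z (P.Q_le hw1.1)).eq
        | exact (P.toConf.commute_z (P.Q_le hw1.1)).symm.eq
    have hle : H ≤ P.toConf.W := hH ▸ (closure_le _).2 (by
      rintro a (rfl | rfl | rfl)
      exacts [P.toConf.Z_le_W (mem_zpowers _), hw, hw1])
    -- `s0` centralises `z` and `w` modulo the centre, so `w1` is outside their span
    obtain ⟨M, hM⟩ : ∃ M, M = zpowers P.z ⊔ zpowers w := ⟨_, rfl⟩
    have hMH : M < H := by
      refine lt_of_le_of_ne (hM ▸ sup_le (zpowers_le.2 (hH ▸ subset_closure (Or.inl rfl)))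
        (zpowers_le.2 (hH ▸ subset_closure (Or.inr (Or.inl rfl))))) fun e => hmoved ?_
      have hw1M : w1 ∈ M := e ▸ hH ▸ subset_closure (Or.inr (Or.inr rfl))
      let K : Subgroup G :=
        { carrier := {a | a ∈ P.toConf.W ∧ ⁅s0, a⁆ ∈ zpowers P.z}
          mul_mem' := fun {a b} ha hb => ⟨mul_mem ha.1 hb.1, by
            rw [show ⁅s0, a * b⁆ = ⁅s0, a⁆ * (a * ⁅s0, b⁆ * a⁻¹) by simp only [commutatorElement_def]; group,
              P.toConf.fix_Z (P.Q_le ha.1.1) hb.2]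
            exact mul_mem ha.2 hb.2⟩
          one_mem' := ⟨one_mem _, by simp⟩
          inv_mem' := fun {a} ha => ⟨inv_mem ha.1, by
            rw [show ⁅s0, a⁻¹⁆ = a⁻¹ * ⁅s0, a⁆⁻¹ * a⁻¹⁻¹ by simp only [commutatorElement_def]; group,
              P.toConf.fix_Z (inv_mem (P.Q_le ha.1.1)) (inv_mem ha.2)]
            exact inv_mem ha.2⟩ }
      have : M ≤ K := hM ▸ sup_le
        (zpowers_le.2 ⟨P.toConf.Z_le_W (mem_zpowers _), by
          rw [commutatorElement_eq_one_iff_commute.2 (P.toConf.commute_z hs0C)]; exact one_mem _⟩)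
        (zpowers_le.2 ⟨hw, hsw⟩)
      exact (this hw1M).2
    have hM0 : zpowers P.z < M :=
      lt_of_le_of_ne (hM ▸ le_sup_left) fun e => hwz (e ▸ hM ▸ mem_sup_right (mem_zpowers w))
    haveI : Fact (Nat.Prime 3) := ⟨Nat.prime_three⟩
    obtain ⟨k, hk⟩ := IsPGroup.iff_card.1 (P.toConf.isPGroup_Q.to_le (hle.trans P.toConf.W_le))
    obtain ⟨m, hm⟩ := IsPGroup.iff_card.1 (P.toConf.isPGroup_Q.to_le ((hMH.le.trans hle).trans P.toConf.W_le))
    have h1 : Nat.card (zpowers P.z) < Nat.card M := Set.Finite.card_lt_card (Set.toFinite _) hM0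
    have h2 : Nat.card M < Nat.card H := Set.Finite.card_lt_card (Set.toFinite _) hMH
    rw [P.toConf.card_Z, hm] at h1
    rw [hm, hk] at h2
    have hm2 : 1 < m := by
      by_contra h'
      have := Nat.pow_le_pow_right (show 0 < 3 by norm_num) (show m ≤ 1 by omega)
      omega
    have hk3 : m < k := (Nat.pow_lt_pow_iff_right (by norm_num)).1 h2
    have hHW : H = P.toConf.W := eq_of_le_of_card_ge hle (by
      rw [P.toConf.card_W, hk]
      exact le_trans (by norm_num) (Nat.pow_le_pow_right (show 0 < 3 by norm_num) (show 3 ≤ k by omega)))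
    refine hwz (P.center_Q _ hw.1 fun q hq => ?_)
    obtain ⟨q1, hq1, q2, hq2, rfl⟩ := P.toConf.split hq
    haveI := Subgroup.isMulCommutative_closure hcc
    have h1' : Commute w q1 := congrArg Subtype.val (mul_comm'
      (⟨w, subset_closure (Or.inr (Or.inl rfl))⟩ : closure ({P.z, w, w1} : Set G))
      ⟨q1, by rw [← hH, hHW]; exact hq1⟩)
    exact (h1'.mul_right (P.toConf.commute_WU hw hq2)).eq
  haveI : Fact (Nat.Prime 3) := ⟨Nat.prime_three⟩
  have hrwz := P.comm_mem r' hr'.1 w hw.1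
  have hgen : zpowers ⁅r', w⁆ = zpowers P.z := eq_of_le_of_card_ge (zpowers_le.2 hrwz) (by
    rw [P.toConf.card_Z, Nat.card_zpowers, orderOf_eq_prime (P.exp_Q _ (P.toConf.Z_le_Q hrwz)) hrw])
  have hr'Q : r' ∈ P.Q := hr'.1
  obtain ⟨i, hi⟩ := mem_zpowers_iff.1 (hgen.symm ▸ inv_mem hsw : ⁅s0, w⁆⁻¹ ∈ zpowers ⁅r', w⁆)
  refine ⟨r' ^ i * s0, w, u, mul_mem (P.R_le_T' (zpow_mem hr' i)) hs0, fun h => hs0Q (by
    simpa using mul_mem (inv_mem (zpow_mem hr'Q i)) h), hw, hu, hy, hwz, huz, ?_⟩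
  have hsw' : Commute (r' ^ i * s0) w := by
    refine commutatorElement_eq_one_iff_commute.1 ?_
    have e : ⁅r' ^ i, w⁆ = ⁅r', w⁆ ^ i := by
      simpa [Conf.bracketHom] using congrArg Subtype.val (map_zpow (P.toConf.bracketHom hw.1) ⟨r', hr'Q⟩ i)
    rw [show ⁅r' ^ i * s0, w⁆ = r' ^ i * ⁅s0, w⁆ * (r' ^ i)⁻¹ * ⁅r' ^ i, w⁆ by
      simp only [commutatorElement_def]; group, P.toConf.fix_Z (zpow_mem (P.Q_le hr'Q) i) hsw, e, hi,
      mul_inv_cancel]
  have hsu' : Commute (r' ^ i * s0) u := by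
    have h1 : Commute (r' ^ i * s0) P.y := (hry.zpow_left i).mul_left hsy
    rw [show u = w⁻¹ * P.y by rw [hy, inv_mul_cancel_left]]
    exact hsw'.inv_right.mul_right h1
  refine ⟨hsw', hsu', ⟨w1, hw1, ?_⟩, ⟨u1, hu1, ?_⟩⟩
  · rw [show ⁅r' ^ i * s0, w1⁆ = r' ^ i * ⁅s0, w1⁆ * (r' ^ i)⁻¹ * ⁅r' ^ i, w1⁆ by
      simp only [commutatorElement_def]; group,
      show r' ^ i * ⁅s0, w1⁆ * (r' ^ i)⁻¹ = ⁅r' ^ i, ⁅s0, w1⁆⁆ * ⁅s0, w1⁆ by
        simp only [commutatorElement_def]; group, _root_.mul_inv_rev, _root_.mul_inv_rev, mul_assoc, mul_assoc]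
    refine mul_mem (inv_mem (P.comm_mem _ (zpow_mem hr'Q i) _ hw1.1)) ?_
    rw [← mul_assoc]
    have h2 := P.comm_mem _ (zpow_mem hr'Q i) _ hbW.1
    rw [show ⁅s0, w1⁆⁻¹ * ⁅r' ^ i, ⁅s0, w1⁆⁆⁻¹ * w = ⁅r' ^ i, ⁅s0, w1⁆⁆⁻¹ * (⁅s0, w1⁆⁻¹ * w) by
      rw [(P.toConf.commute_zpow (inv_mem (P.Q_le hbW.1)) (inv_mem h2)).eq, mul_assoc]]
    exact mul_mem (inv_mem h2) hw'
  · rw [show ⁅r' ^ i * s0, u1⁆ = r' ^ i * ⁅s0, u1⁆ * (r' ^ i)⁻¹ * ⁅r' ^ i, u1⁆ by
      simp only [commutatorElement_def]; group,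
      show r' ^ i * ⁅s0, u1⁆ * (r' ^ i)⁻¹ = ⁅r' ^ i, ⁅s0, u1⁆⁆ * ⁅s0, u1⁆ by
        simp only [commutatorElement_def]; group, _root_.mul_inv_rev, _root_.mul_inv_rev, mul_assoc, mul_assoc]
    refine mul_mem (inv_mem (P.comm_mem _ (zpow_mem hr'Q i) _ hu1.1)) ?_
    rw [← mul_assoc]
    have h2 := P.comm_mem _ (zpow_mem hr'Q i) _ hbU.1
    rw [show ⁅s0, u1⁆⁻¹ * ⁅r' ^ i, ⁅s0, u1⁆⁆⁻¹ * u = ⁅r' ^ i, ⁅s0, u1⁆⁆⁻¹ * (⁅s0, u1⁆⁻¹ * u) by
      rw [(P.toConf.commute_zpow (inv_mem (P.Q_le hbU.1)) (inv_mem h2)).eq, mul_assoc]]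
    exact mul_mem (inv_mem h2) hu'

end Pair

end Cfsg.Agent.O8Three
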