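import Cfsg.Agent.Lib.O8Three.Chart

/-!
S3372: the chart together with the order of the centraliser of `z`, the bound on the 3-subgroups and the group of
order eight in the centraliser of the involution.
-/

set_option autoImplicit false
set_option linter.style.haveILetI false
set_option linter.unusedSectionVars false

namespace Cfsg.Agent.O8Three

open Subgroup

/-- The chart with the facts about the whole group which it does not see. -/
structure Setting (G : Type*) [Group G] [Finite G] extends Chart G where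
  three : ∀ P : Subgroup G, IsPGroup 3 P → Nat.card P ≤ 729
  /-- one or two according to the shape of the quotient of the centraliser -/
  δ : ℕ
  δ_cases : δ = 1 ∨ δ = 2
  card_Cz : Nat.card F.toPair.toConf.Cz = 5832 * δ
  eight : ∃ R : Subgroup G, Nat.card R = 8 ∧ F.t ∈ R ∧ R ≤ F.toPair.toConf.Cz ∧ (∀ r ∈ R, Commute r F.t) ∧
    (∀ c ∈ F.toPair.toConf.Cz, Commute c F.t → ∀ r ∈ R, c * r * c⁻¹ ∈ R) ∧
    (∀ r ∈ R, ∀ u ∈ F.toPair.toConf.U, Commute r u) ∧ (∃ a ∈ R, ∃ b ∈ R, a * b ≠ b * a) ∧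
    ∀ r ∈ R, Commute r K.p4 → r = 1 ∨ r = F.t

namespace Setting

variable {G : Type*} [Group G] [Finite G] (S : Setting G)

/-- The group of order eight. -/
noncomputable def R : Subgroup G := S.eight.choose

theorem card_R : Nat.card S.R = 8 := S.eight.choose_spec.1

theorem t_mem_R : S.F.t ∈ S.R := S.eight.choose_spec.2.1

theorem R_le : S.R ≤ S.F.toPair.toConf.Cz := S.eight.choose_spec.2.2.1

theorem R_comm_t {r : G} (hr : r ∈ S.R) : Commute r S.F.t := S.eight.choose_spec.2.2.2.1 r hr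

theorem R_norm {c r : G} (hc : c ∈ S.F.toPair.toConf.Cz) (ht : Commute c S.F.t) (hr : r ∈ S.R) :
    c * r * c⁻¹ ∈ S.R := S.eight.choose_spec.2.2.2.2.1 c hc ht r hr

theorem R_comm_U {r u : G} (hr : r ∈ S.R) (hu : u ∈ S.F.toPair.toConf.U) : Commute r u :=
  S.eight.choose_spec.2.2.2.2.2.1 r hr u hu

theorem R_nonab : ∃ a ∈ S.R, ∃ b ∈ S.R, a * b ≠ b * a := S.eight.choose_spec.2.2.2.2.2.2.1

theorem R_fix {r : G} (hr : r ∈ S.R) (h : Commute r S.K.p4) : r = 1 ∨ r = S.F.t :=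
  S.eight.choose_spec.2.2.2.2.2.2.2 r hr h

theorem p1_ne : S.K.p1 ≠ 1 := fun h => by
  rw [← S.K.φ_b1, S.K.φ_eq_one] at h
  exact absurd h (by decide)

theorem zpowers_p1 : zpowers S.K.p1 = zpowers S.F.z := eq_of_le_of_card_ge (zpowers_le.2 S.p1_mem) (by
  haveI : Fact (Nat.Prime 3) := ⟨Nat.prime_three⟩
  rw [S.F.toPair.toConf.card_Z, Nat.card_zpowers, orderOf_eq_prime (S.K.exp _ S.K.m1) S.p1_ne])

theorem mem_Cz {g : G} : g ∈ S.F.toPair.toConf.Cz ↔ Commute g S.K.p1 := by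
  constructor
  · exact fun h => S.F.toPair.toConf.commute_zpow h S.p1_mem
  · intro h
    obtain ⟨k, hk⟩ := mem_zpowers_iff.1 (S.zpowers_p1.symm ▸ mem_zpowers S.F.z : S.F.z ∈ zpowers S.K.p1)
    exact S.F.toPair.toConf.mem_Cz.2 (hk ▸ (h.zpow_right k).eq)

theorem A_le_Cz : S.K.A ≤ S.F.toPair.toConf.Cz := S.hA.le.trans S.F.A_le_Cz

theorem p2_mem_Q : S.K.p2 ∈ S.F.Q := S.p2_mem.1

theorem p3_mem_Q : S.K.p3 ∈ S.F.Q := S.p3_mem.1

theorem p1_mem_Q : S.K.p1 ∈ S.F.Q := S.F.toPair.toConf.Z_le_Q S.p1_mem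

end Setting

end Cfsg.Agent.O8Three
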