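import Cfsg.Agent.Lib.O8Three.Pair

/-!
S3372: the elementary abelian subgroup of order 81 is the only abelian subgroup of that order in its Sylow
subgroup and is self-centralising.
-/

set_option autoImplicit false
set_option linter.style.haveILetI false
set_option linter.unusedSectionVars false

namespace Cfsg.Agent.O8Three

open Subgroup
open scoped commutatorElement

/-- The configuration with a chosen torus: `⟨z, w, u, s⟩`. -/
structure Frame (G : Type*) [Group G] [Finite G] extends Pair G where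
  /-- the element outside the core -/
  s : G
  /-- the component in `W` of the second conjugate -/
  w : G
  /-- the component in `U` of the second conjugate -/
  u : G
  s_mem : s ∈ toPair.T'
  s_not : s ∉ Q
  w_mem : w ∈ toPair.toConf.W
  u_mem : u ∈ toPair.toConf.U
  y_eq : g * z * g⁻¹ = w * u
  w_not : w ∉ zpowers z
  u_not : u ∉ zpowers z
  s_w : Commute s w
  s_u : Commute s u
  s_pre_w : ∃ q ∈ toPair.toConf.W, ⁅s, q⁆⁻¹ * w ∈ zpowers z
  s_pre_u : ∃ q ∈ toPair.toConf.U, ⁅s, q⁆⁻¹ * u ∈ zpowers z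

/-- A frame exists. -/
theorem Pair.exists_frame {G : Type*} [Group G] [Finite G] (P : Pair G) : ∃ F : Frame G, F.toPair = P := by
  obtain ⟨s, w, u, h1, h2, h3, h4, h5, h6, h7, h8, h9, h10, h11⟩ := P.exists_A
  exact ⟨⟨P, s, w, u, h1, h2, h3, h4, h5, h6, h7, h8, h9, h10, h11⟩, rfl⟩

namespace Conf

variable {G : Type*} [Group G] [Finite G] (C : Conf G)
include C

theorem card_sup_zpowers {a : G} (ha : a ∈ C.Q) {H : Subgroup G} (hH : H ≤ C.Q) (hc : ∀ b ∈ H, Commute a b)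
    (hn : a ∉ H) : Nat.card ↥(H ⊔ zpowers a) = 3 * Nat.card H := by
  haveI : Fact (Nat.Prime 3) := ⟨Nat.prime_three⟩
  have ho : orderOf a = 3 := orderOf_eq_prime (C.exp_Q a ha) fun h => hn (h ▸ one_mem H)
  have hnor : zpowers a ≤ normalizer (H : Set G) := zpowers_le.2 <| mem_normalizer_iff.2 fun b => by
    constructor
    · intro hb; rw [(hc b hb).eq, mul_inv_cancel_right]; exact hb
    · intro hb
      have := hc _ hb
      rw [show b = a⁻¹ * (a * b * a⁻¹) * a by group, mul_assoc, ← this.eq, inv_mul_cancel_left]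
      exact hb
  have hd : H ⊓ zpowers a = ⊥ := by
    refine (eq_bot_iff_forall _).2 fun b hb => ?_
    by_contra h
    refine hn ?_
    have hz : zpowers b = zpowers a := eq_of_le_of_card_ge (zpowers_le.2 hb.2) (by
      rw [Nat.card_zpowers, Nat.card_zpowers, ho, orderOf_eq_prime (C.exp_Q b (hH hb.1)) h])
    exact (zpowers_le.2 hb.1 : zpowers b ≤ H) (hz.symm ▸ mem_zpowers a)
  let f : H × zpowers a → ↥(H ⊔ zpowers a) := fun p =>
    ⟨p.1 * p.2, mul_mem (mem_sup_left p.1.2) (mem_sup_right p.2.2)⟩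
  have hb : Function.Bijective f := by
    constructor
    · rintro ⟨b, c⟩ ⟨b', c'⟩ e
      have e' : (b : G) * c = b' * c' := congrArg Subtype.val e
      have h1 : (b' : G)⁻¹ * b = c' * (c : G)⁻¹ := by
        rw [eq_mul_inv_iff_mul_eq, mul_assoc, e', inv_mul_cancel_left]
      have h2 : (b' : G)⁻¹ * b = 1 := by
        have : (b' : G)⁻¹ * b ∈ H ⊓ zpowers a :=
          mem_inf.2 ⟨mul_mem (inv_mem b'.2) b.2, h1 ▸ mul_mem c'.2 (inv_mem c.2)⟩
        rwa [hd, mem_bot] at this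
      have hb' : b = b' := Subtype.ext (inv_mul_eq_one.1 h2).symm
      subst hb'
      exact Prod.ext rfl (Subtype.ext (mul_left_cancel e'))
    · rintro ⟨x, hx⟩
      rw [← SetLike.mem_coe, coe_mul_of_right_le_normalizer_left _ _ hnor] at hx
      obtain ⟨b, hb, c, hc', rfl⟩ := hx
      exact ⟨(⟨b, hb⟩, ⟨c, hc'⟩), rfl⟩
  rw [← Nat.card_eq_of_bijective f hb, Nat.card_prod, Nat.card_zpowers, ho, mul_comm]

theorem abel_le {H : Subgroup G} (hH : H ≤ C.Q) (hc : ∀ a ∈ H, ∀ b ∈ H, Commute a b) : Nat.card H ≤ 27 := by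
  haveI : Fact (Nat.Prime 3) := ⟨Nat.prime_three⟩
  obtain ⟨k, hk⟩ := IsPGroup.iff_card.1 (C.isPGroup_Q.to_le hH)
  rw [hk]
  by_contra hbig
  have hk4 : 4 ≤ k := by
    by_contra h
    have := Nat.pow_le_pow_right (show 0 < 3 by norm_num) (show k ≤ 3 by omega)
    omega
  have h81 : 81 ≤ Nat.card H := hk ▸ le_trans (by norm_num) (Nat.pow_le_pow_right (show 0 < 3 by norm_num) hk4)
  have key : ∀ a ∈ H, a ∉ zpowers C.z → C.Q ⊓ centralizer ({a} : Set G) = H := fun a ha hn =>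
    (eq_of_le_of_card_ge (show H ≤ C.Q ⊓ centralizer ({a} : Set G) from fun b hb =>
      mem_inf.2 ⟨hH hb, mem_centralizer_singleton_iff.2 (hc b hb a ha).eq⟩)
      (by rw [C.card_inf_centralizer (hH ha) hn]; exact h81)).symm
  -- outside the centre pick two independent elements
  obtain ⟨a, ha, han⟩ : ∃ a ∈ H, a ∉ zpowers C.z := by
    by_contra h
    push Not at h
    have := card_le_of_le h
    rw [C.card_Z] at this
    omega
  have h9 := C.card_sup_zpowers (hH ha) C.Z_le_Q (fun b hb => C.commute_zpow (C.Q_le (hH ha)) hb) han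
  rw [C.card_Z] at h9
  obtain ⟨b, hb, hbn⟩ : ∃ b ∈ H, b ∉ zpowers C.z ⊔ zpowers a := by
    by_contra h
    push Not at h
    have := card_le_of_le h
    rw [h9] at this
    omega
  obtain ⟨d, hd, hdH⟩ : ∃ d ∈ C.Q, d ∉ H := by
    by_contra h
    push Not at h
    refine han (C.center_Q a (hH ha) fun q hq => (hc a ha q (h q hq)).eq)
  have hne : ⁅d, a⁆ ≠ 1 := fun h => hdH <| key a ha han ▸
    ⟨hd, mem_centralizer_singleton_iff.2 (commutatorElement_eq_one_iff_mul_comm.1 h)⟩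
  have hgen : zpowers ⁅d, a⁆ = zpowers C.z := eq_of_le_of_card_ge (zpowers_le.2 (C.comm_mem _ hd _ (hH ha))) (by
    rw [C.card_Z, Nat.card_zpowers, orderOf_eq_prime (C.exp_Q _ (C.Z_le_Q (C.comm_mem _ hd _ (hH ha)))) hne])
  obtain ⟨k, hk'⟩ := mem_zpowers_iff.1 (hgen.symm ▸ inv_mem (C.comm_mem _ hd _ (hH hb)) :
    ⁅d, b⁆⁻¹ ∈ zpowers ⁅d, a⁆)
  have e : ∀ n : ℤ, ⁅d, a ^ n⁆ = ⁅d, a⁆ ^ n := fun n => by
    have := congrArg Subtype.val (map_zpow (C.bracketHom hd) ⟨a, hH ha⟩ n)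
    have e' : ⁅a ^ n, d⁆ = ⁅a, d⁆ ^ n := by simpa [Conf.bracketHom] using this
    rw [← commutatorElement_inv, e', ← inv_zpow, commutatorElement_inv]
  have hm : b * a ^ k ∉ zpowers C.z := fun h => hbn (by
    have := mul_mem (mem_sup_left h : b * a ^ k ∈ zpowers C.z ⊔ zpowers a)
      (inv_mem (zpow_mem (mem_sup_right (mem_zpowers a)) k))
    rwa [mul_inv_cancel_right] at this)
  refine hdH (key _ (mul_mem hb (zpow_mem ha k)) hm ▸ ⟨hd, mem_centralizer_singleton_iff.2 ?_⟩)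
  refine commutatorElement_eq_one_iff_mul_comm.1 ?_
  rw [C.bracket_mul_right hd (hH hb) (zpow_mem (hH ha) k), e, hk', mul_inv_cancel]

/-- An element of a 3-subgroup moving a member of `W` modulo the centre fixes only one line there. -/
theorem fix_W {s a : G} (hs : s ∈ C.Cz) {w : G} (hw : w ∈ C.W) (hwn : w ∉ zpowers C.z)
    (hsw : Commute s w) (hmove : ∃ q ∈ C.W, ⁅s, q⁆⁻¹ * w ∈ zpowers C.z)
    (ha : a ∈ C.W) (hsa : ⁅s, a⁆ ∈ zpowers C.z) : a ∈ zpowers C.z ⊔ zpowers w := by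
  obtain ⟨q, hq, hqw⟩ := hmove
  by_contra hn
  let K : Subgroup G :=
    { carrier := {a | a ∈ C.W ∧ ⁅s, a⁆ ∈ zpowers C.z}
      mul_mem' := fun {a b} ha hb => ⟨mul_mem ha.1 hb.1, by
        rw [show ⁅s, a * b⁆ = ⁅s, a⁆ * (a * ⁅s, b⁆ * a⁻¹) by simp only [commutatorElement_def]; group,
          C.fix_Z (C.Q_le ha.1.1) hb.2]
        exact mul_mem ha.2 hb.2⟩
      one_mem' := ⟨one_mem _, by simp⟩
      inv_mem' := fun {a} ha => ⟨inv_mem ha.1, by
        rw [show ⁅s, a⁻¹⁆ = a⁻¹ * ⁅s, a⁆⁻¹ * a⁻¹⁻¹ by simp only [commutatorElement_def]; group,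
          C.fix_Z (inv_mem (C.Q_le ha.1.1)) (inv_mem ha.2)]
        exact inv_mem ha.2⟩ }
  have hZK : zpowers C.z ≤ K := fun c hc => ⟨C.Z_le_W hc, by
    rw [commutatorElement_eq_one_iff_commute.2 (C.commute_zpow hs hc)]; exact one_mem _⟩
  have hwK : w ∈ K := ⟨hw, by rw [commutatorElement_eq_one_iff_commute.2 hsw]; exact one_mem _⟩
  have hle : zpowers C.z ⊔ zpowers w < K := lt_of_le_of_ne (sup_le hZK (zpowers_le.2 hwK))
    fun e => hn (e ▸ ⟨ha, hsa⟩)
  have h9 := C.card_sup_zpowers hw.1 C.Z_le_Q (fun b hb => C.commute_zpow (C.Q_le hw.1) hb) hwn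
  rw [C.card_Z] at h9
  have h1 : Nat.card ↥(zpowers C.z ⊔ zpowers w) < Nat.card K := Set.Finite.card_lt_card (Set.toFinite _) hle
  have hKW : K ≤ C.W := fun _ h => h.1
  haveI : Fact (Nat.Prime 3) := ⟨Nat.prime_three⟩
  obtain ⟨k, hk⟩ := IsPGroup.iff_card.1 (C.isPGroup_Q.to_le (hKW.trans C.W_le))
  rw [h9, hk] at h1
  have hk3 : 3 ≤ k := by
    by_contra h
    have := Nat.pow_le_pow_right (show 0 < 3 by norm_num) (show k ≤ 2 by omega)
    omega
  have hK : K = C.W := eq_of_le_of_card_ge hKW (by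
    rw [C.card_W, hk]; exact le_trans (by norm_num) (Nat.pow_le_pow_right (show 0 < 3 by norm_num) hk3))
  have hqK : q ∈ K := hK ▸ hq
  exact hwn (by
    have := mul_mem hqK.2 hqw
    rwa [mul_inv_cancel_left] at this)

theorem fix_U {s a : G} (hs : s ∈ C.Cz) {u : G} (hu : u ∈ C.U) (hun : u ∉ zpowers C.z)
    (hsu : Commute s u) (hmove : ∃ q ∈ C.U, ⁅s, q⁆⁻¹ * u ∈ zpowers C.z)
    (ha : a ∈ C.U) (hsa : ⁅s, a⁆ ∈ zpowers C.z) : a ∈ zpowers C.z ⊔ zpowers u := by
  obtain ⟨q, hq, hqu⟩ := hmove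
  by_contra hn
  let K : Subgroup G :=
    { carrier := {a | a ∈ C.U ∧ ⁅s, a⁆ ∈ zpowers C.z}
      mul_mem' := fun {a b} ha hb => ⟨mul_mem ha.1 hb.1, by
        rw [show ⁅s, a * b⁆ = ⁅s, a⁆ * (a * ⁅s, b⁆ * a⁻¹) by simp only [commutatorElement_def]; group,
          C.fix_Z (C.Q_le ha.1.1) hb.2]
        exact mul_mem ha.2 hb.2⟩
      one_mem' := ⟨one_mem _, by simp⟩
      inv_mem' := fun {a} ha => ⟨inv_mem ha.1, by
        rw [show ⁅s, a⁻¹⁆ = a⁻¹ * ⁅s, a⁆⁻¹ * a⁻¹⁻¹ by simp only [commutatorElement_def]; group,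
          C.fix_Z (inv_mem (C.Q_le ha.1.1)) (inv_mem ha.2)]
        exact inv_mem ha.2⟩ }
  have hZK : zpowers C.z ≤ K := fun c hc => ⟨C.Z_le_U hc, by
    rw [commutatorElement_eq_one_iff_commute.2 (C.commute_zpow hs hc)]; exact one_mem _⟩
  have huK : u ∈ K := ⟨hu, by rw [commutatorElement_eq_one_iff_commute.2 hsu]; exact one_mem _⟩
  have hle : zpowers C.z ⊔ zpowers u < K := lt_of_le_of_ne (sup_le hZK (zpowers_le.2 huK))
    fun e => hn (e ▸ ⟨ha, hsa⟩)
  have h9 := C.card_sup_zpowers hu.1 C.Z_le_Q (fun b hb => C.commute_zpow (C.Q_le hu.1) hb) hun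
  rw [C.card_Z] at h9
  have h1 : Nat.card ↥(zpowers C.z ⊔ zpowers u) < Nat.card K := Set.Finite.card_lt_card (Set.toFinite _) hle
  have hKU : K ≤ C.U := fun _ h => h.1
  haveI : Fact (Nat.Prime 3) := ⟨Nat.prime_three⟩
  obtain ⟨k, hk⟩ := IsPGroup.iff_card.1 (C.isPGroup_Q.to_le (hKU.trans C.U_le))
  rw [h9, hk] at h1
  have hk3 : 3 ≤ k := by
    by_contra h
    have := Nat.pow_le_pow_right (show 0 < 3 by norm_num) (show k ≤ 2 by omega)
    omega
  have hK : K = C.U := eq_of_le_of_card_ge hKU (by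
    rw [C.card_U, hk]; exact le_trans (by norm_num) (Nat.pow_le_pow_right (show 0 < 3 by norm_num) hk3))
  have hqK : q ∈ K := hK ▸ hq
  exact hun (by
    have := mul_mem hqK.2 hqu
    rwa [mul_inv_cancel_left] at this)

end Conf

namespace Frame

variable {G : Type*} [Group G] [Finite G] (F : Frame G)
include F

/-- The part of the torus in the core. -/
def B : Subgroup G := zpowers F.z ⊔ zpowers F.w ⊔ zpowers F.u

/-- The torus. -/
def A : Subgroup G := closure ({F.z, F.w, F.u, F.s} : Set G)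

theorem s_Cz : F.s ∈ F.toPair.toConf.Cz := F.s_mem.2

theorem w_Q : F.w ∈ F.Q := F.w_mem.1

theorem u_Q : F.u ∈ F.Q := F.u_mem.1

theorem s_order : F.s ^ 3 = 1 := F.toPair.D.exp_Q _ F.s_mem.1

theorem gens_comm : ∀ a ∈ ({F.z, F.w, F.u, F.s} : Set G), ∀ b ∈ ({F.z, F.w, F.u, F.s} : Set G),
    a * b = b * a := by
  rintro a (rfl | rfl | rfl | rfl) b (rfl | rfl | rfl | rfl)
  all_goals first
    | rfl
    | exact (F.toPair.toConf.commute_z (F.Q_le F.w_Q)).eq
    | exact (F.toPair.toConf.commute_z (F.Q_le F.w_Q)).symm.eq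
    | exact (F.toPair.toConf.commute_z (F.Q_le F.u_Q)).eq
    | exact (F.toPair.toConf.commute_z (F.Q_le F.u_Q)).symm.eq
    | exact (F.toPair.toConf.commute_z F.s_Cz).eq
    | exact (F.toPair.toConf.commute_z F.s_Cz).symm.eq
    | exact (F.toPair.toConf.commute_WU F.w_mem F.u_mem).eq
    | exact (F.toPair.toConf.commute_WU F.w_mem F.u_mem).symm.eq
    | exact F.s_w.eq
    | exact F.s_w.symm.eq
    | exact F.s_u.eq
    | exact F.s_u.symm.eq

theorem A_comm {a b : G} (ha : a ∈ F.A) (hb : b ∈ F.A) : Commute a b := by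
  haveI := Subgroup.isMulCommutative_closure F.gens_comm
  exact congrArg Subtype.val (mul_comm' (⟨a, ha⟩ : closure ({F.z, F.w, F.u, F.s} : Set G)) ⟨b, hb⟩)

theorem A_exp {a : G} (ha : a ∈ F.A) : a ^ 3 = 1 := by
  induction ha using closure_induction with
  | mem x hx =>
    rcases hx with rfl | rfl | rfl | rfl
    exacts [F.toPair.toConf.z3, F.exp_Q _ F.w_Q, F.exp_Q _ F.u_Q, F.s_order]
  | one => exact one_pow 3
  | mul x y hx hy h1 h2 => rw [(F.A_comm hx hy).mul_pow, h1, h2, one_mul]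
  | inv x _ h => rw [inv_pow, h, inv_one]

theorem B_le_A : F.B ≤ F.A :=
  sup_le (sup_le (zpowers_le.2 (subset_closure (by simp))) (zpowers_le.2 (subset_closure (by simp))))
    (zpowers_le.2 (subset_closure (by simp)))

theorem s_mem_A : F.s ∈ F.A := subset_closure (by simp)

theorem B_le_Q : F.B ≤ F.Q :=
  sup_le (sup_le F.toPair.toConf.Z_le_Q (zpowers_le.2 F.w_Q)) (zpowers_le.2 F.u_Q)

theorem card_B : Nat.card F.B = 27 := by
  have h1 := F.toPair.toConf.card_sup_zpowers F.w_Q F.toPair.toConf.Z_le_Q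
    (fun b hb => F.toPair.toConf.commute_zpow (F.Q_le F.w_Q) hb) F.w_not
  have hle : zpowers F.z ⊔ zpowers F.w ≤ F.toPair.toConf.W :=
    sup_le F.toPair.toConf.Z_le_W (zpowers_le.2 F.w_mem)
  have h2 := F.toPair.toConf.card_sup_zpowers F.u_Q (hle.trans F.toPair.toConf.W_le)
    (fun b hb => F.A_comm (subset_closure (by simp)) (F.B_le_A (mem_sup_left hb)))
    fun h => F.u_not (F.toPair.toConf.inf_WU (hle h) F.u_mem)
  rw [F.toPair.toConf.card_Z] at h1
  rw [h1] at h2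
  exact h2

theorem A_le_Cz : F.A ≤ F.toPair.toConf.Cz := by
  refine (closure_le _).2 ?_
  rintro x (rfl | rfl | rfl | rfl)
  exacts [F.Q_le F.z_mem, F.Q_le F.w_Q, F.Q_le F.u_Q, F.s_Cz]

theorem y_mem_A : F.toPair.y ∈ F.A := by
  show F.g * F.z * F.g⁻¹ ∈ F.A
  rw [F.y_eq]
  exact mul_mem (subset_closure (by simp)) (subset_closure (by simp))

theorem A_le_D : F.A ≤ F.toPair.D.Cz := fun _ ha =>
  mem_centralizer_singleton_iff.2 (F.A_comm ha F.y_mem_A).eq

theorem isPGroup_A : IsPGroup 3 F.A := fun a => ⟨1, Subtype.ext (by simpa using F.A_exp a.2)⟩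

/-- The fixed elements of `s` in the core, modulo the centre. -/
theorem mem_B_of {a : G} (ha : a ∈ F.Q) (h : ⁅F.s, a⁆ ∈ zpowers F.z) : a ∈ F.B := by
  obtain ⟨a1, h1, a2, h2, rfl⟩ := F.toPair.toConf.split ha
  have hs := F.s_Cz
  have hb1 : ⁅F.s, a1⁆ ∈ F.toPair.toConf.W := by
    rw [commutatorElement_def]; exact mul_mem (F.toPair.toConf.conjW hs h1) (inv_mem h1)
  have hb2 : ⁅F.s, a2⁆ ∈ F.toPair.toConf.U := by
    rw [commutatorElement_def]; exact mul_mem (F.toPair.toConf.conjU hs h2) (inv_mem h2)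
  rw [show ⁅F.s, a1 * a2⁆ = ⁅F.s, a1⁆ * (a1 * ⁅F.s, a2⁆ * a1⁻¹) by simp only [commutatorElement_def]; group,
    (F.toPair.toConf.commute_WU h1 hb2).eq, mul_inv_cancel_right] at h
  obtain ⟨e1, e2⟩ := F.toPair.toConf.split_unique (one_mem _) hb1 (one_mem _) hb2
    (by rwa [one_mul, inv_one, one_mul])
  rw [inv_one, one_mul] at e1 e2
  refine mul_mem ?_ ?_
  · exact mem_sup_left (F.toPair.toConf.fix_W hs F.w_mem F.w_not F.s_w F.s_pre_w h1 e1)
  · have := F.toPair.toConf.fix_U hs F.u_mem F.u_not F.s_u F.s_pre_u h2 e2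
    exact (sup_le (le_sup_left.trans le_sup_left) le_sup_right : zpowers F.z ⊔ zpowers F.u ≤ F.B) this

theorem A_inf_Q : F.A ⊓ F.Q = F.B := le_antisymm
  (fun a ha => F.mem_B_of ha.2 (by
    rw [commutatorElement_eq_one_iff_commute.2 (F.A_comm F.s_mem_A ha.1)]; exact one_mem _))
  fun a ha => ⟨F.B_le_A ha, F.B_le_Q ha⟩

theorem card_A : Nat.card F.A = 81 := by
  have h : ∀ a ∈ F.A, ∃ k : ℤ, ∃ b ∈ F.B, a = b * F.s ^ k := fun a ha => by
    obtain ⟨k, q, hq, rfl⟩ := F.toPair.toConf.exists_zpow F.A_le_Cz F.isPGroup_A F.s_mem_A ha F.s_not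
    have hqA : q ∈ F.A := by simpa using mul_mem ha (inv_mem (zpow_mem F.s_mem_A k))
    exact ⟨k, q, F.A_inf_Q ▸ ⟨hqA, hq⟩, rfl⟩
  haveI : Fact (Nat.Prime 3) := ⟨Nat.prime_three⟩
  have hsub : (F.A : Set G) ⊆ (fun p : F.B × zpowers F.s => (p.1 : G) * p.2) '' Set.univ := fun a ha => by
    obtain ⟨k, b, hb, rfl⟩ := h a ha
    exact ⟨(⟨b, hb⟩, ⟨F.s ^ k, zpow_mem_zpowers _ k⟩), trivial, rfl⟩
  have hle := (Set.ncard_le_ncard hsub (Set.toFinite _)).trans (Set.ncard_image_le (Set.toFinite _))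
  rw [← Nat.card_coe_set_eq, Set.ncard_univ, Nat.card_prod, F.card_B, Nat.card_zpowers] at hle
  have hs3 : orderOf F.s = 3 := orderOf_eq_prime F.s_order fun e => F.s_not (e ▸ one_mem _)
  rw [hs3] at hle
  change Nat.card F.A ≤ 27 * 3 at hle
  have hlt : Nat.card F.B < Nat.card F.A := Set.Finite.card_lt_card (Set.toFinite _)
    (lt_of_le_of_ne F.B_le_A fun e => F.s_not (F.B_le_Q ((SetLike.coe_injective e).symm ▸ F.s_mem_A : F.s ∈ F.B)))
  obtain ⟨k, hk⟩ := IsPGroup.iff_card.1 F.isPGroup_A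
  rw [F.card_B] at hlt
  rw [hk] at hlt hle ⊢
  have hk4 : 4 ≤ k := by
    by_contra h'
    have := Nat.pow_le_pow_right (show 0 < 3 by norm_num) (show k ≤ 3 by omega)
    omega
  have := Nat.pow_le_pow_right (show 0 < 3 by norm_num) hk4
  omega

/-- The Sylow subgroup of the centraliser through `s`. -/
def S : Subgroup G := F.Q ⊔ zpowers F.s

theorem S_le : F.S ≤ F.toPair.toConf.Cz := sup_le F.Q_le (zpowers_le.2 F.s_Cz)

theorem isPGroup_S : IsPGroup 3 F.S :=
  F.toPair.toConf.isPGroup_Q.to_sup_of_normal_left'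
    (fun a => ⟨1, Subtype.ext (by
      obtain ⟨k, hk⟩ := mem_zpowers_iff.1 a.2
      simp only [pow_one, SubgroupClass.coe_pow, OneMemClass.coe_one, ← hk]
      rw [← zpow_natCast, ← zpow_mul, mul_comm, zpow_mul, zpow_natCast, F.s_order, one_zpow])⟩)
    ((zpowers_le.2 F.s_Cz).trans F.toPair.toConf.Cz_le_normalizer)

theorem A_le_S : F.A ≤ F.S := by
  refine (closure_le _).2 ?_
  rintro x (rfl | rfl | rfl | rfl)
  exacts [mem_sup_left F.z_mem, mem_sup_left F.w_Q, mem_sup_left F.u_Q, mem_sup_right (mem_zpowers _)]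

/-- Every abelian subgroup of order 81 of a 3-subgroup of the centraliser containing `s` is the torus. -/
theorem unique {P H : Subgroup G} (hP : P ≤ F.toPair.toConf.Cz) (hp : IsPGroup 3 P) (hsP : F.s ∈ P)
    (hH : H ≤ P) (hc : ∀ a ∈ H, ∀ b ∈ H, Commute a b) (h81 : 81 ≤ Nat.card H) : H = F.A := by
  obtain ⟨h, hh, hhQ⟩ : ∃ h ∈ H, h ∉ F.Q := by
    by_contra hn
    push Not at hn
    have := F.toPair.toConf.abel_le hn hc
    omega
  obtain ⟨k, q, hq, hhq⟩ := F.toPair.toConf.exists_zpow hP hp (hH hh) hsP hhQ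
  -- every element of `H` in the core commutes with `s` modulo the centre
  have hHB : ∀ a ∈ H, a ∈ F.Q → a ∈ F.B := fun a ha haQ => F.mem_B_of haQ (by
    rw [hhq, show ⁅q * h ^ k, a⁆ = q * ⁅h ^ k, a⁆ * q⁻¹ * ⁅q, a⁆ by simp only [commutatorElement_def]; group,
      commutatorElement_eq_one_iff_commute.2 ((hc h hh a ha).zpow_left k), mul_one, mul_inv_cancel, one_mul]
    exact F.comm_mem _ hq _ haQ)
  haveI : Fact (Nat.Prime 3) := ⟨Nat.prime_three⟩
  have hB : F.B ≤ H := by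
    have hsub : (H : Set G) ⊆ (fun p : ↥(H ⊓ F.Q) × Finset.range 3 => (p.1 : G) * h ^ (p.2 : ℕ)) '' Set.univ := by
      intro a ha
      obtain ⟨j, q', hq', rfl⟩ := F.toPair.toConf.exists_zpow hP hp (hH hh) (hH ha) hhQ
      have hh3 : h ^ 3 ∈ F.Q := by
        obtain ⟨m, c, hc', e⟩ := F.toPair.toConf.exists_zpow hP hp hsP (hH hh) F.s_not
        have hsm : (F.s ^ m) ^ 3 = 1 := by
          rw [← zpow_natCast, ← zpow_mul, mul_comm, zpow_mul, zpow_natCast, F.s_order, one_zpow]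
        have hs' : F.s ^ m ∈ F.toPair.toConf.Cz := zpow_mem F.s_Cz m
        rw [e, show (c * F.s ^ m) ^ 3 = c * (F.s ^ m * c * (F.s ^ m)⁻¹) *
          ((F.s ^ m * F.s ^ m) * c * (F.s ^ m * F.s ^ m)⁻¹) * (F.s ^ m) ^ 3 by
            simp only [pow_succ, pow_zero, one_mul]; group, hsm, mul_one]
        exact mul_mem (mul_mem hc' (F.normal _ hs' _ hc')) (F.normal _ (mul_mem hs' hs') _ hc')
      have ej : q' * h ^ j = (q' * (h ^ 3) ^ (j / 3)) * h ^ ((j % 3).toNat) := by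
        rw [mul_assoc, ← zpow_natCast (n := 3), ← zpow_natCast (n := (j % 3).toNat),
          Int.toNat_of_nonneg (Int.emod_nonneg _ (by norm_num)), ← zpow_mul, ← zpow_add]
        congr 2
        push_cast
        omega
      refine ⟨(⟨q' * (h ^ 3) ^ (j / 3), ?_, mul_mem hq' (zpow_mem hh3 _)⟩,
        ⟨(j % 3).toNat, Finset.mem_range.2 (by
          have := Int.emod_lt_of_pos j (show (0 : ℤ) < 3 by norm_num)
          omega)⟩), trivial, ej.symm⟩
      have := mul_mem ha (inv_mem (pow_mem hh (j % 3).toNat))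
      rwa [ej, mul_inv_cancel_right] at this
    have h1 := (Set.ncard_le_ncard hsub (Set.toFinite _)).trans (Set.ncard_image_le (Set.toFinite _))
    rw [← Nat.card_coe_set_eq, Set.ncard_univ, Nat.card_prod, Nat.card_eq_fintype_card (α := Finset.range 3),
      Fintype.card_coe, Finset.card_range] at h1
    change Nat.card H ≤ _ at h1
    have hle : H ⊓ F.Q ≤ F.B := fun a ha => hHB a ha.1 ha.2
    have heq : H ⊓ F.Q = F.B := eq_of_le_of_card_ge hle (by rw [F.card_B]; omega)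
    exact heq ▸ inf_le_left
  -- so every element of `H` centralises `B`
  have hA : ∀ a ∈ H, a ∈ F.A := by
    intro a ha
    by_cases haQ : a ∈ F.Q
    · exact F.B_le_A (hHB a ha haQ)
    obtain ⟨j, c, hc', e⟩ := F.toPair.toConf.exists_zpow hP hp hsP (hH ha) F.s_not
    have hcB : ∀ b ∈ F.B, Commute c b := fun b hb => by
      have h1 : Commute a b := hc a ha b (hB hb)
      have h2 : Commute (F.s ^ j) b := (F.A_comm F.s_mem_A (F.B_le_A hb)).zpow_left j
      rw [show c = a * (F.s ^ j)⁻¹ by rw [e, mul_inv_cancel_right]]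
      exact h1.mul_left h2.inv_left
    have hcB' : c ∈ F.B := by
      by_contra hn
      have h3 := F.toPair.toConf.card_sup_zpowers hc' F.B_le_Q hcB hn
      have h4 := F.toPair.toConf.abel_le (H := F.B ⊔ zpowers c) (sup_le F.B_le_Q (zpowers_le.2 hc')) ?_
      · rw [h3, F.card_B] at h4; omega
      · have hcc : ∀ x ∈ (F.B : Set G) ∪ {c}, ∀ y ∈ (F.B : Set G) ∪ {c}, x * y = y * x := by
          rintro x (hx | rfl) y (hy | rfl)
          exacts [(F.A_comm (F.B_le_A hx) (F.B_le_A hy)).eq, ((hcB x hx).symm).eq, (hcB y hy).eq, rfl]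
        intro x hx y hy
        haveI := Subgroup.isMulCommutative_closure hcc
        have hle : F.B ⊔ zpowers c ≤ closure ((F.B : Set G) ∪ {c}) :=
          sup_le (fun b hb => subset_closure (Or.inl hb)) (zpowers_le.2 (subset_closure (Or.inr rfl)))
        exact congrArg Subtype.val (mul_comm' (⟨x, hle hx⟩ : closure ((F.B : Set G) ∪ {c})) ⟨y, hle hy⟩)
    rw [e]
    exact mul_mem (F.B_le_A hcB') (zpow_mem F.s_mem_A j)
  exact eq_of_le_of_card_ge hA (by rw [F.card_A]; exact h81)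

end Frame

end Cfsg.Agent.O8Three
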