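import Cfsg.Agent.Lib.O8Three.Step
import Cfsg.Agent.Lib.O8Three.Torus
import Cfsg.Agent.Lib.Transfer.Basic
import Cfsg.Prelude.Def_Solvable

/-!
S3372, start: the configuration from the hypotheses of the statement.
-/

set_option autoImplicit false
set_option linter.style.haveILetI false
set_option linter.unusedSectionVars false

namespace Cfsg.Agent.O8Three

open Subgroup
open Cfsg.Agent.HeisSLThree (SL₂)
open scoped commutatorElement

theorem sl_three_conj : ∀ s x : SL₂, s * s * s = 1 → s ≠ 1 → x * x * x = 1 →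
    x = 1 ∨ ∃ g : SL₂, x = g * s * g⁻¹ ∨ x = g * (s * s) * g⁻¹ := by decide +kernel

theorem prod_ext {A B : Type*} [Group A] [Group B] (h : ∀ b b' : B, b * b' = b' * b) {q : A × B} {c : A × B}
    (hq : ∀ a : A, a * q.1 = q.1 * a) : c * q = q * c := Prod.ext (hq _) (h _ _)

/-- The homomorphism to `SL(2,3)` from either shape of the quotient. -/
theorem exists_pi {X : Type*} [Group X] [Finite X]
    (e : Nonempty (X ≃* SL₂) ∨ Nonempty (X ≃* SL₂ × Multiplicative (ZMod 2))) :
    ∃ p : X →* SL₂, Function.Surjective p ∧ Nat.card X ∣ 48 ∧ (∀ x : X, x ^ 3 = 1 → p x = 1 → x = 1) ∧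
      (∀ x : X, x * x = 1 → ∀ c : X, c * x = x * c) ∧
      ∀ g : SL₂, ∃ x ∈ Cfsg.pResidual 2 X, p x = g ∧ ∀ x' ∈ Cfsg.pResidual 2 X, p x' = g → x' = x := by
  classical
  rcases e with ⟨⟨e⟩⟩ | ⟨⟨e⟩⟩
  · refine ⟨e.toMonoidHom, e.surjective, ?_, fun x _ h => e.map_eq_one_iff.1 h, fun x hx c => ?_, fun g => ?_⟩
    · rw [Nat.card_congr e.toEquiv, HeisSLThree.card_sl]; norm_num
    · refine e.injective ?_
      rcases HeisSLThree.sq_eq_one (e x) (by rw [← map_mul, hx, map_one]) with h | h <;>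
        rw [map_mul, map_mul, h]
      · rw [mul_one, one_mul]
      · exact HeisSLThree.neg_one_central _
    · have h3 : ∀ a : SL₂, a * a * a = 1 → e.symm a ∈ Cfsg.pResidual 2 X := fun a ha => by
        refine Subgroup.subset_closure ?_
        show Nat.Coprime (orderOf (e.symm a)) 2
        refine Nat.Coprime.coprime_dvd_left (orderOf_dvd_of_pow_eq_one (n := 3) ?_) (by norm_num)
        rw [← map_pow, pow_succ, pow_two, ha, map_one]
      obtain ⟨a, b, c, ha, hb, hc, rfl⟩ := L43Three.sl_pair g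
      exact ⟨e.symm (a * b * c), by rw [map_mul, map_mul]; exact mul_mem (mul_mem (h3 a ha) (h3 b hb)) (h3 c hc),
        e.apply_symm_apply _, fun x' _ hx' => by rw [← hx']; exact (e.symm_apply_apply x').symm⟩
  · have h2 : ∀ y : Multiplicative (ZMod 2), y * y = 1 := by decide
    have hres : ∀ x ∈ Cfsg.pResidual 2 X, (e x).2 = 1 := by
      intro x hx
      induction hx using Subgroup.closure_induction with
      | mem y hy =>
        have hy' : Nat.Coprime (orderOf y) 2 := hy
        have h1 : orderOf (e y).2 ∣ orderOf y := by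
          refine orderOf_dvd_of_pow_eq_one ?_
          rw [← Prod.pow_snd, ← map_pow, pow_orderOf_eq_one, map_one]
          rfl
        have h2' : orderOf (e y).2 ∣ 2 := orderOf_dvd_of_pow_eq_one (by rw [pow_two]; exact h2 _)
        exact orderOf_eq_one_iff.1 (Nat.eq_one_of_dvd_one (hy' ▸ Nat.dvd_gcd h1 h2'))
      | one => rw [map_one]; rfl
      | mul a b _ _ ha hb => rw [map_mul, Prod.snd_mul, ha, hb, one_mul]
      | inv a _ ha => rw [map_inv, Prod.snd_inv, ha, inv_one]
    refine ⟨(MonoidHom.fst _ _).comp e.toMonoidHom, Prod.fst_surjective.comp e.surjective, ?_, fun x hx h => ?_,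
      fun x hx c => ?_, fun g => ?_⟩
    · rw [Nat.card_congr e.toEquiv, Nat.card_prod, HeisSLThree.card_sl, Nat.card_eq_fintype_card]
      decide
    · refine e.map_eq_one_iff.1 (Prod.ext h ?_)
      have : (e x).2 ^ 3 = 1 := by rw [← Prod.pow_snd, ← map_pow, hx, map_one]; rfl
      rw [pow_succ, pow_two, h2, one_mul] at this
      exact this
    · refine e.injective ?_
      rw [map_mul, map_mul]
      refine prod_ext (fun a b => mul_comm a b) fun a => ?_
      rcases HeisSLThree.sq_eq_one (e x).1 (by rw [← Prod.fst_mul, ← map_mul, hx, map_one]; rfl) with h | h <;>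
        rw [h]
      · rw [mul_one, one_mul]
      · exact HeisSLThree.neg_one_central _
    · have h3 : ∀ a : SL₂, a * a * a = 1 → e.symm (a, 1) ∈ Cfsg.pResidual 2 X := fun a ha => by
        refine Subgroup.subset_closure ?_
        show Nat.Coprime (orderOf (e.symm (a, 1))) 2
        refine Nat.Coprime.coprime_dvd_left (orderOf_dvd_of_pow_eq_one (n := 3) ?_) (by norm_num)
        rw [← map_pow, pow_succ, pow_two]
        simp only [Prod.mk_mul_mk, ha, mul_one]
        exact map_one e.symm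
      obtain ⟨a, b, c, ha, hb, hc, rfl⟩ := L43Three.sl_pair g
      refine ⟨e.symm (a * b * c, 1), ?_, ?_, fun x' hx' hx'g => ?_⟩
      · rw [show ((a * b * c, 1) : SL₂ × Multiplicative (ZMod 2)) = (a, 1) * (b, 1) * (c, 1) by simp,
          map_mul, map_mul]
        exact mul_mem (mul_mem (h3 a ha) (h3 b hb)) (h3 c hc)
      · show (e (e.symm _)).1 = _
        rw [e.apply_symm_apply]
      · exact e.injective (by rw [e.apply_symm_apply]; exact Prod.ext hx'g (hres x' hx'))

set_option maxHeartbeats 1000000 in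
/-- The configuration and a second conjugate in the core. -/
theorem exists_pair {G : Type*} [Group G] [Finite G]
    (S : Sylow 3 G) (Z : Subgroup G) (hZ : Z = (S : Subgroup G) ⊓ Subgroup.centralizer ((S : Subgroup G) : Set G))
    (C : Subgroup G) (hCZ : C = Subgroup.centralizer (Z : Set G))
    (Q : Subgroup G) (hQ : Q = (Cfsg.pCore 3 C).map C.subtype)
    (hQex : Cfsg.IsExtraspecial 3 Q) (hQcard : Nat.card Q = 3 ^ 5) (hQexp : ∀ a ∈ Q, a ^ 3 = 1)
    (hCQ : Subgroup.centralizer (Q : Set G) ≤ Q)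
    (hZQ : ∃ x : G, Z.map (MulAut.conj x).toMonoidHom ≤ Q ∧ Z.map (MulAut.conj x).toMonoidHom ≠ Z)
    (K : Subgroup G) (hK : K = ((Cfsg.pResidual 2 (C ⧸ Cfsg.pCore 3 C)).comap (QuotientGroup.mk' (Cfsg.pCore 3 C))).map C.subtype)
    (r : ℕ) (A : Fin (r + 1) → Subgroup G) (hA0 : A 0 = Z) (hAr : A (Fin.last r) = Q)
    (hmono : ∀ i : Fin r, A i.castSucc < A i.succ)
    (hinv : ∀ i : Fin (r + 1), ∀ k ∈ K, ∀ a ∈ A i, k * a * k⁻¹ ∈ A i)
    (hmax : ∀ i : Fin r, ∀ B : Subgroup G, A i.castSucc < B → B < A i.succ → ∃ k ∈ K, ∃ b ∈ B, k * b * k⁻¹ ∉ B)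
    (e : Nonempty (C ⧸ Cfsg.pCore 3 C ≃* Matrix.SpecialLinearGroup (Fin 2) (ZMod 3)) ∨
      Nonempty (C ⧸ Cfsg.pCore 3 C ≃* Matrix.SpecialLinearGroup (Fin 2) (ZMod 3) × Multiplicative (ZMod 2)))
    (hone : ∃! i : Fin r, (∃ k ∈ K, ∃ a ∈ A i.succ, k * a * k⁻¹ * a⁻¹ ∉ A i.castSucc)) :
    ∃ P : Pair G, P.z ∈ Z ∧ P.Q = Q ∧ C = centralizer ({P.z} : Set G) ∧ P.t ∈ K ∧
      Nat.card C ∣ 243 * 48 ∧ 3 ^ 6 = Nat.card (S : Subgroup G) := by
  classical
  haveI : Fact (Nat.Prime 3) := ⟨Nat.prime_three⟩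
  obtain ⟨p, hpsurj, hp48, hp3, hpinv, hpres⟩ := exists_pi e
  -- `Z` and `Q`
  have hQC : Q ≤ C := hQ ▸ Subgroup.map_subtype_le _
  have hSC : (S : Subgroup G) ≤ C := by
    intro s hs
    rw [hCZ, mem_centralizer_iff]
    intro t ht
    rw [hZ] at ht
    exact (mem_centralizer_iff.1 ht.2 s hs).symm
  have hQS : Q ≤ (S : Subgroup G) := by
    rw [hQ]
    rintro _ ⟨x, hx, rfl⟩
    exact PBasic.pCore_le_sylow (S.subtype hSC) hx
  have hZQ' : Z ≤ Q := fun x hx => hCQ (mem_centralizer_iff.2 fun q hq => by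
    rw [hZ] at hx
    exact mem_centralizer_iff.1 hx.2 q (hQS hq))
  have hcenQ : Nat.card ((center Q).map Q.subtype) = 3 := by
    rw [card_map_of_injective Q.subtype_injective, hQex.2]
  have hZc : Z ≤ (center Q).map Q.subtype := fun x hx => by
    refine ⟨⟨x, hZQ' hx⟩, mem_center_iff.2 fun q => Subtype.ext ?_, rfl⟩
    rw [hZ] at hx
    exact mem_centralizer_iff.1 hx.2 q (hQS q.2)
  have hS1 : Nontrivial ↥(S : Subgroup G) := by
    have : Nat.card Q ≤ Nat.card (S : Subgroup G) := card_le_of_le hQS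
    exact Finite.one_lt_card_iff_nontrivial.1 (by omega)
  obtain ⟨⟨w, hw⟩, hwc, hw1⟩ := (Subgroup.nontrivial_iff_exists_ne_one _).1
    (S.2.center_nontrivial : Nontrivial (center (S : Subgroup G)))
  have hwZ : w ∈ Z := by
    rw [hZ]
    exact ⟨hw, mem_centralizer_iff.2 fun s hs => congrArg Subtype.val (mem_center_iff.1 hwc ⟨s, hs⟩)⟩
  obtain ⟨z, hz, hz1⟩ : ∃ z, z ∈ Z ∧ z ≠ 1 := ⟨w, hwZ, fun h => hw1 (Subtype.ext h)⟩
  have hzQ : z ∈ Q := hZQ' hz
  have hoz : orderOf z = 3 := orderOf_eq_prime (hQexp z hzQ) hz1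
  have hZeq : Z = zpowers z := by
    refine (eq_of_le_of_card_ge (zpowers_le.2 hz) ?_).symm
    rw [Nat.card_zpowers, hoz, ← hcenQ]
    exact card_le_of_le hZc
  have hcenZ : (center Q).map Q.subtype = zpowers z := by
    rw [← hZeq]
    exact (eq_of_le_of_card_ge hZc (by rw [hcenQ, hZeq, Nat.card_zpowers, hoz])).symm
  have hCeq : C = centralizer ({z} : Set G) := by
    rw [hCZ, hZeq, zpowers_eq_closure, centralizer_closure]
  subst hCeq
  have hcomm : ∀ a ∈ Q, ∀ b ∈ Q, ⁅a, b⁆ ∈ zpowers z := fun a ha b hb => by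
    rw [← hcenZ]
    refine ⟨⁅(⟨a, ha⟩ : Q), ⟨b, hb⟩⁆, ?_, rfl⟩
    rw [SetLike.mem_coe, ← hQex.1.2.2, _root_.commutator_def]
    exact commutator_mem_commutator (mem_top _) (mem_top _)
  haveI hcn : (Cfsg.pCore 3 (centralizer ({z} : Set G))).Normal := Cfsg.pCore_normal 3 _
  set mk := QuotientGroup.mk' (Cfsg.pCore 3 (centralizer ({z} : Set G))) with hmk
  have hmk1 : ∀ c, mk c = 1 ↔ (c : G) ∈ Q := fun c => by
    rw [hQ, ← mem_subgroupOf, subgroupOf, comap_map_eq_self_of_injective (subtype_injective _), hmk]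
    exact QuotientGroup.eq_one_iff c
  have hnor : ∀ c ∈ centralizer ({z} : Set G), ∀ q ∈ Q, c * q * c⁻¹ ∈ Q := fun c hc q hq => by
    refine (hmk1 (⟨c, hc⟩ * ⟨q, hQC hq⟩ * ⟨c, hc⟩⁻¹)).1 ?_
    rw [map_mul, map_mul, map_inv, (hmk1 ⟨q, hQC hq⟩).2 hq, mul_one, mul_inv_cancel]
  have hcard : Nat.card (centralizer ({z} : Set G)) ∣ 243 * 48 := by
    have h := Subgroup.card_eq_card_quotient_mul_card_subgroup (Cfsg.pCore 3 (centralizer ({z} : Set G)))
    rw [← card_map_of_injective (subtype_injective (centralizer ({z} : Set G))), ← hQ, hQcard] at h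
    rw [h, mul_comm 243 48]
    exact mul_dvd_mul hp48 (by norm_num)
  have h3le : ∀ P : Subgroup G, P ≤ centralizer ({z} : Set G) → IsPGroup 3 P → Nat.card P ∣ 729 := by
    intro P hP hp'
    obtain ⟨k, hk⟩ := IsPGroup.iff_card.1 hp'
    have h := (card_dvd_of_le hP).trans hcard
    rw [hk] at h ⊢
    have h2 : 3 ^ k ∣ 729 * 16 := by rwa [show 729 * 16 = 243 * 48 by norm_num]
    exact (Nat.Coprime.pow_left k (by norm_num : Nat.Coprime 3 16)).dvd_of_dvd_mul_right h2
  -- `K` and the homomorphism on it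
  have hKC : K ≤ centralizer ({z} : Set G) := hK ▸ map_subtype_le _
  have hmemK : ∀ c : centralizer ({z} : Set G), (c : G) ∈ K ↔ mk c ∈ Cfsg.pResidual 2 _ := fun c => by
    rw [hK, ← mem_subgroupOf, subgroupOf, comap_map_eq_self_of_injective (subtype_injective _)]
    rfl
  have hQK : Q ≤ K := fun q hq => (hmemK ⟨q, hQC hq⟩).2 (((hmk1 ⟨q, hQC hq⟩).2 hq).symm ▸ one_mem _)
  let zK : K := ⟨z, hQK hzQ⟩
  have hzK : ∀ k : K, k * zK = zK * k := fun k =>
    Subtype.ext (mem_centralizer_singleton_iff.1 (hKC k.2))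
  let ι : centralizer ({zK} : Set K) →* centralizer ({z} : Set G) :=
    (K.subtype.comp (centralizer ({zK} : Set K)).subtype).codRestrict _ fun k => hKC k.1.2
  let pk : centralizer ({zK} : Set K) →* SL₂ := (p.comp mk).comp ι
  have hpk : Function.Surjective pk := fun g => by
    obtain ⟨x, hx, hxg, -⟩ := hpres g
    obtain ⟨c, rfl⟩ := QuotientGroup.mk'_surjective _ x
    exact ⟨⟨⟨c, (hmemK c).2 hx⟩, mem_centralizer_singleton_iff.2 (hzK _)⟩, hxg⟩
  have hpker : ∀ x : centralizer ({zK} : Set K), pk x = 1 ↔ (x : K) ∈ Q.subgroupOf K := fun x => by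
    rw [mem_subgroupOf]
    refine ⟨fun h => (hmk1 (ι x)).1 ?_, fun h => ?_⟩
    · obtain ⟨y, -, -, hy2⟩ := hpres 1
      exact (hy2 _ ((hmemK (ι x)).1 x.1.2) h).trans (hy2 1 (one_mem _) (map_one p)).symm
    · show p (mk (ι x)) = 1
      rw [(hmk1 (ι x)).2 h, map_one]
  -- the involution
  obtain ⟨c, hc⟩ := hpk (-1)
  have hct : pk (c ^ 3) = -1 := by rw [map_pow, hc]; decide +kernel
  have ht2 : (c ^ 3 : centralizer ({zK} : Set K)) * c ^ 3 = 1 := by
    have hq : pk (c * c) = 1 := by rw [map_mul, hc]; decide +kernel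
    have h3 := hQexp _ (mem_subgroupOf.1 ((hpker _).1 hq))
    refine Subtype.ext (Subtype.ext ?_)
    rw [← pow_add, show (3 + 3 : ℕ) = 2 * 3 from rfl, pow_mul, pow_two]
    simpa using h3
  set cK : K := (c ^ 3 : centralizer ({zK} : Set K)).1 with hcK
  set t : G := (cK : G) with ht
  have htt : t * t = 1 := congrArg (fun x : centralizer ({zK} : Set K) => ((x : K) : G)) ht2
  have htK : t ∈ K := cK.2
  have htC : t ∈ centralizer ({z} : Set G) := hKC htK
  have htinv : t⁻¹ = t := inv_eq_of_mul_eq_one_right htt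
  have htQ : t ∉ Q := fun h => by
    have := (hpker (c ^ 3)).2 (mem_subgroupOf.2 h)
    rw [hct] at this
    exact HeisSLThree.neg_one_ne this
  have htz : ∀ a ∈ zpowers z, t * a * t⁻¹ = a := fun a ha => by
    obtain ⟨n, rfl⟩ := mem_zpowers_iff.1 ha
    rw [(Commute.zpow_right (show Commute t z from mem_centralizer_singleton_iff.1 htC) n).eq, mul_inv_cancel_right]
  have hsq1 : ∀ x ∈ Q, x * x = 1 → x = 1 := fun x hx h => by
    have h3 := hQexp x hx
    rwa [pow_succ, pow_two, h, one_mul] at h3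
  -- the steps
  have hmono' : StrictMono A := Fin.strictMono_iff_lt_succ.2 hmono
  have hAQ : ∀ i, A i ≤ Q := fun i => hAr ▸ hmono'.monotone (Fin.le_last _)
  have hZA : ∀ i, zpowers z ≤ A i := fun i => hZeq ▸ hA0 ▸ hmono'.monotone (Fin.zero_le _)
  have hstep : ∀ i : Fin r, (∃ a ∈ A i.succ, t * a * t⁻¹ * a⁻¹ ∉ A i.castSucc) →
      Nat.card (A i.succ) = 9 * Nat.card (A i.castSucc) ∧ ∀ a ∈ A i.succ, t * a * t⁻¹ * a ∈ A i.castSucc := by
    intro i hi
    have hle : ∀ j, A j ≤ K := fun j => (hAQ j).trans hQK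
    have h := step_nine (G := K) (z := zK) (Q := Q.subgroupOf K) pk hpk hpker
      (fun x _ => mem_centralizer_singleton_iff.2 (hzK x))
      (fun a ha => Subtype.ext (hQexp _ (mem_subgroupOf.1 ha)))
      (fun a ha b hb => by
        obtain ⟨n, hn⟩ := mem_zpowers_iff.1 (hcomm _ (mem_subgroupOf.1 ha) _ (mem_subgroupOf.1 hb))
        exact ⟨n, Subtype.ext (by simpa [zK, commutatorElement_def] using hn)⟩)
      (M := (A i.castSucc).subgroupOf K) (N := (A i.succ).subgroupOf K)
      (fun x hx => by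
        obtain ⟨n, rfl⟩ := mem_zpowers_iff.1 hx
        exact zpow_mem (mem_subgroupOf.2 (hZA _ (mem_zpowers z))) n)
      (lt_of_le_of_ne (fun x hx => (hmono i).le hx) fun h => (hmono i).ne (le_antisymm (hmono i).le fun x hx => by
        have : (⟨x, hle _ hx⟩ : K) ∈ (A i.castSucc).subgroupOf K := h ▸ hx
        exact this))
      (fun x hx => hAQ _ hx)
      (fun k _ a ha => hinv _ k k.2 a ha) (fun k _ a ha => hinv _ k k.2 a ha)
      (fun B hB1 hB2 => by
        have h1 : A i.castSucc < B.map K.subtype := by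
          refine lt_of_le_of_ne (fun x hx => ⟨⟨x, hle _ hx⟩, hB1.le hx, rfl⟩) fun h => hB1.ne (le_antisymm hB1.le ?_)
          intro x hx
          show (x : G) ∈ A i.castSucc
          rw [h]; exact ⟨x, hx, rfl⟩
        have h2 : B.map K.subtype < A i.succ := by
          refine lt_of_le_of_ne ?_ fun h => hB2.ne (le_antisymm hB2.le ?_)
          · rintro _ ⟨x, hx, rfl⟩; exact hB2.le hx
          · intro x hx
            have : (x : G) ∈ B.map K.subtype := by rw [h]; exact hx
            obtain ⟨y, hy, e⟩ := this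
            exact Subtype.ext e ▸ hy
        obtain ⟨k, hk, b, ⟨b', hb', rfl⟩, hn⟩ := hmax i (B.map K.subtype) h1 h2
        exact ⟨⟨k, hk⟩, mem_centralizer_singleton_iff.2 (hzK _), b', hb', fun h => hn ⟨_, h, rfl⟩⟩)
      (c ^ 3) hct (by
        obtain ⟨a, ha, hn⟩ := hi
        exact ⟨⟨a, hle _ ha⟩, ha, hn⟩)
    obtain ⟨h9, hinvs⟩ := h
    rw [Nat.card_congr (subgroupOfEquivOfLe (hle _)).toEquiv, Nat.card_congr (subgroupOfEquivOfLe (hle _)).toEquiv] at h9
    exact ⟨h9, fun a ha => hinvs ⟨a, hle _ ha⟩ ha⟩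
  obtain ⟨i0, hi0, huniq⟩ := hone
  have htriv : ∀ i : Fin r, i ≠ i0 → ∀ a ∈ A i.succ, t * a * t⁻¹ * a⁻¹ ∈ A i.castSucc := fun i hi a ha => by
    by_contra h
    exact hi (huniq i ⟨t, htK, a, ha, h⟩)
  -- the fixed subgroup
  let U : Subgroup G :=
    { carrier := {q | q ∈ Q ∧ t * q * t⁻¹ = q}
      mul_mem' := fun {a b} ha hb => ⟨mul_mem ha.1 hb.1, by
        rw [show t * (a * b) * t⁻¹ = t * a * t⁻¹ * (t * b * t⁻¹) by group, ha.2, hb.2]⟩
      one_mem' := ⟨one_mem _, by group⟩
      inv_mem' := fun {a} ha => ⟨inv_mem ha.1, by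
        rw [show t * a⁻¹ * t⁻¹ = (t * a * t⁻¹)⁻¹ by group, ha.2]⟩ }
  have hconj2 : ∀ q, t * (t * q * t⁻¹) * t⁻¹ = q := fun q => by
    rw [show t * (t * q * t⁻¹) * t⁻¹ = t * t * q * (t * t)⁻¹ by group, htt, inv_one, one_mul, mul_one]
  have hup : ∀ i : Fin r, i ≠ i0 → A i.castSucc ≤ U → A i.succ ≤ U := by
    intro i hi hU a ha
    refine ⟨hAQ _ ha, mul_inv_eq_one.1 (hsq1 _ (mul_mem (hnor t htC a (hAQ _ ha)) (inv_mem (hAQ _ ha))) ?_)⟩
    obtain ⟨m, hm⟩ : ∃ m, m = t * a * t⁻¹ * a⁻¹ := ⟨_, rfl⟩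
    have hmU : m ∈ U := hU (hm ▸ htriv i hi a ha)
    rw [← hm]
    have h1 : t * a * t⁻¹ = m * a := by rw [hm, inv_mul_cancel_right]
    have h2 : m * m * a = a := by
      conv_rhs => rw [← hconj2 a, h1, show t * (m * a) * t⁻¹ = t * m * t⁻¹ * (t * a * t⁻¹) by group, hmU.2, h1,
        ← mul_assoc]
    exact mul_eq_right.1 h2
  have hlow : ∀ j : Fin (r + 1), (j : ℕ) ≤ i0 → A j ≤ U := by
    intro j
    induction j using Fin.induction with
    | zero =>
      intro _
      rw [hA0, hZeq]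
      exact fun a ha => ⟨zpowers_le.2 hzQ ha, htz a ha⟩
    | succ j ih =>
      intro hj
      rw [Fin.val_succ] at hj
      exact hup j (fun h => by rw [h] at hj; omega) (ih (by rw [Fin.val_castSucc]; omega))
  have hUle : ∀ j : Fin (r + 1), U ⊓ A j ≤ A j := fun j => inf_le_right
  have hi0t : ∃ a ∈ A i0.succ, t * a * t⁻¹ * a⁻¹ ∉ A i0.castSucc := by
    by_contra hcon
    push Not at hcon
    have hall : ∀ i : Fin r, A i.castSucc ≤ U → A i.succ ≤ U := by
      intro i hU a ha
      refine ⟨hAQ _ ha, mul_inv_eq_one.1 (hsq1 _ (mul_mem (hnor t htC a (hAQ _ ha)) (inv_mem (hAQ _ ha))) ?_)⟩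
      obtain ⟨m, hm⟩ : ∃ m, m = t * a * t⁻¹ * a⁻¹ := ⟨_, rfl⟩
      have hmA : m ∈ A i.castSucc := by
        rw [hm]
        by_cases h : i = i0
        · subst h; exact hcon a ha
        · exact htriv i h a ha
      have hmU := hU hmA
      rw [← hm]
      have h1 : t * a * t⁻¹ = m * a := by rw [hm, inv_mul_cancel_right]
      have h2 : m * m * a = a := by
        conv_rhs => rw [← hconj2 a, h1, show t * (m * a) * t⁻¹ = t * m * t⁻¹ * (t * a * t⁻¹) by group, hmU.2, h1,
          ← mul_assoc]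
      exact mul_eq_right.1 h2
    have : A (Fin.last r) ≤ U := by
      have h : ∀ j : Fin (r + 1), A j ≤ U := by
        intro j
        induction j using Fin.induction with
        | zero => exact hlow 0 (Nat.zero_le _)
        | succ j ih => exact hall j ih
      exact h _
    rw [hAr] at this
    exact htQ (hCQ (mem_centralizer_iff.2 fun q hq => (mul_inv_eq_iff_eq_mul.1 (this hq).2).symm))
  obtain ⟨h9, hinv0⟩ := hstep i0 hi0t
  have hbase : U ⊓ A i0.succ = A i0.castSucc := by
    refine le_antisymm (fun a ha => ?_) (le_inf (hlow _ (by rw [Fin.val_castSucc])) (hmono i0).le)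
    have h := hinv0 a ha.2
    rw [ha.1.2] at h
    have e : a = (a * a) * (a * a) := by
      have h3 := hQexp a ha.1.1
      rw [pow_succ, pow_two] at h3
      rw [← mul_assoc, h3, one_mul]
    rw [e]; exact mul_mem h h
  have hQn : ∀ i, ∀ q ∈ Q, ∀ a ∈ A i, q * a * q⁻¹ ∈ A i := fun i q hq a ha => hinv i q (hQK hq) a ha
  have hprop : ∀ j : Fin (r + 1), (i0 : ℕ) < j → Nat.card (A j) = 9 * Nat.card ↥(U ⊓ A j) := by
    intro j
    induction j using Fin.induction with
    | zero => intro h; exact absurd h (by simp)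
    | succ j ih =>
      intro hj
      rw [Fin.val_succ] at hj
      rcases Nat.eq_or_lt_of_le (Nat.lt_succ_iff.1 hj) with heq | hlt
      · obtain rfl : i0 = j := Fin.ext heq
        rw [hbase]; exact h9
      have hji : j ≠ i0 := fun h => by rw [h] at hlt; exact lt_irrefl _ hlt
      have hih := ih (by rw [Fin.val_castSucc]; exact hlt)
      -- every member is fixed modulo the previous term
      have hsur : ∀ q ∈ A j.succ, ∃ a ∈ A j.castSucc, ∃ u ∈ U ⊓ A j.succ, q = a * u := by
        intro q hq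
        obtain ⟨v, hv⟩ : ∃ v, v = t * q * t⁻¹ := ⟨_, rfl⟩
        obtain ⟨m, hm⟩ : ∃ m, m = v * q⁻¹ := ⟨_, rfl⟩
        have hmA : m ∈ A j.castSucc := by rw [hm, hv]; exact htriv j hji q hq
        have hmAs := (hmono j).le hmA
        have hvq : v = m * q := by rw [hm, inv_mul_cancel_right]
        have hvA : v ∈ A j.succ := hvq ▸ mul_mem hmAs hq
        obtain ⟨u, hu⟩ : ∃ u, u = (q * v) * (q * v) := ⟨_, rfl⟩
        have hqv : q * v ∈ U := by
          refine ⟨mul_mem (hAQ _ hq) (hAQ _ hvA), ?_⟩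
          have h1 : t * (q * v) * t⁻¹ = v * q := by
            rw [show t * (q * v) * t⁻¹ = t * q * t⁻¹ * (t * v * t⁻¹) by group, ← hv]
            congr 1
            rw [hv, hconj2]
          rw [h1]
          obtain ⟨i, hi⟩ : ∃ i, i = v * q * (q * v)⁻¹ := ⟨_, rfl⟩
          have hiz : i ∈ zpowers z := by
            rw [hi, show v * q * (q * v)⁻¹ = ⁅v, q⁆ by simp only [commutatorElement_def]; group]
            exact hcomm _ (hAQ _ hvA) _ (hAQ _ hq)
          have h2 : i * (i * (q * v)) = q * v := by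
            calc i * (i * (q * v)) = i * (v * q) := by rw [hi, inv_mul_cancel_right]
              _ = t * i * t⁻¹ * (t * (q * v) * t⁻¹) := by rw [htz i hiz, h1]
              _ = t * (i * (q * v)) * t⁻¹ := by group
              _ = t * (v * q) * t⁻¹ := by rw [hi, inv_mul_cancel_right]
              _ = q * v := by rw [← h1, hconj2]
          have h3 := hsq1 i (zpowers_le.2 hzQ hiz) (mul_eq_right.1 (by rw [mul_assoc]; exact h2))
          rw [hi, mul_inv_eq_one] at h3
          exact h3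
        refine ⟨q * u⁻¹, ?_, u, ⟨hu ▸ mul_mem hqv hqv, hu ▸ mul_mem (mul_mem hq hvA) (mul_mem hq hvA)⟩,
          (inv_mul_cancel_right q u).symm⟩
        have hui : u⁻¹ = q * v := by
          refine inv_eq_of_mul_eq_one_right ?_
          have h3 := hQexp _ hqv.1
          rwa [pow_succ, pow_two, ← hu] at h3
        rw [hui, hvq]
        have h3 := hQexp q (hAQ _ hq)
        rw [pow_succ, pow_two] at h3
        rw [show q * (q * (m * q)) = q * q * m * (q * q)⁻¹ * (q * q * q) by group, h3, mul_one]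
        exact hQn _ _ (mul_mem (hAQ _ hq) (hAQ _ hq)) m hmA
      let f : ↥(A j.castSucc) × ↥(U ⊓ A j.succ) → ↥(A j.succ) := fun x =>
        ⟨x.1 * x.2, mul_mem ((hmono j).le x.1.2) x.2.2.2⟩
      have hfib : ∀ q, Nat.card {x // f x = q} = Nat.card ↥(U ⊓ A j.castSucc) := by
        intro q
        obtain ⟨a, ha, u, hu, e⟩ := hsur q q.2
        refine Nat.card_congr
          { toFun := fun x => ⟨(x.1.2 : G) * u⁻¹, mem_inf.2 ⟨mul_mem x.1.2.2.1 (inv_mem hu.1), ?_⟩⟩
            invFun := fun c => ⟨(⟨a * (c : G)⁻¹, mul_mem ha (inv_mem c.2.2)⟩,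
              ⟨(c : G) * u, mem_inf.2 ⟨mul_mem c.2.1 hu.1, mul_mem ((hmono j).le c.2.2) hu.2⟩⟩), ?_⟩
            left_inv := fun x => ?_
            right_inv := fun c => ?_ }
        · have h : (x.1.1 : G) * x.1.2 = q := congrArg Subtype.val x.2
          have : (x.1.2 : G) * u⁻¹ = (x.1.1 : G)⁻¹ * a := by
            rw [mul_inv_eq_iff_eq_mul, mul_assoc, ← e, ← h, inv_mul_cancel_left]
          rw [this]
          exact mul_mem (inv_mem x.1.1.2) ha
        · refine Subtype.ext ?_
          show a * (c : G)⁻¹ * ((c : G) * u) = q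
          rw [mul_assoc, inv_mul_cancel_left, e]
        · have h : (x.1.1 : G) * x.1.2 = q := congrArg Subtype.val x.2
          refine Subtype.ext (Prod.ext (Subtype.ext ?_) (Subtype.ext ?_))
          · show a * ((x.1.2 : G) * u⁻¹)⁻¹ = x.1.1
            rw [_root_.mul_inv_rev, inv_inv, ← mul_assoc, ← e, ← h, mul_inv_cancel_right]
          · show (x.1.2 : G) * u⁻¹ * u = x.1.2
            group
        · refine Subtype.ext ?_
          show (c : G) * u * u⁻¹ = c
          group
      haveI := Fintype.ofFinite ↥(A j.succ)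
      have h := Nat.card_congr (Equiv.sigmaFiberEquiv f)
      rw [Nat.card_sigma] at h
      simp only [hfib, Finset.sum_const, Finset.card_univ, smul_eq_mul] at h
      rw [← Nat.card_eq_fintype_card, Nat.card_prod, hih] at h
      have hpos : 0 < Nat.card ↥(U ⊓ A j.castSucc) := Nat.card_pos
      exact Nat.eq_of_mul_eq_mul_right hpos (h.trans (by ring))
  have hU27 : Nat.card U = 27 := by
    have h := hprop (Fin.last r) (by rw [Fin.val_last]; exact i0.isLt)
    rw [hAr, hQcard, inf_eq_left.2 (fun q hq => hq.1 : U ≤ Q)] at h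
    omega
  -- assemble
  let Cf : Conf G :=
    { z := z, Q := Q, t := t, Q_le := hQC, normal := hnor
      card_Q := by rw [hQcard]; norm_num
      exp_Q := hQexp, comm_mem := hcomm, z_mem := hzQ, z_ne := hz1
      cent_Q := fun x hx => hCQ (mem_centralizer_iff.2 fun q hq => (hx q hq).symm)
      center_Q := fun x hx h => by
        rw [← hcenZ]
        exact ⟨⟨x, hx⟩, mem_center_iff.2 fun q => Subtype.ext (h q q.2).symm, rfl⟩
      t_mem := htC, t_sq := htt
      central := fun c hc x hx h2 => by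
        refine (hmk1 ⁅(⟨c, hc⟩ : centralizer ({z} : Set G)), ⟨x, hx⟩⁆).1 ?_
        rw [map_commutatorElement, commutatorElement_eq_one_iff_mul_comm]
        exact hpinv _ (by rw [← map_mul]; exact (hmk1 (⟨x, hx⟩ * ⟨x, hx⟩)).2 h2) _
      sylow := fun P hP hp' => Nat.le_of_dvd (by norm_num) (h3le P hP hp')
      card_fix := by rw [← hU27]; exact (Nat.card_coe_set_eq (U : Set G)).symm
      moves := fun s hs hs3 hsn => by
        by_contra hcon
        push Not at hcon
        have hsK : s ∈ K := by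
          refine (hmemK ⟨s, hs⟩).2 (Subgroup.subset_closure ?_)
          show Nat.Coprime (orderOf (mk ⟨s, hs⟩)) 2
          refine Nat.Coprime.coprime_dvd_left (orderOf_dvd_of_pow_eq_one (n := 3) ?_) (by norm_num)
          rw [← map_pow]; exact (hmk1 _).2 hs3
        -- the elements centralising the inverted part modulo the centre
        let M : Subgroup K :=
          { carrier := {k | ∀ q ∈ Q, t * q * t⁻¹ * q ∈ zpowers z → ⁅(k : G), q⁆ ∈ zpowers z}
            mul_mem' := fun {a b} ha hb q hq h => by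
              show ⁅(a : G) * b, q⁆ ∈ zpowers z
              rw [show ⁅(a : G) * b, q⁆ = (a : G) * ⁅(b : G), q⁆ * (a : G)⁻¹ * ⁅(a : G), q⁆ by simp only [commutatorElement_def]; group]
              refine mul_mem ?_ (ha q hq h)
              obtain ⟨n, hn⟩ := mem_zpowers_iff.1 (hb q hq h)
              rw [← hn, (Commute.zpow_right (show Commute (a : G) z from mem_centralizer_singleton_iff.1 (hKC a.2)) n).eq,
                mul_inv_cancel_right]
              exact zpow_mem_zpowers _ n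
            one_mem' := fun q _ _ => by simp
            inv_mem' := fun {a} ha q hq h => by
              show ⁅(a : G)⁻¹, q⁆ ∈ zpowers z
              rw [show ⁅(a : G)⁻¹, q⁆ = (a : G)⁻¹ * ⁅(a : G), q⁆⁻¹ * (a : G)⁻¹⁻¹ by simp only [commutatorElement_def]; group]
              obtain ⟨n, hn⟩ := mem_zpowers_iff.1 (inv_mem (ha q hq h))
              rw [← hn, (Commute.zpow_right (show Commute (a : G)⁻¹ z from (Commute.inv_left (mem_centralizer_singleton_iff.1 (hKC a.2)))) n).eq,
                mul_inv_cancel_right]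
              exact zpow_mem_zpowers _ n }
        have hQM : ∀ q : K, (q : G) ∈ Q → q ∈ M := fun q hq q' hq' _ => hcomm _ hq _ hq'
        have hsM : (⟨s, hsK⟩ : K) ∈ M := fun q hq h => hcon q hq h
        haveI hMn : M.Normal := ⟨fun a ha k q hq h => by
          have hk := hKC k.2
          show ⁅(k : G) * a * (k : G)⁻¹, q⁆ ∈ zpowers z
          obtain ⟨q', hq'⟩ : ∃ q', q' = (k : G)⁻¹ * q * k := ⟨_, rfl⟩
          have hq'Q : q' ∈ Q := by
            have := hnor _ (inv_mem hk) q hq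
            rwa [inv_inv, ← hq'] at this
          -- `t` commutes with `k` modulo the core
          have hkt : ⁅(k : G), t⁆ ∈ Q := by
            refine (hmk1 ⁅(⟨k, hk⟩ : centralizer ({z} : Set G)), ⟨t, htC⟩⁆).1 ?_
            rw [map_commutatorElement, commutatorElement_eq_one_iff_mul_comm]
            exact hpinv _ (by rw [← map_mul]; exact (hmk1 (⟨t, htC⟩ * ⟨t, htC⟩)).2 (by show t * t ∈ Q; rw [htt]; exact one_mem _)) _
          obtain ⟨n, hn⟩ := mem_zpowers_iff.1 (ha q' hq'Q (by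
            obtain ⟨m, hm⟩ := mem_zpowers_iff.1 h
            obtain ⟨d, hd⟩ : ∃ d, d = ⁅(k : G), t⁆ := ⟨_, rfl⟩
            have e1 : t * q' * t⁻¹ = (k : G)⁻¹ * (⁅d, t * q * t⁻¹⁆ * (t * q * t⁻¹)) * k := by
              rw [hq', hd]; simp only [commutatorElement_def]; group
            rw [e1, hq', show (k : G)⁻¹ * (⁅d, t * q * t⁻¹⁆ * (t * q * t⁻¹)) * k * ((k : G)⁻¹ * q * k) =
              (k : G)⁻¹ * (⁅d, t * q * t⁻¹⁆ * (t * q * t⁻¹ * q)) * k by group]
            have hz' : ⁅d, t * q * t⁻¹⁆ * (t * q * t⁻¹ * q) ∈ zpowers z :=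
              mul_mem (hcomm _ (hd ▸ hkt) _ (hnor t htC q hq)) h
            obtain ⟨l, hl⟩ := mem_zpowers_iff.1 hz'
            rw [← hl, mul_assoc, ((Commute.zpow_right (show Commute (k : G) z from mem_centralizer_singleton_iff.1 hk) l)).eq.symm,
              inv_mul_cancel_left]
            exact zpow_mem_zpowers _ l))
          rw [show ⁅(k : G) * a * (k : G)⁻¹, q⁆ = k * ⁅(a : G), q'⁆ * (k : G)⁻¹ by
            rw [hq']; simp only [commutatorElement_def]; group, ← hn,
            (Commute.zpow_right (show Commute (k : G) z from mem_centralizer_singleton_iff.1 hk) n).eq, mul_inv_cancel_right]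
          exact zpow_mem_zpowers _ n⟩
        -- the image of `M` is everything
        have hall : ∀ g : SL₂, ∃ x : centralizer ({zK} : Set K), (x : K) ∈ M ∧ pk x = g := by
          have hs' : (⟨s, hsK⟩ : K) ∈ centralizer ({zK} : Set K) := mem_centralizer_singleton_iff.2 (hzK _)
          obtain ⟨σ, hσ⟩ : ∃ σ, σ = pk ⟨_, hs'⟩ := ⟨_, rfl⟩
          have hσ3 : σ * σ * σ = 1 := by
            rw [hσ, ← map_mul, ← map_mul, hpker, mem_subgroupOf]
            simpa [pow_succ, pow_two] using hs3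
          have hσ1 : σ ≠ 1 := fun h => hsn (mem_subgroupOf.1 ((hpker _).1 (hσ ▸ h)))
          have h3 : ∀ x : SL₂, x * x * x = 1 → ∃ y : centralizer ({zK} : Set K), (y : K) ∈ M ∧ pk y = x := by
            intro x hx
            rcases sl_three_conj σ x hσ3 hσ1 hx with rfl | ⟨g, hg⟩
            · exact ⟨1, one_mem _, map_one _⟩
            obtain ⟨k, rfl⟩ := hpk g
            rcases hg with rfl | rfl
            · exact ⟨k * ⟨_, hs'⟩ * k⁻¹, hMn.conj_mem _ hsM _, by rw [map_mul, map_mul, map_inv, hσ]⟩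
            · exact ⟨k * (⟨_, hs'⟩ * ⟨_, hs'⟩) * k⁻¹, hMn.conj_mem _ (mul_mem hsM hsM) _, by
                rw [map_mul, map_mul, map_mul, map_inv, hσ]⟩
          intro g
          obtain ⟨a, b, d, ha, hb, hd, rfl⟩ := L43Three.sl_pair g
          obtain ⟨a', ha', rfl⟩ := h3 a ha
          obtain ⟨b', hb', rfl⟩ := h3 b hb
          obtain ⟨d', hd', rfl⟩ := h3 d hd
          exact ⟨a' * b' * d', mul_mem (mul_mem ha' hb') hd', by rw [map_mul, map_mul]⟩
        obtain ⟨x, hxM, hx⟩ := hall (pk (c ^ 3))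
        have hcM : cK ∈ M := by
          have h1 : (c ^ 3 * x⁻¹ : centralizer ({zK} : Set K)).1 ∈ Q.subgroupOf K := (hpker _).1 (by
            rw [map_mul, map_inv, hx, mul_inv_cancel])
          have := mul_mem (hQM _ (mem_subgroupOf.1 h1)) hxM
          simpa [hcK] using this
        obtain ⟨a, ha, hn⟩ := hi0t
        -- so the inverted part is central, and the involution fixes the moved step
        refine hn ?_
        obtain ⟨v, hv⟩ : ∃ v, v = t * a * t⁻¹ := ⟨_, rfl⟩
        have hvA : v ∈ A i0.succ := hv ▸ hinv _ t htK a ha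
        have h := hinv0 a ha
        -- `a` times its inverse image
        obtain ⟨q, hq⟩ : ∃ q, q = a * v⁻¹ := ⟨_, rfl⟩
        have hqQ : q ∈ Q := hq ▸ mul_mem (hAQ _ ha) (inv_mem (hAQ _ hvA))
        have hqW : t * q * t⁻¹ * q ∈ zpowers z := by
          rw [hq, show t * (a * v⁻¹) * t⁻¹ * (a * v⁻¹) = t * a * t⁻¹ * (t * v * t⁻¹)⁻¹ * a * v⁻¹ by group, ← hv,
            show t * v * t⁻¹ = a by rw [hv, hconj2], inv_mul_cancel_right, mul_inv_cancel]
          exact one_mem _
        have h1 := hcM q hqQ hqW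
        change ⁅t, q⁆ ∈ zpowers z at h1
        have hqq : q * q ∈ zpowers z := by
          have := mul_mem (inv_mem h1) hqW
          rwa [show ⁅t, q⁆⁻¹ * (t * q * t⁻¹ * q) = q * q by simp only [commutatorElement_def]; group] at this
        have hqz : q ∈ zpowers z := by
          have h3 := hQexp q hqQ
          rw [pow_succ, pow_two] at h3
          rw [show q = q * q * (q * q) by rw [← mul_assoc, h3, one_mul]]
          exact mul_mem hqq hqq
        rw [← hv, show v * a⁻¹ = q⁻¹ by rw [hq]; group]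
        exact hZA _ (inv_mem hqz) }
  obtain ⟨g, hg, hgne⟩ := hZQ
  rw [hZeq, MonoidHom.map_zpowers] at hg hgne
  have hgn : g * z * g⁻¹ ∉ zpowers z := fun h => hgne (eq_of_le_of_card_ge (zpowers_le.2 h) (by
    rw [← MonoidHom.map_zpowers, card_map_of_injective (MulAut.conj g).injective]))
  obtain ⟨P, hP⟩ : ∃ P : Pair G, P.toConf = Cf := ⟨⟨Cf, g, hg (mem_zpowers _), hgn⟩, rfl⟩
  refine ⟨P, ?_, ?_, ?_, ?_, hcard, ?_⟩
  · rw [hP]; exact hz
  · rw [hP]
  · rw [hP]
  · rw [hP]; exact htK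
  · obtain ⟨F, hF⟩ := P.exists_frame
    obtain ⟨k, hk⟩ := IsPGroup.iff_card.1 S.2
    have h1 : 243 * 3 ∣ Nat.card (S : Subgroup G) := by
      have hd : 243 * 3 ∣ Nat.card F.S := by
        obtain ⟨j, hj⟩ := IsPGroup.iff_card.1 F.isPGroup_S
        rw [hj]
        have hlt : Nat.card F.Q < Nat.card F.S := Set.Finite.card_lt_card (Set.toFinite _)
          (lt_of_le_of_ne (fun x hx => (mem_sup_left hx : x ∈ F.S)) fun e => F.s_not ((SetLike.coe_injective e).symm ▸ (mem_sup_right (mem_zpowers F.s) : F.s ∈ F.S)))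
        rw [F.card_Q, hj] at hlt
        refine pow_dvd_pow 3 (show 6 ≤ j from ?_)
        by_contra h
        have := Nat.pow_le_pow_right (show 0 < 3 by norm_num) (show j ≤ 5 by omega)
        omega
      exact S.pow_dvd_card_of_pow_dvd_card (n := 6) (hd.trans (F.S.card_subgroup_dvd_card))
    rw [hk] at h1 ⊢
    have h2 := h3le (S : Subgroup G) hSC S.2
    rw [hk] at h2
    congr 1
    have h2' := (Nat.pow_dvd_pow_iff_le_right (show 1 < 3 by norm_num)).1 (show 3 ^ k ∣ 3 ^ 6 from h2)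
    have h1' := (Nat.pow_dvd_pow_iff_le_right (show 1 < 3 by norm_num)).1 (show 3 ^ 6 ∣ 3 ^ k from h1)
    omega

end Cfsg.Agent.O8Three
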