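import Cfsg.Agent.Lib.O8Three.Start
import Cfsg.Agent.Lib.O8Three.Setting

/-!
S3372, start: the setting from the hypotheses of the statement. The group of order eight is the two-part of the
centraliser of the involution in `K`; it stabilises the chief series on the fixed part of the core, so it centralises
that part.
-/

set_option autoImplicit false
set_option linter.style.haveILetI false
set_option linter.unusedSectionVars false

namespace Cfsg.Agent.O8Three

open Subgroup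
open Cfsg.Agent.HeisSLThree (SL₂)
open scoped commutatorElement

theorem sl_comm_three : ∀ s g : SL₂, s * s * s = 1 → s ≠ 1 → g ^ 4 = 1 → g * s = s * g → g = 1 ∨ g = -1 := by
  decide +kernel

theorem sl_four_closed : ∀ a b : SL₂, a ^ 4 = 1 → b ^ 4 = 1 → (a * b) ^ 4 = 1 := by decide +kernel

theorem sl_four_nonab : ∃ a b : SL₂, a ^ 4 = 1 ∧ b ^ 4 = 1 ∧ a * b ≠ b * a := by decide +kernel

/-- The elements of `SL(2,3)` with trivial fourth power. -/
def slFour : Subgroup SL₂ where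
  carrier := {g | g ^ 4 = 1}
  one_mem' := one_pow 4
  mul_mem' := fun {a b} ha hb => sl_four_closed a b ha hb
  inv_mem' := fun {a} ha => show a⁻¹ ^ 4 = 1 by rw [inv_pow, show a ^ 4 = 1 from ha, inv_one]

instance : DecidablePred (· ∈ slFour) := fun g => decidable_of_iff (g ^ 4 = 1) Iff.rfl

theorem card_slFour : Nat.card slFour = 8 := by
  rw [Nat.card_eq_fintype_card]
  decide +kernel

/-- An element of order prime to three moving each element of a three-group into fixed points fixes it. -/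
theorem fix_of_move {G : Type*} [Group G] {c x y : G} (n : ℕ) (hn : Nat.Coprime n 3) (hc : c ^ n = 1)
    (hy : Commute c y) (h : c * x * c⁻¹ = y * x) (h3 : y ^ 3 = 1) : y = 1 := by
  have key : ∀ k : ℕ, c ^ k * x * (c ^ k)⁻¹ = y ^ k * x := by
    intro k
    induction k with
    | zero => simp
    | succ k ih =>
      rw [pow_succ', show c * c ^ k * x * (c * c ^ k)⁻¹ = c * (c ^ k * x * (c ^ k)⁻¹) * c⁻¹ by group, ih,
        show c * (y ^ k * x) * c⁻¹ = c * y ^ k * c⁻¹ * (c * x * c⁻¹) by group, (hy.pow_right k).eq,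
        mul_inv_cancel_right, h, ← mul_assoc, ← pow_succ]
  have hk := key n
  rw [hc, one_mul, inv_one, mul_one] at hk
  have hyn : y ^ n = 1 := mul_eq_right.1 hk.symm
  have hd := Nat.dvd_gcd (orderOf_dvd_of_pow_eq_one hyn) (orderOf_dvd_of_pow_eq_one h3)
  rw [hn.gcd_eq_one, Nat.dvd_one, orderOf_eq_one_iff] at hd
  exact hd

set_option maxHeartbeats 1000000 in
/-- The setting from the hypotheses of the statement. -/
theorem exists_setting {G : Type*} [Group G] [Finite G]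
    (S : Sylow 3 G) (Z : Subgroup G) (hZ : Z = (S : Subgroup G) ⊓ Subgroup.centralizer ((S : Subgroup G) : Set G))
    (C : Subgroup G) (hCZ : C = Subgroup.centralizer (Z : Set G))
    (Q : Subgroup G) (hQ : Q = (Cfsg.pCore 3 C).map C.subtype)
    (hQex : Cfsg.IsExtraspecial 3 Q) (hQcard : Nat.card Q = 3 ^ 5) (hQexp : ∀ a ∈ Q, a ^ 3 = 1)
    (hCQ : Subgroup.centralizer (Q : Set G) ≤ Q)
    (hZQ : ∃ x : G, Z.map (MulAut.conj x).toMonoidHom ≤ Q ∧ Z.map (MulAut.conj x).toMonoidHom ≠ Z)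
    (K : Subgroup G) (hK : K = ((Cfsg.pResidual 2 (C ⧸ Cfsg.pCore 3 C)).comap (QuotientGroup.mk' (Cfsg.pCore 3 C))).map C.subtype)
    (r : ℕ) (A : Fin (r + 1) → Subgroup G) (hA0 : A 0 = Z) (hAr : A (Fin.last r) = Q)
    (hmono : ∀ i : Fin r, A i.castSucc < A i.succ)
    (hinv : ∀ i : Fin (r + 1), ∀ k ∈ K, ∀ a ∈ A i, k * a * k⁻¹ ∈ A i)
    (hmax : ∀ i : Fin r, ∀ B : Subgroup G, A i.castSucc < B → B < A i.succ → ∃ k ∈ K, ∃ b ∈ B, k * b * k⁻¹ ∉ B)
    (e : Nonempty (C ⧸ Cfsg.pCore 3 C ≃* Matrix.SpecialLinearGroup (Fin 2) (ZMod 3)) ∨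
      Nonempty (C ⧸ Cfsg.pCore 3 C ≃* Matrix.SpecialLinearGroup (Fin 2) (ZMod 3) × Multiplicative (ZMod 2)))
    (hone : ∃! i : Fin r, (∃ k ∈ K, ∃ a ∈ A i.succ, k * a * k⁻¹ * a⁻¹ ∉ A i.castSucc)) :
    ∃ T : Setting G, Z = zpowers T.F.z ∧ Q = T.F.Q ∧ C = centralizer ({T.F.z} : Set G) := by
  classical
  haveI : Fact (Nat.Prime 3) := ⟨Nat.prime_three⟩
  haveI : Fact (Nat.Prime 2) := ⟨Nat.prime_two⟩
  obtain ⟨P, hPz, hPQ, hPC, hPt, -, hS⟩ :=
    exists_pair S Z hZ C hCZ Q hQ hQex hQcard hQexp hCQ hZQ K hK r A hA0 hAr hmono hinv hmax e hone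
  obtain ⟨p, hpsurj, -, hp3, -, hpres⟩ := exists_pi e
  obtain ⟨Ch, hCh⟩ := P.exists_chart
  subst hCh
  set F := Ch.F with hF
  set U := F.toPair.toConf.U with hU
  have hoz : orderOf F.z = 3 := F.toPair.toConf.order_z
  have hQC : Q ≤ C := hQ ▸ map_subtype_le _
  have hSC : (S : Subgroup G) ≤ C := fun s hs => by
    rw [hCZ, mem_centralizer_iff]
    intro t ht
    rw [hZ] at ht
    exact (mem_centralizer_iff.1 ht.2 s hs).symm
  have hZeq : Z = zpowers F.z := by
    refine (eq_of_le_of_card_ge (zpowers_le.2 hPz) ?_).symm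
    rw [Nat.card_zpowers, hoz]
    have hQS : Q ≤ (S : Subgroup G) := by
      rw [hQ]
      rintro _ ⟨x, hx, rfl⟩
      exact PBasic.pCore_le_sylow (S.subtype hSC) hx
    have hZQ' : Z ≤ Q := fun x hx => hCQ (mem_centralizer_iff.2 fun q hq => by
      rw [hZ] at hx
      exact mem_centralizer_iff.1 hx.2 q (hQS hq))
    have hle : Z ≤ (center Q).map Q.subtype := fun x hx => by
      refine ⟨⟨x, hZQ' hx⟩, mem_center_iff.2 fun q => Subtype.ext ?_, rfl⟩
      rw [hZ] at hx
      exact mem_centralizer_iff.1 hx.2 q (hQS q.2)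
    have := card_le_of_le hle
    rw [card_map_of_injective Q.subtype_injective, hQex.2] at this
    exact this
  have hCzC : F.toPair.toConf.Cz = C := hPC.symm
  haveI hcn : (Cfsg.pCore 3 C).Normal := Cfsg.pCore_normal 3 _
  set mk := QuotientGroup.mk' (Cfsg.pCore 3 C) with hmk
  have hmk1 : ∀ c : C, mk c = 1 ↔ (c : G) ∈ Q := fun c => by
    rw [hQ, ← mem_subgroupOf, subgroupOf, comap_map_eq_self_of_injective (subtype_injective _), hmk]
    exact QuotientGroup.eq_one_iff c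
  have hmemK : ∀ c : C, (c : G) ∈ K ↔ mk c ∈ Cfsg.pResidual 2 _ := fun c => by
    rw [hK, ← mem_subgroupOf, subgroupOf, comap_map_eq_self_of_injective (subtype_injective _)]
    rfl
  have hKC : K ≤ C := hK ▸ map_subtype_le _
  have hQK : Q ≤ K := fun q hq => (hmemK ⟨q, hQC hq⟩).2 (((hmk1 ⟨q, hQC hq⟩).2 hq).symm ▸ one_mem _)
  haveI hrn : (Cfsg.pResidual 2 (C ⧸ Cfsg.pCore 3 C)).Normal := PBasic.pResidual_normal_inst 2 _
  -- the order of the centraliser
  have hcard : Nat.card C = 243 * Nat.card (C ⧸ Cfsg.pCore 3 C) := by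
    rw [Subgroup.card_eq_card_quotient_mul_card_subgroup (Cfsg.pCore 3 C), mul_comm]
    congr 1
    rw [← card_map_of_injective (subtype_injective C), ← hQ, hQcard]
    norm_num
  obtain ⟨δ, hδ, hCδ⟩ : ∃ δ, (δ = 1 ∨ δ = 2) ∧ Nat.card F.toPair.toConf.Cz = 5832 * δ := by
    rw [hCzC]
    rcases e with ⟨⟨e⟩⟩ | ⟨⟨e⟩⟩
    · refine ⟨1, Or.inl rfl, ?_⟩
      rw [hcard, Nat.card_congr e.toEquiv, HeisSLThree.card_sl]
    · refine ⟨2, Or.inr rfl, ?_⟩
      rw [hcard, Nat.card_congr e.toEquiv, Nat.card_prod, HeisSLThree.card_sl, Nat.card_eq_fintype_card]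
      simp
  -- the preimage of the group of order eight in the centraliser of the involution
  have htC : F.t ∈ C := hKC hPt
  let R' : Subgroup C :=
    ((Cfsg.pResidual 2 (C ⧸ Cfsg.pCore 3 C)).comap mk ⊓ (slFour.comap (p.comp mk))) ⊓
      centralizer ({⟨F.t, htC⟩} : Set C)
  have hker : ∀ c : C, mk c ∈ Cfsg.pResidual 2 _ → p (mk c) = 1 → (c : G) ∈ Q := fun c hc h => by
    obtain ⟨y, -, -, hy⟩ := hpres 1
    exact (hmk1 c).1 ((hy _ hc h).trans (hy 1 (one_mem _) (map_one p)).symm)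
  have hfixt : ∀ c : C, mk c ∈ Cfsg.pResidual 2 _ → ∃ c' : C, mk c' = mk c ∧ Commute c' ⟨F.t, htC⟩ := by
    intro c hc
    obtain ⟨h, hh, he⟩ := F.toPair.toConf.conj_t_mem (c := (c : G)) (hCzC.symm ▸ c.2)
    have hh' : h ∈ Q := hPQ ▸ hh
    refine ⟨c * ⟨h, hQC hh'⟩, by rw [map_mul, (hmk1 ⟨h, hQC hh'⟩).2 hh', mul_one], Subtype.ext ?_⟩
    show (c : G) * h * F.t = F.t * ((c : G) * h)
    have hinv' : F.t⁻¹ = F.t := F.toPair.toConf.inv_t
    have hinv : F.t * h * F.t⁻¹ = h⁻¹ := by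
      have h1 : (F.t * h) * (F.t * h) = 1 := by
        rw [← he, show (c : G)⁻¹ * F.t * c * ((c : G)⁻¹ * F.t * c) = (c : G)⁻¹ * (F.t * F.t) * c by group, F.t_sq]
        group
      rw [show F.t * h * F.t⁻¹ = F.t * h * (F.t * h) * h⁻¹ * (F.t * F.t)⁻¹ by group, h1, F.t_sq]
      group
    have h3 : h * h * h = 1 := by
      have := F.exp_Q h hh
      rwa [pow_succ, pow_two] at this
    have h1 : h⁻¹ * F.t = F.t * h := by rw [← hinv, inv_mul_cancel_right]
    have key : ((c : G) * h)⁻¹ * F.t * (c * h) = F.t := by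
      calc ((c : G) * h)⁻¹ * F.t * (c * h) = h⁻¹ * ((c : G)⁻¹ * F.t * c) * h := by group
        _ = h⁻¹ * F.t * (h * h) := by rw [he]; group
        _ = F.t * (h * h * h) := by rw [h1]; group
        _ = F.t := by rw [h3, mul_one]
    nth_rw 1 [← key]
    group
  let q : R' →* SL₂ := (p.comp mk).comp R'.subtype
  have hqrange : ∀ g ∈ slFour, ∃ x : R', q x = g := fun g hg => by
    obtain ⟨x, hx, hxg, -⟩ := hpres g
    obtain ⟨c, rfl⟩ := QuotientGroup.mk'_surjective _ x
    obtain ⟨c', hc', hct⟩ := hfixt c hx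
    refine ⟨⟨c', mem_inf.2 ⟨mem_inf.2 ⟨mem_comap.2 ?_, mem_comap.2 ?_⟩, mem_centralizer_singleton_iff.2 hct.eq⟩⟩, ?_⟩
    · show mk c' ∈ _
      rw [hc']; exact hx
    · show p (mk c') ∈ slFour
      rw [hc', hxg]; exact hg
    · show p (mk c') = g
      rw [hc', hxg]
  have h8 : 8 ∣ Nat.card R' := by
    have hr : q.range = slFour := le_antisymm (by rintro _ ⟨x, rfl⟩; exact x.2.1.2) hqrange
    rw [← card_slFour, ← hr]
    exact card_range_dvd q
  obtain ⟨R0, hR0⟩ := Sylow.exists_subgroup_card_pow_prime 2 (show 2 ^ 3 ∣ Nat.card R' from h8)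
  have h8' : ∀ x : R0, (x : R') ^ 8 = 1 := fun x => by
    have h := pow_card_eq_one' (G := R0) (x := x)
    rw [hR0] at h
    exact congrArg Subtype.val h
  have hinj : Function.Injective (q.comp R0.subtype) := by
    rw [injective_iff_map_eq_one]
    intro x hx
    have hQx : (((x : R') : C) : G) ∈ Q := hker _ (x : R').2.1.1 hx
    have e3 : (((x : R') : C) : G) ^ 3 = 1 := hQexp _ hQx
    have e8 : (((x : R') : C) : G) ^ 8 = 1 := congrArg (fun y : R' => ((y : C) : G)) (h8' x)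
    have hd := Nat.dvd_gcd (orderOf_dvd_of_pow_eq_one e3) (orderOf_dvd_of_pow_eq_one e8)
    rw [show Nat.gcd 3 8 = 1 from rfl, Nat.dvd_one, orderOf_eq_one_iff] at hd
    exact Subtype.ext (Subtype.ext (Subtype.ext hd))
  have honto : ∀ g ∈ slFour, ∃ x : R0, q x = g := by
    have hr : (q.comp R0.subtype).range = slFour := by
      refine eq_of_le_of_card_ge (by rintro _ ⟨x, rfl⟩; exact (x : R').2.1.2) ?_
      rw [card_slFour, ← Nat.card_congr (MonoidHom.ofInjective hinj).toEquiv, hR0]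
      norm_num
    intro g hg
    rw [← hr] at hg
    exact hg
  -- the chief series
  obtain ⟨i0, -, huniq⟩ := hone
  have htriv : ∀ i : Fin r, i ≠ i0 → ∀ k ∈ K, ∀ a ∈ A i.succ, k * a * k⁻¹ * a⁻¹ ∈ A i.castSucc := fun i hi k hk a ha => by
    by_contra h
    exact hi (huniq i ⟨k, hk, a, ha, h⟩)
  have hmono' : StrictMono A := Fin.strictMono_iff_lt_succ.2 hmono
  have hAQ : ∀ i, A i ≤ Q := fun i => hAr ▸ hmono'.monotone (Fin.le_last _)
  have htQ : F.t ∉ Q := fun h => by
    have h1 := F.toPair.toConf.sq_eq_one (hPQ ▸ h) F.t_sq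
    have h27 := F.toPair.toConf.card_U
    have hUQ : U = F.Q := le_antisymm (fun q hq => hq.1) fun q hq => ⟨hq, by
      show F.t * q * F.t⁻¹ = q
      rw [h1]; group⟩
    rw [hU] at hUQ
    rw [hUQ, F.card_Q] at h27
    omega
  have hbase : ∀ a, a ∈ U → a ∈ A i0.succ → a ∈ A i0.castSucc := by
    by_contra hcon
    push Not at hcon
    obtain ⟨a, haU, haA, han⟩ := hcon
    have hnorm : U ⊓ A i0.succ ≤ normalizer (A i0.castSucc : Set G) := fun x hx => mem_normalizer_iff.2 fun y => by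
      have hxK : x ∈ K := hQK (hAQ _ hx.2)
      refine ⟨hinv _ x hxK y, fun h => ?_⟩
      have := hinv _ x⁻¹ (inv_mem hxK) _ h
      rwa [show x⁻¹ * (x * y * x⁻¹) * x⁻¹⁻¹ = y by group] at this
    set B := (U ⊓ A i0.succ) ⊔ A i0.castSucc with hB
    have hBeq : B = A i0.succ := by
      by_contra hne
      have hlt : A i0.castSucc < B := lt_of_le_of_ne le_sup_right fun h =>
        han (h.symm ▸ (mem_sup_left ⟨haU, haA⟩ : a ∈ B))
      obtain ⟨k, hk, b, hb, hn⟩ := hmax i0 B hlt (lt_of_le_of_ne (sup_le inf_le_right (hmono i0).le) hne)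
      refine hn ?_
      have hle : B ≤ B.comap (MulAut.conj k).toMonoidHom := sup_le
        (fun x hx => mem_sup_left ⟨F.toPair.toConf.conjU (hCzC.symm ▸ hKC hk) hx.1, hinv _ k hk x hx.2⟩)
        (fun x hx => mem_sup_right (hinv _ k hk x hx))
      exact hle hb
    have hall : ∀ j : Fin (r + 1), ∀ x ∈ A j, F.t * x * F.t⁻¹ = x := by
      intro j
      induction j using Fin.induction with
      | zero =>
        intro x hx
        rw [hA0, hZeq] at hx
        exact F.toPair.toConf.fix_Z F.t_mem hx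
      | succ j ih =>
        intro x hx
        by_cases hj : j = i0
        · subst hj
          rw [← hBeq, hB, ← SetLike.mem_coe, coe_mul_of_left_le_normalizer_right _ _ hnorm] at hx
          obtain ⟨u, hu, y, hy, rfl⟩ := Set.mem_mul.1 hx
          rw [show F.t * (u * y) * F.t⁻¹ = F.t * u * F.t⁻¹ * (F.t * y * F.t⁻¹) by group, ih y hy, hu.1.2]
        · obtain ⟨y, hy⟩ : ∃ y, y = F.t * x * F.t⁻¹ * x⁻¹ := ⟨_, rfl⟩
          have hyA : y ∈ A j.castSucc := hy ▸ htriv j hj F.t hPt x hx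
          have := fix_of_move 2 (by norm_num) (by rw [pow_two]; exact F.t_sq)
            (mul_inv_eq_iff_eq_mul.1 (ih y hyA)) (show F.t * x * F.t⁻¹ = y * x by rw [hy, inv_mul_cancel_right])
            (hQexp y (hAQ _ hyA))
          rw [hy, mul_inv_eq_one] at this
          exact this
    refine htQ (hCQ (mem_centralizer_iff.2 fun x hx => ?_))
    exact (mul_inv_eq_iff_eq_mul.1 (hall (Fin.last r) x (hAr.symm ▸ hx))).symm
  have hcentU : ∀ x : R0, ∀ u ∈ U, Commute (((x : R') : C) : G) u := by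
    intro x
    set c : G := (((x : R') : C) : G) with hc
    have hcK : c ∈ K := (hmemK _).2 (x : R').2.1.1
    have hct : Commute c F.t :=
      congrArg (fun y : C => (y : G)) (mem_centralizer_singleton_iff.1 (x : R').2.2)
    have hc8 : c ^ 8 = 1 := congrArg (fun y : R' => ((y : C) : G)) (h8' x)
    have hall : ∀ j : Fin (r + 1), ∀ a ∈ U, a ∈ A j → Commute c a := by
      intro j
      induction j using Fin.induction with
      | zero =>
        intro a _ ha
        rw [hA0, hZeq] at ha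
        exact F.toPair.toConf.commute_zpow (hCzC.symm ▸ hKC hcK) ha
      | succ j ih =>
        intro a haU ha
        by_cases hj : j = i0
        · subst hj; exact ih a haU (hbase a haU ha)
        · obtain ⟨y, hy⟩ : ∃ y, y = c * a * c⁻¹ * a⁻¹ := ⟨_, rfl⟩
          have hyA : y ∈ A j.castSucc := hy ▸ htriv j hj c hcK a ha
          have hyU : y ∈ U := hy ▸ mul_mem (F.toPair.toConf.conjU (hCzC.symm ▸ hKC hcK) haU) (inv_mem haU)
          have := fix_of_move 8 (by norm_num) hc8 (ih y hyU hyA)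
            (show c * a * c⁻¹ = y * a by rw [hy, inv_mul_cancel_right]) (hQexp y (hAQ _ hyA))
          rw [hy, mul_inv_eq_one, mul_inv_eq_iff_eq_mul] at this
          exact this
    intro u hu
    exact hall (Fin.last r) u hu (hAr.symm ▸ hPQ.symm ▸ hu.1)
  set R : Subgroup G := (R0.map R'.subtype).map C.subtype with hR
  have memR : ∀ y ∈ R, ∃ x : R0, (((x : R') : C) : G) = y := by
    rintro _ ⟨_, ⟨x, hx, rfl⟩, rfl⟩
    exact ⟨⟨x, hx⟩, rfl⟩
  have Rmem : ∀ x : R0, (((x : R') : C) : G) ∈ R := fun x => ⟨_, ⟨x.1, x.2, rfl⟩, rfl⟩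
  have hchar : ∀ c : R', (c : C) ^ 8 = 1 → ((c : C) : G) ∈ R := by
    intro c hc8
    obtain ⟨x, hx⟩ := honto (q c) c.2.1.2
    obtain ⟨u, hu⟩ : ∃ u : R', u = c * (x : R')⁻¹ := ⟨_, rfl⟩
    have huQ : ((u : C) : G) ∈ Q := hker _ u.2.1.1 (by
      show q u = 1
      rw [hu, map_mul, map_inv, hx, mul_inv_cancel])
    have hut : ((u : C) : G) * F.t = F.t * ((u : C) : G) :=
      congrArg (fun y : C => (y : G)) (mem_centralizer_singleton_iff.1 u.2.2)
    have huU : ((u : C) : G) ∈ U := ⟨hPQ ▸ huQ, mul_inv_eq_iff_eq_mul.2 hut.symm⟩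
    have hcu : c = u * (x : R') := by rw [hu, inv_mul_cancel_right]
    have hc' : ((c : C) : G) = ((u : C) : G) * (((x : R') : C) : G) := by rw [hcu]; rfl
    have e8 : ((c : C) : G) ^ 8 = 1 := congrArg (fun y : C => (y : G)) hc8
    rw [hc', (hcentU x _ huU).symm.mul_pow,
      show (((x : R') : C) : G) ^ 8 = 1 from congrArg (fun y : R' => ((y : C) : G)) (h8' x), mul_one] at e8
    have hd := Nat.dvd_gcd (orderOf_dvd_of_pow_eq_one (hQexp _ huQ)) (orderOf_dvd_of_pow_eq_one e8)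
    rw [show Nat.gcd 3 8 = 1 from rfl, Nat.dvd_one, orderOf_eq_one_iff] at hd
    rw [hc', hd, one_mul]
    exact Rmem x
  have htR' : (⟨F.t, htC⟩ : C) ∈ R' := by
    refine ⟨⟨(hmemK _).1 hPt, ?_⟩, mem_centralizer_singleton_iff.2 rfl⟩
    show p (mk ⟨F.t, htC⟩) ^ 4 = 1
    rw [← map_pow, ← map_pow, show (⟨F.t, htC⟩ : C) ^ 4 = 1 from Subtype.ext (by
      show F.t ^ 4 = 1
      rw [show 4 = 2 * 2 from rfl, pow_mul, pow_two F.t, F.t_sq, one_pow]), map_one, map_one]
  have htR : F.t ∈ R := hchar ⟨_, htR'⟩ (Subtype.ext (by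
    show F.t ^ 8 = 1
    rw [show 8 = 2 * 4 from rfl, pow_mul, pow_two, F.t_sq, one_pow]))
  refine ⟨{ toChart := Ch, three := ?_, δ := δ, δ_cases := hδ, card_Cz := hCδ, eight := ⟨R, ?_, htR, ?_, ?_, ?_, ?_, ?_, ?_⟩ },
    hZeq, hPQ.symm, hPC⟩
  · intro P hP
    obtain ⟨S', hS'⟩ := hP.exists_le_sylow
    have := card_le_of_le hS'
    rw [S'.card_eq_multiplicity, ← S.card_eq_multiplicity, ← hS] at this
    exact this
  · rw [hR, card_map_of_injective C.subtype_injective, card_map_of_injective R'.subtype_injective, hR0]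
    norm_num
  · intro y hy
    obtain ⟨x, rfl⟩ := memR y hy
    exact hCzC.symm ▸ ((x : R') : C).2
  · intro y hy
    obtain ⟨x, rfl⟩ := memR y hy
    exact congrArg (fun y : C => (y : G)) (mem_centralizer_singleton_iff.1 (x : R').2.2)
  · intro c hc hct y hy
    obtain ⟨x, rfl⟩ := memR y hy
    obtain ⟨cc, hcc⟩ : ∃ cc : C, (cc : G) = c := ⟨⟨c, hCzC ▸ hc⟩, rfl⟩
    subst hcc
    have hm : cc * ((x : R') : C) * cc⁻¹ ∈ R' := by
      refine mem_inf.2 ⟨mem_inf.2 ⟨mem_comap.2 ?_, mem_comap.2 ?_⟩, ?_⟩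
      · show mk (cc * ((x : R') : C) * cc⁻¹) ∈ _
        rw [map_mul, map_mul, map_inv]
        exact hrn.conj_mem _ (x : R').2.1.1 _
      · show p (mk (cc * ((x : R') : C) * cc⁻¹)) ^ 4 = 1
        rw [map_mul, map_mul, map_inv, map_mul, map_mul, map_inv, conj_pow,
          show p (mk ((x : R') : C)) ^ 4 = 1 from (x : R').2.1.2, mul_one, mul_inv_cancel]
      · have h1 : Commute cc ⟨F.t, htC⟩ := Subtype.ext hct.eq
        have h2 : Commute ((x : R') : C) ⟨F.t, htC⟩ := mem_centralizer_singleton_iff.1 (x : R').2.2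
        exact mem_centralizer_singleton_iff.2 ((h1.mul_left h2).mul_left h1.inv_left).eq
    exact hchar ⟨_, hm⟩ (by
      show (cc * ((x : R') : C) * cc⁻¹) ^ 8 = 1
      rw [conj_pow, show ((x : R') : C) ^ 8 = 1 from congrArg (fun y : R' => (y : C)) (h8' x), mul_one,
        mul_inv_cancel])
  · intro y hy u hu
    obtain ⟨x, rfl⟩ := memR y hy
    exact hcentU x u hu
  · obtain ⟨a, b, ha, hb, hab⟩ := sl_four_nonab
    obtain ⟨x, hx⟩ := honto a ha
    obtain ⟨y, hy⟩ := honto b hb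
    refine ⟨_, Rmem x, _, Rmem y, fun h => hab ?_⟩
    rw [← hx, ← hy, ← map_mul, ← map_mul,
      show (x : R') * (y : R') = (y : R') * (x : R') from Subtype.ext (Subtype.ext h)]
  · intro y hy hc
    obtain ⟨x, rfl⟩ := memR y hy
    have he : Ch.K.p4 ∈ C := hCzC ▸ F.A_le_Cz (Ch.hA ▸ Ch.K.m4)
    have hne : p (mk ⟨_, he⟩) ≠ 1 := by
      intro h
      have h3 : (mk ⟨_, he⟩) ^ 3 = 1 := by
        rw [← map_pow, show (⟨_, he⟩ : C) ^ 3 = 1 from Subtype.ext (Ch.K.exp _ Ch.K.m4), map_one]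
      exact Ch.p4_not (hPQ ▸ (hmk1 ⟨_, he⟩).1 (hp3 _ h3 h))
    have h3 : p (mk ⟨_, he⟩) * p (mk ⟨_, he⟩) * p (mk ⟨_, he⟩) = 1 := by
      rw [← map_mul, ← map_mul, ← map_mul, ← map_mul,
        show (⟨_, he⟩ : C) * ⟨_, he⟩ * ⟨_, he⟩ = 1 from Subtype.ext (by
          show Ch.K.p4 * Ch.K.p4 * Ch.K.p4 = 1
          rw [← pow_two, ← pow_succ]; exact Ch.K.exp _ Ch.K.m4), map_one, map_one]
    have hcm : p (mk ((x : R') : C)) * p (mk ⟨_, he⟩) = p (mk ⟨_, he⟩) * p (mk ((x : R') : C)) := by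
      rw [← map_mul, ← map_mul, ← map_mul, ← map_mul,
        show ((x : R') : C) * ⟨_, he⟩ = ⟨_, he⟩ * ((x : R') : C) from Subtype.ext hc.eq]
    rcases sl_comm_three _ _ h3 hne (x : R').2.1.2 hcm with h | h
    · left
      have hx1 : x = 1 := hinj (show q (x : R') = q ((1 : R0) : R') by
        rw [show ((1 : R0) : R') = 1 from rfl, map_one]; exact h)
      rw [hx1]; rfl
    · right
      obtain ⟨xt, hxt⟩ := memR F.t htR
      have hxt2 : p (mk ((xt : R') : C)) = -1 := by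
        have h2 : p (mk ((xt : R') : C)) * p (mk ((xt : R') : C)) = 1 := by
          rw [← map_mul, ← map_mul, show ((xt : R') : C) * ((xt : R') : C) = 1 from Subtype.ext (by
            show (((xt : R') : C) : G) * (((xt : R') : C) : G) = 1
            rw [hxt]; exact F.t_sq), map_one, map_one]
        refine (HeisSLThree.sq_eq_one _ h2).resolve_left fun h1 => htQ ?_
        rw [← hxt]
        exact hker _ (xt : R').2.1.1 h1
      rw [← hxt]
      exact congrArg (fun y : R0 => (((y : R') : C) : G)) (hinj (show q (x : R') = q (xt : R') from h.trans hxt2.symm))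

end Cfsg.Agent.O8Three
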