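import Cfsg.Agent.Lib.L43Three.Assembly.Act

/-!
S3372, start: a chief step on which the central involution is not trivial has order nine and is inverted.
-/

set_option autoImplicit false
set_option linter.style.haveILetI false
set_option linter.unusedSectionVars false

namespace Cfsg.Agent.O8Three

open Subgroup
open Cfsg.Agent.HeisSLThree (SL₂)
open scoped commutatorElement

variable {V : Type*} [CommGroup V] [Finite V]

theorem nine_terms (x a b c d e f : V) :
    x * a * b * (c * x * d) * (e * f * x) = x * x * x * (a * c) * (d * f) * (e * b) := by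
  ac_rfl

theorem sl_quat : ∃ u w : SL₂, u * u * u = 1 ∧ u ≠ 1 ∧ w * w = -1 ∧
    w * (u * w * u⁻¹) = -1 * ((u * w * u⁻¹) * w) ∧
    (u * (u * w * u⁻¹) * u⁻¹ = w * (u * w * u⁻¹) ∨ u * (u * w * u⁻¹) * u⁻¹ = -1 * (w * (u * w * u⁻¹))) := by
  decide +kernel

/-- A faithful irreducible action of `SL(2,3)` on an elementary abelian 3-group has order at most nine. -/
theorem card_le_nine (hexp : ∀ v : V, v ^ 3 = 1) (φ : SL₂ →* MulAut V)
    (hirr : ∀ B : Subgroup V, (∀ g, ∀ b ∈ B, φ g b ∈ B) → B = ⊥ ∨ B = ⊤)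
    (hneg : ∀ v, φ (-1) v = v⁻¹) (hne : ∃ v : V, v ≠ 1) : Nat.card V ≤ 9 := by
  classical
  haveI : Fact (Nat.Prime 3) := ⟨Nat.prime_three⟩
  obtain ⟨u, w, hu, hu1, hw, hac, hrot⟩ := sl_quat
  have happ : ∀ g g' x, φ g (φ g' x) = φ (g * g') x := fun g g' x => by rw [map_mul]; rfl
  obtain ⟨w', hw'⟩ : ∃ w', w' = u * w * u⁻¹ := ⟨_, rfl⟩
  obtain ⟨w'', hw''⟩ : ∃ w'', w'' = u * w' * u⁻¹ := ⟨_, rfl⟩
  rw [← hw'] at hac hrot
  rw [← hw''] at hrot
  have hu3 : u * w'' * u⁻¹ = w := by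
    rw [hw'', hw', show u * (u * (u * w * u⁻¹) * u⁻¹) * u⁻¹ = u * u * u * w * (u * u * u)⁻¹ by group, hu,
      inv_one, one_mul, mul_one]
  have hww' : w' * w' = -1 := by
    rw [hw', show u * w * u⁻¹ * (u * w * u⁻¹) = u * (w * w) * u⁻¹ by group, hw,
      HeisSLThree.neg_one_central, mul_assoc, mul_inv_cancel, mul_one]
  have hww'' : w'' * w'' = -1 := by
    rw [hw'', show u * w' * u⁻¹ * (u * w' * u⁻¹) = u * (w' * w') * u⁻¹ by group, hww',
      HeisSLThree.neg_one_central, mul_assoc, mul_inv_cancel, mul_one]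
  have hac' : w' * w'' = -1 * (w'' * w') := by
    rw [hw'', hw', show u * w * u⁻¹ * (u * (u * w * u⁻¹) * u⁻¹) = u * (w * (u * w * u⁻¹)) * u⁻¹ by group,
      ← hw', hac, hw', show u * (-1 * (u * w * u⁻¹ * w)) * u⁻¹ = u * (-1) * u⁻¹ * (u * (u * w * u⁻¹ * w) * u⁻¹) by group,
      HeisSLThree.neg_one_central, mul_assoc (-1 : SL₂) u, mul_inv_cancel, mul_one]
    group
  have hac'' : w'' * w = -1 * (w * w'') := by
    rw [← hu3, hw'', show u * w' * u⁻¹ * (u * (u * w' * u⁻¹) * u⁻¹) = u * (w' * (u * w' * u⁻¹)) * u⁻¹ by group,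
      ← hw'', hac', show u * (-1 * (w'' * w')) * u⁻¹ = u * (-1) * u⁻¹ * (u * (w'' * w') * u⁻¹) by group,
      HeisSLThree.neg_one_central, mul_assoc (-1 : SL₂) u, mul_inv_cancel, mul_one, hw'']
    group
  have h3 : ∀ x : V, x * x * x = 1 := fun x => by rw [← hexp x, pow_succ, pow_two]
  -- the nilpotent operator `w + w' + w''`
  let n : V →* V := (φ w).toMonoidHom * (φ w').toMonoidHom * (φ w'').toMonoidHom
  have hn : ∀ x, n x = φ w x * φ w' x * φ w'' x := fun x => rfl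
  have hnn : ∀ x, n (n x) = 1 := by
    intro x
    have hanti : ∀ g g' : SL₂, g * g' = -1 * (g' * g) → ∀ y, φ g (φ g' y) * φ g' (φ g y) = 1 := by
      intro g g' e y
      rw [happ, happ, e, ← happ (-1) (g' * g) y, hneg, inv_mul_cancel]
    have hsq : ∀ g : SL₂, g * g = -1 → φ g (φ g x) = x⁻¹ := fun g e => by rw [happ, e, hneg]
    rw [hn, hn]
    simp only [map_mul, hsq w hw, hsq w' hww', hsq w'' hww'']
    have e1 := hanti w w' hac x
    have e2 := hanti w' w'' hac' x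
    have e3 := hanti w'' w hac'' x
    rw [nine_terms, e1, e2, e3, mul_one, mul_one, mul_one, h3]
  have hker : n.ker ≠ ⊥ := by
    intro h
    obtain ⟨v, hv⟩ := hne
    have h1 : ∀ x, n x = 1 → x = 1 := fun x hx => by
      have : x ∈ n.ker := hx
      rwa [h, mem_bot] at this
    exact hv (h1 v (h1 _ (hnn v)))
  -- `u` commutes with the operator and so fixes an element of its kernel
  have hun : ∀ x, n x = 1 → n (φ u x) = 1 := by
    intro x hx
    have hmove : ∀ g g' : SL₂, u * g * u⁻¹ = g' → φ g' (φ u x) = φ u (φ g x) := fun g g' e => by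
      rw [happ, happ, ← e, inv_mul_cancel_right]
    rw [hn, hmove w'' w hu3, hmove w w' hw'.symm, hmove w' w'' hw''.symm, ← map_mul, ← map_mul,
      show φ w'' x * φ w x * φ w' x = φ w x * φ w' x * φ w'' x by simp [mul_comm, mul_left_comm], ← hn, hx,
      map_one]
  obtain ⟨v, hv, hv1, hfix⟩ : ∃ v, n v = 1 ∧ v ≠ 1 ∧ φ u v = v := by
    obtain ⟨x, hx, hx1⟩ : ∃ x, n x = 1 ∧ x ≠ 1 := by
      obtain ⟨⟨x, hx⟩, hx1⟩ := (Subgroup.nontrivial_iff_exists_ne_one _).1 ((Subgroup.nontrivial_iff_ne_bot _).2 hker) |> fun h => (⟨⟨h.choose, h.choose_spec.1⟩, fun e => h.choose_spec.2 (congrArg Subtype.val e)⟩ : ∃ x : n.ker, x ≠ 1)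
      exact ⟨x, hx, fun e => hx1 (Subtype.ext e)⟩
    -- `(u - 1)^3 = 0`
    let d : V → V := fun y => φ u y * y⁻¹
    have hd : ∀ y, n y = 1 → n (d y) = 1 := fun y hy => by
      show n (φ u y * y⁻¹) = 1
      rw [map_mul, map_inv, hun y hy, hy, inv_one, one_mul]
    by_cases e1 : d x = 1
    · exact ⟨x, hx, hx1, mul_inv_eq_one.1 e1⟩
    by_cases e2 : d (d x) = 1
    · exact ⟨d x, hd x hx, e1, mul_inv_eq_one.1 e2⟩
    refine ⟨d (d x), hd _ (hd x hx), e2, mul_inv_eq_one.1 ?_⟩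
    show φ u (φ u (φ u x * x⁻¹) * (φ u x * x⁻¹)⁻¹) * (φ u (φ u x * x⁻¹) * (φ u x * x⁻¹)⁻¹)⁻¹ = 1
    have e : φ u (φ u (φ u x)) = x := by rw [happ, happ, hu, map_one]; rfl
    simp only [map_mul, map_inv, mul_inv_rev, inv_inv, e]
    have h' := h3 (φ u (φ u x))
    have h'' := h3 (φ u x)
    calc _ = (φ u (φ u x) * φ u (φ u x) * φ u (φ u x))⁻¹ * (φ u x * φ u x * φ u x) := by
          simp [mul_comm, mul_left_comm, mul_assoc]
      _ = 1 := by rw [h', h'', inv_one, one_mul]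
  obtain ⟨B, hB⟩ : ∃ B, B = zpowers v ⊔ zpowers (φ w v) := ⟨_, rfl⟩
  have hvB : v ∈ B := hB ▸ mem_sup_left (mem_zpowers v)
  have hwvB : φ w v ∈ B := hB ▸ mem_sup_right (mem_zpowers _)
  have hwB : φ w' v ∈ B := by
    -- `w' v = -w v - w'' v` and `w'' = ± w w'`
    have e0 : φ w v * φ w' v * φ w'' v = 1 := by rw [← hn]; exact hv
    obtain ⟨a, ha⟩ : ∃ a, a = φ w' v := ⟨_, rfl⟩
    rw [← ha] at e0 ⊢
    have hwa : φ w (φ w a) = a⁻¹ := by rw [happ, hw, hneg]
    have e2 : φ w (φ w v) = v⁻¹ := by rw [happ, hw, hneg]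
    have haa : a = (a * a)⁻¹ := eq_inv_of_mul_eq_one_left (by rw [← mul_assoc]; exact h3 a)
    rcases hrot with e | e
    · have hE : φ w v * a * φ w a = 1 := by
        rw [← e0, e, ← happ, ← ha]
      have hE2 : v⁻¹ * φ w a * a⁻¹ = 1 := by
        rw [← map_one (φ w), ← hE, map_mul, map_mul, e2, hwa]
      have : a * a = (φ w v)⁻¹ * v⁻¹ := by
        have h1 := congrArg₂ (· / ·) hE hE2
        simp only [div_eq_mul_inv, mul_inv_rev, inv_inv, inv_one, mul_one] at h1
        rw [eq_comm, ← mul_inv_eq_one]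
        rw [← inv_one, ← h1]
        simp [mul_comm, mul_left_comm, mul_assoc]
      rw [haa, this]
      exact inv_mem (mul_mem (inv_mem hwvB) (inv_mem hvB))
    · have hE : φ w v * a * (φ w a)⁻¹ = 1 := by
        rw [← e0, e, ← happ, ← happ, hneg, ← ha]
      have hE2 : v⁻¹ * φ w a * a = 1 := by
        rw [← map_one (φ w), ← hE, map_mul, map_mul, map_inv, e2, hwa, inv_inv]
      have : a * a = (φ w v)⁻¹ * v := by
        have h1 := congrArg₂ (· * ·) hE hE2
        simp only [mul_one] at h1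
        rw [eq_comm, ← mul_inv_eq_one]
        rw [← inv_one, ← h1]
        simp [mul_comm, mul_left_comm, mul_assoc]
      rw [haa, this]
      exact inv_mem (mul_mem (inv_mem hwvB) hvB)
  have hgenB : ∀ g, ∀ b ∈ B, φ g b ∈ B := by
    have key : ∀ g, (φ g v ∈ B ∧ φ g (φ w v) ∈ B) → ∀ b ∈ B, φ g b ∈ B := by
      rintro g ⟨h1, h2⟩ b hb
      have : B ≤ B.comap (φ g).toMonoidHom := by
        rw [hB] at h1 h2 ⊢
        exact sup_le (zpowers_le.2 h1) (zpowers_le.2 h2)
      exact this hb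
    have hBu : ∀ b ∈ B, φ u b ∈ B := key u ⟨hfix.symm ▸ hvB, by
      rw [happ, show u * w = w' * u by rw [hw', inv_mul_cancel_right], ← happ, hfix]
      exact hwB⟩
    have hBw : ∀ b ∈ B, φ w b ∈ B := key w ⟨hwvB, by rw [happ, hw, hneg]; exact inv_mem hvB⟩
    intro g
    have hg : g ∈ Subgroup.closure ({u, w} : Set SL₂) := L43Three.sl_closure hu hu1 hw ▸ mem_top g
    induction hg using Subgroup.closure_induction with
    | mem x hx =>
        rcases hx with rfl | rfl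
        exacts [hBu, hBw]
    | one => exact fun x hx => by rw [map_one]; exact hx
    | mul x y _ _ hx hy => exact fun z hz => by rw [← happ]; exact hx _ (hy z hz)
    | inv x _ hx =>
        intro z hz
        obtain ⟨n, hn⟩ : ∃ n : ℕ, x⁻¹ = x ^ n :=
          ⟨orderOf x - 1, inv_eq_of_mul_eq_one_right (by
            rw [← pow_succ', Nat.sub_add_cancel (orderOf_pos x), pow_orderOf_eq_one])⟩
        rw [hn]
        clear hn
        induction n with
        | zero => rw [pow_zero, map_one]; exact hz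
        | succ k ih => rw [pow_succ', ← happ]; exact hx _ ih
  have hBtop : B = ⊤ := (hirr B hgenB).resolve_left fun h => hv1 (by
    rw [← mem_bot, ← h]; exact hvB)
  let f : zpowers v × zpowers (φ w v) → V := fun p => (p.1 : V) * p.2
  have hf : Function.Surjective f := fun x => by
    have hx : x ∈ B := hBtop ▸ mem_top x
    rw [hB, mem_sup] at hx
    obtain ⟨a, ha, b, hb, rfl⟩ := hx
    exact ⟨(⟨a, ha⟩, ⟨b, hb⟩), rfl⟩
  refine (Nat.card_le_card_of_surjective f hf).trans ?_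
  rw [Nat.card_prod, Nat.card_zpowers, Nat.card_zpowers]
  exact (Nat.mul_le_mul (Nat.le_of_dvd (by norm_num) (orderOf_dvd_of_pow_eq_one (hexp v)))
    (Nat.le_of_dvd (by norm_num) (orderOf_dvd_of_pow_eq_one (hexp _)))).trans (by norm_num)

variable {G : Type*} [Group G] [Finite G] {z : G} {Q : Subgroup G}

/-- A step `M < N` moved by the central involution. -/
theorem step_nine (pi : centralizer ({z} : Set G) →* SL₂) (hsurj : Function.Surjective pi)
    (hker : ∀ x : centralizer ({z} : Set G), pi x = 1 ↔ (x : G) ∈ Q)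
    (hQC : Q ≤ centralizer ({z} : Set G)) (hexp : ∀ a ∈ Q, a ^ 3 = 1)
    (hcomm : ∀ a ∈ Q, ∀ b ∈ Q, ⁅a, b⁆ ∈ zpowers z) {M N : Subgroup G} (hzM : zpowers z ≤ M)
    (hMN : M < N) (hNQ : N ≤ Q)
    (hM : ∀ c ∈ centralizer ({z} : Set G), ∀ a ∈ M, c * a * c⁻¹ ∈ M)
    (hN : ∀ c ∈ centralizer ({z} : Set G), ∀ a ∈ N, c * a * c⁻¹ ∈ N)
    (hmax : ∀ B : Subgroup G, M < B → B < N →
      ∃ c ∈ centralizer ({z} : Set G), ∃ b ∈ B, c * b * c⁻¹ ∉ B) :
    ∀ c : centralizer ({z} : Set G), pi c = -1 →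
      (∃ a ∈ N, (c : G) * a * (c : G)⁻¹ * a⁻¹ ∉ M) →
        Nat.card N = 9 * Nat.card M ∧ ∀ a ∈ N, (c : G) * a * (c : G)⁻¹ * a ∈ M := by
  classical
  haveI : Fact (Nat.Prime 3) := ⟨Nat.prime_three⟩
  have hMC : M ≤ (centralizer ({z} : Set G)) := hMN.le.trans (hNQ.trans hQC)
  have hNC : N ≤ (centralizer ({z} : Set G)) := hNQ.trans hQC
  haveI hMn : (M.subgroupOf (centralizer ({z} : Set G))).Normal := ⟨fun a ha c => hM c c.2 a ha⟩
  haveI hNn : (N.subgroupOf (centralizer ({z} : Set G))).Normal := ⟨fun a ha c => hN c c.2 a ha⟩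
  set q := QuotientGroup.mk' (M.subgroupOf (centralizer ({z} : Set G))) with hq
  set W := (N.subgroupOf (centralizer ({z} : Set G))).map q with hW
  haveI hWn : W.Normal := hNn.map q (QuotientGroup.mk'_surjective _)
  have hq1 : ∀ c : (centralizer ({z} : Set G)), q c = 1 ↔ (c : G) ∈ M := fun c => by
    rw [hq, ← MonoidHom.mem_ker, QuotientGroup.ker_mk', mem_subgroupOf]
  have hexpW : ∀ v : W, v ^ 3 = 1 := by
    rintro ⟨_, c, hc, rfl⟩
    refine Subtype.ext ?_
    show q c ^ 3 = 1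
    rw [← map_pow, hq1]
    rw [SubmonoidClass.coe_pow, hexp _ (hNQ (mem_subgroupOf.1 hc))]
    exact one_mem _
  have hcW : ∀ v w : W, v * w = w * v := by
    rintro ⟨_, c, hc, rfl⟩ ⟨_, d, hd, rfl⟩
    refine Subtype.ext ?_
    show q c * q d = q d * q c
    rw [← commutatorElement_eq_one_iff_mul_comm, ← map_commutatorElement, hq1]
    exact hzM (hcomm _ (hNQ hc) _ (hNQ hd))
  letI : CommGroup W := { (inferInstance : Group W) with mul_comm := hcW }
  have hcard : Nat.card W * Nat.card M = Nat.card N := by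
    set f : N.subgroupOf (centralizer ({z} : Set G)) →* (centralizer ({z} : Set G)) ⧸ M.subgroupOf (centralizer ({z} : Set G)) := q.comp (N.subgroupOf (centralizer ({z} : Set G))).subtype with hf
    have hr : f.range = W := by rw [hf, MonoidHom.range_comp, Subgroup.range_subtype]
    have hk : f.ker = (M.subgroupOf (centralizer ({z} : Set G))).subgroupOf (N.subgroupOf (centralizer ({z} : Set G))) := by
      ext x
      rw [MonoidHom.mem_ker, mem_subgroupOf, mem_subgroupOf]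
      exact hq1 _
    have h := Subgroup.card_eq_card_quotient_mul_card_subgroup f.ker
    rw [Nat.card_congr (QuotientGroup.quotientKerEquivRange f).toEquiv, hr, hk,
      Nat.card_congr (subgroupOfEquivOfLe (show M.subgroupOf (centralizer ({z} : Set G)) ≤ N.subgroupOf (centralizer ({z} : Set G)) from
        fun x hx => hMN.le hx)).toEquiv,
      Nat.card_congr (subgroupOfEquivOfLe hMC).toEquiv,
      Nat.card_congr (subgroupOfEquivOfLe hNC).toEquiv] at h
    exact h.symm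
  have hp : IsPGroup 3 W := fun v => ⟨1, by rw [pow_one]; exact hexpW v⟩
  obtain ⟨k, hk⟩ := IsPGroup.iff_card.1 hp
  have hk0 : k ≠ 0 := by
    rintro rfl
    rw [pow_zero] at hk
    rw [hk, one_mul] at hcard
    exact hMN.ne (eq_of_le_of_card_ge hMN.le hcard.ge)
  intro c hc hmove
  have hnt : ∃ c ∈ centralizer ({z} : Set G), ∃ a ∈ N, c * a * c⁻¹ * a⁻¹ ∉ M := ⟨c, c.2, hmove⟩
  set act0 : (centralizer ({z} : Set G)) →* MulAut W := (MulAut.conjNormal (H := W)).comp q with hact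
  have hle : pi.ker ≤ act0.ker := by
    intro c hc
    have hcQ : (c : G) ∈ Q := (hker c).1 hc
    rw [MonoidHom.mem_ker]
    refine MulEquiv.ext ?_
    rintro ⟨_, d, hd, rfl⟩
    refine Subtype.ext ?_
    show ((MulAut.conjNormal (q c)) _ : (centralizer ({z} : Set G)) ⧸ M.subgroupOf (centralizer ({z} : Set G))) = _
    rw [MulAut.conjNormal_apply]
    show q c * q d * (q c)⁻¹ = q d
    rw [mul_inv_eq_iff_eq_mul, ← commutatorElement_eq_one_iff_mul_comm, ← map_commutatorElement,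
      hq1]
    exact hzM (hcomm _ hcQ _ (hNQ hd))
  set φ : SL₂ →* MulAut W := MonoidHom.liftOfSurjective pi hsurj ⟨act0, hle⟩ with hφ
  have happ : ∀ (c : (centralizer ({z} : Set G))) (v : W), ((φ (pi c)) v : (centralizer ({z} : Set G)) ⧸ M.subgroupOf (centralizer ({z} : Set G))) = q c * v * (q c)⁻¹ := by
    intro c v
    rw [hφ, MonoidHom.liftOfRightInverse_comp_apply]
    exact MulAut.conjNormal_apply _ _
  have hne : ∃ g v, φ g v ≠ v := by
    obtain ⟨c, hc, a, ha, hnot⟩ := hnt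
    refine ⟨pi ⟨c, hc⟩, ⟨q ⟨a, hNC ha⟩, mem_map_of_mem q ha⟩, fun h => hnot ?_⟩
    have h' := congrArg Subtype.val h
    rw [happ] at h'
    refine (hq1 (⟨c, hc⟩ * ⟨a, hNC ha⟩ * ⟨c, hc⟩⁻¹ * ⟨a, hNC ha⟩⁻¹)).1 ?_
    rw [map_mul, map_mul, map_mul, map_inv, map_inv, h', mul_inv_cancel]
  have hirr : ∀ B : Subgroup W, (∀ g, ∀ b ∈ B, φ g b ∈ B) → B = ⊥ ∨ B = ⊤ := by
    intro B hB
    by_contra hcon
    push Not at hcon
    set B' : Subgroup G := ((B.map W.subtype).comap q).map (centralizer ({z} : Set G)).subtype with hB'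
    have hmem : ∀ x : G, x ∈ B' ↔ ∃ hx : x ∈ (centralizer ({z} : Set G)), ∃ v ∈ B, (v : (centralizer ({z} : Set G)) ⧸ M.subgroupOf (centralizer ({z} : Set G))) = q ⟨x, hx⟩ := by
      intro x
      constructor
      · rintro ⟨⟨y, hy⟩, ⟨v, hv, e⟩, rfl⟩
        exact ⟨hy, v, hv, e⟩
      · rintro ⟨hx, v, hv, e⟩
        exact ⟨⟨x, hx⟩, ⟨v, hv, e⟩, rfl⟩
    have hMB : M ≤ B' := fun x hx => (hmem x).2
      ⟨hMC hx, 1, one_mem _, ((hq1 ⟨x, hMC hx⟩).2 hx).symm⟩
    have hBN : B' ≤ N := by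
      intro x hx
      obtain ⟨hxC, ⟨_, d, hd, rfl⟩, -, e⟩ := (hmem x).1 hx
      have he : (d⁻¹ * ⟨x, hxC⟩ : (centralizer ({z} : Set G))).1 ∈ M := (hq1 _).1 (by
        rw [map_mul, map_inv, ← e]; exact inv_mul_cancel _)
      have hdN : (d : G) ∈ N := hd
      have := mul_mem hdN (show ((d⁻¹ * ⟨x, hxC⟩ : (centralizer ({z} : Set G))) : G) ∈ N from hMN.le he)
      simpa using this
    have hne1 : M ≠ B' := by
      intro e
      refine hcon.1 ((eq_bot_iff_forall _).2 fun v hv => ?_)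
      obtain ⟨_, d, hd, rfl⟩ := v
      have : (d : G) ∈ B' := (hmem _).2 ⟨d.2, _, hv, rfl⟩
      rw [← e] at this
      exact Subtype.ext ((hq1 d).2 this)
    have hne2 : B' ≠ N := by
      intro e
      refine hcon.2 (eq_top_iff.2 fun v _ => ?_)
      obtain ⟨_, d, hd, rfl⟩ := v
      have : (d : G) ∈ B' := by rw [e]; exact hd
      obtain ⟨hx, w, hw, e'⟩ := (hmem _).1 this
      convert hw using 1
      exact Subtype.ext e'.symm
    obtain ⟨x, hx, b, hb, hnot⟩ := hmax B' (lt_of_le_of_ne hMB hne1) (lt_of_le_of_ne hBN hne2)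
    obtain ⟨hbC, v, hv, e⟩ := (hmem b).1 hb
    refine hnot ((hmem _).2 ⟨mul_mem (mul_mem hx hbC) (inv_mem hx), _, hB (pi ⟨x, hx⟩) v hv, ?_⟩)
    rw [happ, e, ← map_inv, ← map_mul, ← map_mul]
    rfl
  have happ2 : ∀ g g' x, φ g (φ g' x) = φ (g * g') x := fun g g' x => by rw [map_mul]; rfl
  have hneg2 : ∀ x, φ (-1) (φ (-1) x) = x := fun x => by
    rw [happ2, show (-1 : SL₂) * -1 = 1 by decide +kernel, map_one]; rfl
  have hneg : ∀ x, φ (-1) x = x⁻¹ := by
    intro x
    rcases hirr (L43Three.fixedBy (φ (-1))) (fun g b hb => by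
      rw [L43Three.mem_fixedBy, happ2, ← HeisSLThree.neg_one_central, ← happ2, L43Three.mem_fixedBy.1 hb]) with h | h
    · have hm : x * φ (-1) x ∈ L43Three.fixedBy (φ (-1)) := by
        rw [L43Three.mem_fixedBy, map_mul, hneg2, mul_comm]
      rw [h, mem_bot] at hm
      exact eq_inv_of_mul_eq_one_right hm
    · exfalso
      obtain ⟨a, ha, hnot⟩ := hmove
      have hf := L43Three.mem_fixedBy.1 (h ▸ mem_top (⟨q ⟨a, hNC ha⟩, mem_map_of_mem q ha⟩ : W))
      have h' := congrArg Subtype.val hf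
      rw [← hc, happ] at h'
      refine hnot ((hq1 (c * ⟨a, hNC ha⟩ * c⁻¹ * ⟨a, hNC ha⟩⁻¹)).1 ?_)
      rw [map_mul, map_mul, map_mul, map_inv, map_inv, h', mul_inv_cancel]
  obtain ⟨gne, vne, hvne⟩ := hne
  have hv0 : vne ≠ 1 := fun e => hvne (by rw [e, map_one])
  have hle9 := card_le_nine hexpW φ hirr hneg ⟨vne, hv0⟩
  have hk2 : k = 2 := by
    rw [hk] at hle9
    have hk3 : k ≤ 2 := by
      by_contra h
      have := Nat.pow_le_pow_right (show 0 < 3 by norm_num) (show 3 ≤ k by omega)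
      omega
    rcases Nat.lt_or_ge k 2 with hlt | hge
    · exfalso
      obtain rfl : k = 1 := by omega
      rw [pow_one] at hk
      refine hvne ?_
      have hfix : ∀ s : SL₂, s * s * s = 1 → φ s = 1 := by
        intro s hs
        refine MulEquiv.ext fun x => ?_
        by_contra hx
        have hx1 : x ≠ 1 := fun e => hx (by rw [e, map_one]; exact (map_one (1 : MulAut W)).symm)
        have hgen : ∀ y : W, ∃ n : ℕ, x ^ n = y := fun y =>
          (Submonoid.mem_powers_iff _ _).1 (mem_powers_of_prime_card hk hx1)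
        obtain ⟨n, hn⟩ := hgen (φ s x)
        have h3 : φ s (φ s (φ s x)) = x := by rw [happ2, happ2, hs, map_one]; rfl
        rw [← hn, map_pow, ← hn, ← pow_mul, map_pow, ← hn, ← pow_mul] at h3
        have hord : orderOf x = 3 := orderOf_eq_prime (hexpW x) hx1
        have h4 : n % 3 = 1 := by
          have h5 : x ^ (n * (n * n)) = x ^ 1 := by rw [pow_one]; exact h3
          rw [pow_inj_mod, hord, Nat.mul_mod, Nat.mul_mod n n] at h5
          have := Nat.mod_lt n (show 3 > 0 by norm_num)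
          interval_cases hn3 : n % 3 <;> omega
        refine hx ?_
        show φ s x = x
        rw [← hn, ← pow_mod_orderOf, hord, h4, pow_one]
      obtain ⟨a, b, d, ha, hb, hd, rfl⟩ := L43Three.sl_pair gne
      rw [map_mul, map_mul, hfix a ha, hfix b hb, hfix d hd]
      rfl
    · omega
  subst hk2
  refine ⟨by rw [← hcard, hk]; norm_num, fun a ha => ?_⟩
  have h := congrArg Subtype.val (hneg ⟨q ⟨a, hNC ha⟩, mem_map_of_mem q ha⟩)
  rw [← hc, happ] at h
  have h' : q c * q ⟨a, hNC ha⟩ * (q c)⁻¹ = (q ⟨a, hNC ha⟩)⁻¹ := h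
  refine (hq1 (c * ⟨a, hNC ha⟩ * c⁻¹ * ⟨a, hNC ha⟩)).1 ?_
  rw [map_mul, map_mul, map_mul, map_inv, h', inv_mul_cancel]

end Cfsg.Agent.O8Three
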